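import Mathlib
import Cfsg.Agent.Lib.ZN.Final
import Cfsg.Agent.Lib.BSW.Inv
import Cfsg.Agent.Lib.Core.Zipper

/-!
# Groups whose involution centralizers are `2`-groups: basic facts
-/

set_option autoImplicit false

namespace Cfsg.Agent.CIT

open Subgroup Cfsg.Agent.Coprime Cfsg.Agent.OO
open scoped Pointwise

universe u

/-- no element of odd order other than `1` commutes with an involution -/
def IsCIT (G : Type*) [Group G] : Prop :=
  ∀ t x : G, t ≠ 1 → t * t = 1 → x * t = t * x → Odd (orderOf x) → x = 1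

variable {G : Type u} [Group G] {Q S T : Subgroup G} {g s t v x y z : G}

theorem IsCIT.of_injective {H : Type*} [Group H] (h : IsCIT G) (f : H →* G)
    (hf : Function.Injective f) : IsCIT H := fun t x t1 t2 e ho => hf <| by
  rw [map_one]
  exact h (f t) (f x) (fun e => t1 (hf (by rw [e, map_one]))) (by rw [← map_mul, t2, map_one])
    (by rw [← map_mul, e, map_mul]) (by rwa [orderOf_injective f hf])

theorem IsCIT.subgroup (h : IsCIT G) (H : Subgroup G) : IsCIT H :=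
  h.of_injective H.subtype H.subtype_injective

theorem exists_inv_pow (y1 : y ≠ 1) {k : ℕ} (h : y ^ 2 ^ k = 1) :
    ∃ j : ℕ, y ^ 2 ^ j ≠ 1 ∧ y ^ 2 ^ j * y ^ 2 ^ j = 1 := by
  induction k with
  | zero => exact absurd (by simpa using h) y1
  | succ k ih =>
    by_cases e : y ^ 2 ^ k = 1
    · exact ih e
    · exact ⟨k, e, by rw [← pow_add, ← two_mul, ← pow_succ', h]⟩

theorem exists_pow_of_mem (hQ : IsPGroup 2 Q) (hy : y ∈ Q) : ∃ k : ℕ, y ^ 2 ^ k = 1 := by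
  obtain ⟨k, hk⟩ := hQ ⟨y, hy⟩
  exact ⟨k, congrArg Subtype.val hk⟩

/-- an element of odd order commuting with a non-trivial `2`-element is trivial -/
theorem IsCIT.eq_one (h : IsCIT G) (hQ : IsPGroup 2 Q) (hy : y ∈ Q) (y1 : y ≠ 1)
    (e : x * y = y * x) (ho : Odd (orderOf x)) : x = 1 := by
  obtain ⟨k, hk⟩ := exists_pow_of_mem hQ hy
  obtain ⟨j, h1, h2⟩ := exists_inv_pow y1 hk
  exact h _ x h1 h2 (Commute.pow_right e _) ho

theorem IsCIT.fpf (h : IsCIT G) (hQ : IsPGroup 2 Q) (x1 : x ≠ 1) (ho : Odd (orderOf x)) :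
    ∀ y ∈ Q, x * y = y * x → y = 1 := fun _ hy e =>
  by_contra fun y1 => x1 (h.eq_one hQ hy y1 e ho)

theorem exists_inv (hQ : IsPGroup 2 Q) (h : Q ≠ ⊥) : ∃ t ∈ Q, t ≠ 1 ∧ t * t = 1 := by
  obtain ⟨y, hy, y1⟩ := (Subgroup.bot_or_exists_ne_one Q).resolve_left h
  obtain ⟨k, hk⟩ := exists_pow_of_mem hQ hy
  obtain ⟨j, h1, h2⟩ := exists_inv_pow y1 hk
  exact ⟨_, Q.pow_mem hy _, h1, h2⟩

theorem orderOf_inv' (t1 : t ≠ 1) (t2 : t * t = 1) : orderOf t = 2 :=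
  orderOf_eq_prime (by rw [sq, t2]) t1

variable [Finite G]

theorem IsCIT.cent1 (h : IsCIT G) (hQ : IsPGroup 2 Q) (hy : y ∈ Q) (y1 : y ≠ 1) :
    IsPGroup 2 𝐂[y] :=
  Transfer.isPGroup_of_forall_coprime_eq_one fun _ hg ho =>
    h.eq_one hQ hy y1 (mem_cent1.1 hg) (Nat.coprime_two_right.1 ho)

theorem IsCIT.cent_inv (h : IsCIT G) (t1 : t ≠ 1) (t2 : t * t = 1) : IsPGroup 2 𝐂[t] :=
  Transfer.isPGroup_of_forall_coprime_eq_one fun _ hg ho =>
    h _ _ t1 t2 (mem_cent1.1 hg) (Nat.coprime_two_right.1 ho)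

theorem IsCIT.cent (h : IsCIT G) (hQ : IsPGroup 2 Q) (h0 : Q ≠ ⊥) : IsPGroup 2 𝐂(Q) := by
  obtain ⟨y, hy, y1⟩ := exists_mem_ne_one h0
  exact (h.cent1 hQ hy y1).to_le (cent_le_cent1 hy)

omit [Finite G] in
theorem isCIT_of (h : ∀ t : G, t ≠ 1 → t * t = 1 → IsPGroup 2 𝐂[t]) : IsCIT G :=
  fun t _ t1 t2 e ho => Transfer.eq_one_of_coprime_of_mem_isPGroup (h t t1 t2)
    (Nat.coprime_two_right.2 ho) (mem_cent1.2 e)

theorem IsCIT.cent_eq (h : IsCIT G) (hS : Syl 2 S ⊤) (hz : z ∈ S) (z1 : z ≠ 1) (hc : S ≤ 𝐂[z]) :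
    𝐂[z] = S := hS.eq_of_le hc le_top (h.cent1 hS.isPGroup hz z1)

theorem exists_central (hS : IsPGroup 2 S) (h0 : S ≠ ⊥) :
    ∃ z ∈ S, z ≠ 1 ∧ z * z = 1 ∧ S ≤ 𝐂[z] := by
  obtain ⟨z, hz, h1, h2⟩ := exists_inv (hS.to_le (Zc_le S)) (Zc_ne_bot (nil_of_isPGroup hS) h0)
  exact ⟨z, hz.1, h1, h2, le_cent1_iff.2 hz.2⟩

/-- a fixed-point-free element is conjugate to every element of its coset -/
theorem exists_conj_of_fpf (hn : x ∈ 𝐍(Q)) (hf : ∀ y ∈ Q, x * y = y * x → y = 1) (hv : v ∈ Q) :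
    ∃ q ∈ Q, v * x = q * x * q⁻¹ := by
  have : Function.Injective fun q : Q => (⟨q * (x * q.1⁻¹ * x⁻¹),
      Q.mul_mem q.2 (conj_mem_of_norm hn (Q.inv_mem q.2))⟩ : Q) := fun ⟨a, ha⟩ ⟨b, hb⟩ e => by
    have e : a * (x * a⁻¹ * x⁻¹) = b * (x * b⁻¹ * x⁻¹) := congrArg Subtype.val e
    have := hf (b⁻¹ * a) (Q.mul_mem (Q.inv_mem hb) ha) (by
      calc x * (b⁻¹ * a) = b⁻¹ * (b * (x * b⁻¹ * x⁻¹)) * (x * a) := by group
        _ = _ := by rw [← e]; group)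
    exact Subtype.ext (inv_mul_eq_one.1 this).symm
  obtain ⟨q, hq⟩ := Finite.surjective_of_injective this ⟨v, hv⟩
  exact ⟨q, q.2, by rw [← show q.1 * (x * q.1⁻¹ * x⁻¹) = v from congrArg Subtype.val hq]; group⟩

theorem exists_odd_lift {H : Type*} [Group H] (f : G →* H) (x : G) (ho : Odd (orderOf (f x))) :
    ∃ y, f y = f x ∧ Odd (orderOf y) := by
  have := Finite.of_surjective _ f.rangeRestrict_surjective
  refine ⟨constt {2}ᶜ x, ?_, ?_⟩
  · have : f.rangeRestrict (constt {2}ᶜ x) = f.rangeRestrict x := by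
      rw [map_constt, constt_eq_self]
      refine (isPiNum_compl_singleton Nat.prime_two).2 ?_
      rw [← orderOf_coe]
      exact ho.not_two_dvd_nat
    exact congrArg Subtype.val this
  · exact Nat.coprime_two_right.1 ((Nat.Prime.coprime_iff_not_dvd Nat.prime_two).2
      ((isPiNum_compl_singleton Nat.prime_two).1 (piElt_constt _ x))).symm

/-- an element inverting an element of odd order modulo `Q` can be replaced by an involution -/
theorem IsCIT.exists_inv_of_inverts (h : IsCIT G) (hQ : IsPGroup 2 Q) (hx : x ∈ 𝐍(Q)) (x1 : x ≠ 1)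
    (ho : Odd (orderOf x)) (hs : s ∈ 𝐍(Q)) (s2 : s * s ∈ Q) (e : s * x * s⁻¹ * x ∈ Q) :
    ∃ q ∈ Q, q * s * (q * s) = 1 ∧ q * s * x * (q * s)⁻¹ = x⁻¹ := by
  obtain ⟨q, hq, e'⟩ := exists_conj_of_fpf (inv_mem hx)
    (h.fpf hQ (inv_ne_one.2 x1) (by rwa [orderOf_inv])) e
  have e1 : q⁻¹ * s * x * (q⁻¹ * s)⁻¹ = x⁻¹ := by
    rw [show q⁻¹ * s * x * (q⁻¹ * s)⁻¹ = q⁻¹ * (s * x * s⁻¹ * x * x⁻¹) * q by group, e']; group
  refine ⟨q⁻¹, inv_mem hq, h.fpf hQ x1 ho _ ?_ ?_, e1⟩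
  · rw [show q⁻¹ * s * (q⁻¹ * s) = q⁻¹ * (s * q⁻¹ * s⁻¹) * (s * s) by group]
    exact mul_mem (mul_mem (inv_mem hq) (conj_mem_of_norm hs (inv_mem hq))) s2
  · generalize q⁻¹ * s = w at e1
    have e2 : w * x⁻¹ * w⁻¹ = x := by rw [← conj_inv, e1, inv_inv]
    calc x * (w * w) = w * x⁻¹ * w⁻¹ * (w * w) := by rw [e2]
      _ = w * (w * x * w⁻¹) * w := by rw [e1]; group
      _ = _ := by group

theorem IsCIT.quot (h : IsCIT G) (Q : Subgroup G) [Q.Normal] (hQ : IsPGroup 2 Q) :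
    IsCIT (G ⧸ Q) := fun t x t1 t2 e ho => by
  obtain ⟨x, rfl⟩ := QuotientGroup.mk'_surjective Q x
  obtain ⟨t, rfl⟩ := QuotientGroup.mk'_surjective Q t
  obtain ⟨y, h1, h2⟩ := exists_odd_lift _ x ho
  rw [← h1] at e ⊢
  by_contra y1
  have y1 : y ≠ 1 := fun e => y1 (by rw [e, map_one])
  have hn : ∀ g : G, g ∈ 𝐍(Q) := fun g => by rw [normalizer_eq_top]; trivial
  obtain ⟨q, hq, e'⟩ := exists_conj_of_fpf (v := t * y * t⁻¹ * y⁻¹) (hn y) (h.fpf hQ y1 h2) (by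
    rw [← QuotientGroup.ker_mk' Q, MonoidHom.mem_ker]
    simp only [map_mul, map_inv, ← e]; group)
  have hT : IsPGroup 2 ↥(Q ⊔ zpowers t) := by
    have := (ZN.isPGroup_zpowers_inv (orderOf_inv' t1 t2)).comap_of_ker_isPGroup
      (QuotientGroup.mk' Q) (by rwa [QuotientGroup.ker_mk'])
    refine this.to_le (sup_le (fun q hq => ?_) (zpowers_le.2 (mem_zpowers _)))
    rw [mem_comap, show QuotientGroup.mk' Q q = 1 from (QuotientGroup.eq_one_iff q).2 hq]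
    exact one_mem _
  refine y1 (h.eq_one hT (y := q⁻¹ * t) (mul_mem (mem_sup_left (inv_mem hq))
    (mem_sup_right (mem_zpowers t))) (fun e => t1 ?_) ?_ h2)
  · rw [inv_mul_eq_one] at e
    exact (QuotientGroup.eq_one_iff t).2 (e ▸ hq)
  · rw [inv_mul_cancel_right] at e'
    calc y * (q⁻¹ * t) = q⁻¹ * (q * y * q⁻¹) * t := by group
      _ = _ := by rw [← e']; group

omit [Finite G] in
theorem even_dihedral (s2 : s * s = 1) (t2 : t * t = 1) {k : ℕ} (h : orderOf (s * t) = 2 * k)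
    (hk : k ≠ 0) : (s * t) ^ k ≠ 1 ∧ (s * t) ^ k * (s * t) ^ k = 1 ∧
      s * (s * t) ^ k = (s * t) ^ k * s ∧ t * (s * t) ^ k = (s * t) ^ k * t := by
  have h2 : (s * t) ^ k * (s * t) ^ k = 1 := by rw [← pow_add, ← two_mul, ← h, pow_orderOf_eq_one]
  have hs := BSW.inv_eq_of_mul_self s2
  have ht := BSW.inv_eq_of_mul_self t2
  have hi := BSW.inv_eq_of_mul_self h2
  have e1 : s * (s * t) * s⁻¹ = (s * t)⁻¹ := by rw [mul_inv_rev, hs, ht, ← mul_assoc, s2, one_mul]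
  have e2 : t * (s * t) * t⁻¹ = (s * t)⁻¹ := by rw [mul_inv_rev, hs, ← mul_assoc, mul_inv_cancel_right, ht]
  refine ⟨pow_ne_one_of_lt_orderOf hk (by omega), h2, ?_, ?_⟩
  · rw [← mul_inv_eq_iff_eq_mul, ← conj_pow, e1, inv_pow, hi]
  · rw [← mul_inv_eq_iff_eq_mul, ← conj_pow, e2, inv_pow, hi]

/-- two involutions are conjugate or generate a `2`-group -/
theorem IsCIT.conj_or (h : IsCIT G) (s2 : s * s = 1) (t2 : t * t = 1) :
    (∃ g, t = g * s * g⁻¹) ∨ IsPGroup 2 (closure ({s, t} : Set G)) := by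
  rcases Nat.even_or_odd (orderOf (s * t)) with ⟨k, hk⟩ | ho
  · obtain ⟨h1, h2, h3, h4⟩ := even_dihedral s2 t2 (hk.trans (two_mul k).symm)
      (by have := orderOf_pos (s * t); omega)
    refine Or.inr ((h.cent_inv h1 h2).to_le ((closure_le _).2 ?_))
    rintro _ (rfl | rfl)
    exacts [mem_cent1.2 h3, mem_cent1.2 h4]
  · obtain ⟨k, hk⟩ := BSW.exists_conj_of_odd s2 t2 ho
    exact Or.inl ⟨_, hk⟩

/-- if `O₂(G)` contains all involutions it is a Sylow subgroup -/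
theorem IsCIT.le_pCore (h : IsCIT G) (hi : ∀ t : G, t * t = 1 → t ∈ pCore 2 G) (hT : IsPGroup 2 T) :
    T ≤ pCore 2 G := by
  by_contra hn
  have hQ : IsPGroup 2 (pCore 2 G) := Core.isPGroup_pCore 2
  obtain ⟨s, hs, s1, s2⟩ := exists_inv (hT.map (QuotientGroup.mk' (pCore 2 G))) fun e =>
    hn (by rwa [Subgroup.map_eq_bot_iff, QuotientGroup.ker_mk'] at e)
  obtain ⟨x, x1, ho, e⟩ := Core.exists_inverted_odd_of_not_mem_pCore_two s2 (by
    rw [Core.pCore_quotient_pCore]; exact s1)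
  obtain ⟨x, rfl⟩ := QuotientGroup.mk'_surjective _ x
  obtain ⟨s, rfl⟩ := QuotientGroup.mk'_surjective _ s
  obtain ⟨y, h1, h2⟩ := exists_odd_lift _ x ho
  rw [← h1] at e x1
  have hn : ∀ g : G, g ∈ 𝐍(pCore 2 G) := fun g => by rw [normalizer_eq_top]; trivial
  obtain ⟨q, hq, h3, -⟩ := h.exists_inv_of_inverts hQ (hn y) (fun e => x1 (by rw [e, map_one])) h2
    (hn s) ((QuotientGroup.eq_one_iff _).1 s2) ((QuotientGroup.eq_one_iff _).1 (by
      have : QuotientGroup.mk' (pCore 2 G) (s * y * s⁻¹ * y) = 1 := by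
        rw [map_mul, map_mul, map_mul, map_inv, e, inv_mul_cancel]
      exact this))
  exact s1 ((QuotientGroup.eq_one_iff _).2 ((mul_mem_cancel_left hq).1 (hi _ h3)))

end Cfsg.Agent.CIT
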