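import Mathlib
import Cfsg.Agent.Lib.Lin.SL2
import Cfsg.Agent.Lib.CIT.Basic

/-!
# Centralizers in `PSL₂(q)`
-/

set_option autoImplicit false

namespace Cfsg.Agent.CIT

open Subgroup Cfsg.Agent.Lin Cfsg.Agent.OO Matrix
open scoped MatrixGroups

variable {F : Type*} [Field F] {x y : SL(2, F)}

theorem val_mul (x y : SL(2, F)) : (x * y).1 = x.1 * y.1 := rfl

theorem exists_coef (hx : x ∉ center SL(2, F)) (h : y ∈ 𝐂[x]) :
    ∃ k l : F, y.1 = k • (1 : Matrix (Fin 2) (Fin 2) F) + l • x.1 ∧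
      k ^ 2 + k * l * x.1.trace + l ^ 2 = 1 := by
  obtain ⟨k, l, e⟩ := exists_of_commute_two (a := y.1) (SL2.mem_center_iff_scalar.not.1 hx)
    (congrArg Subtype.val (show y * x = x * y from mem_cent1.1 h))
  have h3 := y.det_coe
  have h4 := x.det_coe
  rw [e] at h3
  rw [det_fin_two] at h4
  simp [det_fin_two] at h3
  exact ⟨k, l, e, by rw [trace_fin_two]; linear_combination h3 - l ^ 2 * h4⟩

theorem isCyclic_cent [Finite F] (ht : x.1.trace ^ 2 ≠ 4) : IsCyclic 𝐂[x] := by
  let i := algebraMap F (AlgebraicClosure F)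
  have h4 := x.det_coe
  rw [det_fin_two] at h4
  have hx := SL2.notMem_center_of_trace ht
  rw [trace_fin_two] at ht
  obtain ⟨c, hc⟩ : ∃ c, i (x.1 0 1) * c ^ 2 + (i (x.1 0 0) - i (x.1 1 1)) * c - i (x.1 1 0) = 0 := by
    by_cases h : x.1 0 1 = 0
    · have : i (x.1 0 0) - i (x.1 1 1) ≠ 0 := by
        rw [← map_sub, _root_.map_ne_zero, sub_ne_zero]
        exact fun e => ht (by rw [h, e] at h4; rw [e]; linear_combination 4 * h4)
      exact ⟨i (x.1 1 0) / (i (x.1 0 0) - i (x.1 1 1)), by rw [h]; field_simp; simp⟩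
    · obtain ⟨c, hc⟩ := IsAlgClosed.exists_root (Polynomial.C (i (x.1 0 1)) * Polynomial.X ^ 2 +
        Polynomial.C (i (x.1 0 0) - i (x.1 1 1)) * Polynomial.X + Polynomial.C (-i (x.1 1 0)))
        (by rw [Polynomial.degree_quadratic ((_root_.map_ne_zero i).2 h)]; decide)
      exact ⟨c, by simpa [sub_eq_add_neg] using hc⟩
  refine isCyclic_of_injective_ringHom (R := AlgebraicClosure F)
    ⟨⟨fun y => i (y.1.1 0 0) + i (y.1.1 0 1) * c, by simp⟩, fun y z => ?_⟩
    ((injective_iff_map_eq_one _).2 fun y hy => ?_)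
  · obtain ⟨k, l, e, -⟩ := exists_coef hx z.2
    simp [mul_apply, e]
    linear_combination (-i (y.1.1 0 1) * i l) * hc
  · obtain ⟨k, l, e, h1⟩ := exists_coef hx y.2
    simp [e] at hy
    have h5 := congrArg i h4
    have h6 := congrArg i h1
    simp [trace_fin_two] at h5 h6
    have h7 : i (l ^ 2 * ((x.1 0 0 + x.1 1 1) ^ 2 - 4)) = 0 := by
      simp only [map_mul, map_pow, map_sub, map_add, map_ofNat]
      generalize i (x.1 0 0) = a at *
      generalize i (x.1 0 1) = b at *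
      generalize i (x.1 1 0) = d at *
      generalize i (x.1 1 1) = f at *
      generalize i k = k at *
      generalize i l = l at *
      have h8 : l * (a + f - 2 * (a + b * c)) = 0 := by
        linear_combination h6 + l ^ 2 * h5 - (k + l * (f - b * c) - 1 + 2) * hy - l ^ 2 * b * hc
      linear_combination (l * (a + f - 2 * (a + b * c))) * h8 + 4 * l ^ 2 * h5 - 4 * l ^ 2 * b * hc
    rw [_root_.map_eq_zero, mul_eq_zero, sub_eq_zero, or_iff_left ht, pow_eq_zero_iff two_ne_zero] at h7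
    subst h7
    simp only [map_zero, zero_mul, add_zero] at hy
    exact Subtype.ext (Subtype.ext (by simp [e, i.injective (hy.trans (map_one i).symm)]))

theorem trace_sq_of_cent (hx : x ∉ center SL(2, F)) (ht : x.1.trace ^ 2 = 4) (h : y ∈ 𝐂[x]) :
    y.1.trace ^ 2 = 4 := by
  obtain ⟨k, l, e, h1⟩ := exists_coef hx h
  simp [e]
  linear_combination 4 * h1 + l ^ 2 * ht

theorem card_cent_le [Fintype F] (hx : x ∉ center SL(2, F)) (ht : x.1.trace ^ 2 = 4) :
    ♯𝐂[x] ≤ ♯(center SL(2, F)) * Fintype.card F := by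
  obtain ⟨ε, h1, h2⟩ : ∃ ε : F, ε ^ 2 = 1 ∧ x.1.trace = 2 * ε := by
    rcases sq_eq_sq_iff_eq_or_eq_neg.1 (show x.1.trace ^ 2 = 2 ^ 2 by rw [ht]; norm_num) with h | h
    exacts [⟨1, by simp, by simp [h]⟩, ⟨-1, by simp, by simp [h]⟩]
  choose k l e h using fun y : 𝐂[x] => exists_coef hx y.2
  rw [← Nat.card_eq_fintype_card, ← Nat.card_prod]
  refine Nat.card_le_card_of_injective (fun y => (⟨⟨scalar _ (k y + l y * ε), ?_⟩,
    SL2.mem_center_iff_scalar.2 ⟨_, rfl⟩⟩, l y)) fun y z hh => ?_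
  · have := h y
    simp [h2] at this ⊢
    exact sq_eq_one_iff.1 (by linear_combination this + l y ^ 2 * h1)
  · have h3 : l y = l z := congrArg Prod.snd hh
    have h4 : k y + l y * ε = k z + l z * ε := congrArg (fun w => w.1.1.1 0 0) hh
    exact Subtype.ext (Subtype.ext (by rw [e, e, h3, show k y = k z by rw [h3] at h4; simpa using h4]))

theorem mem_center_of_sq (ht : x.1.trace ≠ 0) (h : x * x ∈ center SL(2, F)) :
    x ∈ center SL(2, F) := by
  obtain ⟨r, hr⟩ := SL2.mem_center_iff_scalar.1 h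
  rw [val_mul, SL2.mul_self] at hr
  refine SL2.mem_center_iff_scalar.2 ⟨(r + 1) / x.1.trace, ?_⟩
  rw [← smul_right_inj ht, eq_add_of_sub_eq hr.symm]
  ext i j; fin_cases i <;> fin_cases j <;> simp <;> field_simp

/-- an element centralizing `x` modulo the centre centralizes or negates `x` -/
theorem comm_or (h : (y : PSL(2, F)) ∈ 𝐂[(x : PSL(2, F))]) :
    y ∈ 𝐂[x] ∨ y * x = -(x * y) := by
  have h1 : ((y * x : SL(2, F)) : PSL(2, F)) = (x * y : SL(2, F)) := mem_cent1.1 h
  obtain ⟨r, h2, hr⟩ := Matrix.SpecialLinearGroup.mem_center_iff.1 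
    ((QuotientGroup.eq (s := center SL(2, F)) (a := y * x) (b := x * y)).1 h1)
  simp only [Fintype.card_fin, sq_eq_one_iff] at h2
  rcases h2 with rfl | rfl
  · exact Or.inl (mem_cent1.2 (inv_mul_eq_one.1 (Subtype.ext (by rw [← hr]; simp))))
  · refine Or.inr ?_
    have : (y * x)⁻¹ * (x * y) = -1 := Subtype.ext (by rw [← hr, map_neg, map_one]; simp)
    rw [inv_mul_eq_iff_eq_mul.1 this, mul_neg_one, neg_neg]

theorem cent_eq_map (h : 2 * x.1.trace ≠ 0 ∨ (2 : F) = 0) :
    𝐂[(x : PSL(2, F))] = 𝐂[x].map (QuotientGroup.mk' _) := by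
  refine le_antisymm (fun y hy => ?_) ?_
  · obtain ⟨y, rfl⟩ := QuotientGroup.mk_surjective y
    refine ⟨y, (comm_or hy).elim id fun e => ?_, rfl⟩
    rcases h with h | h
    · have h1 : y * x * y⁻¹ = -x := by rw [e]; simp
      have h2 := congrArg (fun z => z.1.trace) h1
      simp only [val_mul] at h2
      rw [trace_mul_comm, ← Matrix.mul_assoc, ← val_mul, inv_mul_cancel] at h2
      simp at h2
      exact absurd (by linear_combination h2) h
    · exact mem_cent1.2 (e.trans (Subtype.ext (by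
        ext i j; simp only [SpecialLinearGroup.coe_neg, Matrix.neg_apply]; linear_combination (-(x * y).1 i j) * h)))
  · rintro _ ⟨y, hy, rfl⟩
    exact mem_cent1.2 (congrArg (QuotientGroup.mk' _) (mem_cent1.1 hy))

variable [Fintype F]

/-- the centralizer of an element that is not an involution in odd characteristic -/
theorem cent_cases (p : ℕ) [CharP F p] {u : PSL(2, F)} (u1 : u ≠ 1) (h : u * u ≠ 1 ∨ (2 : F) = 0) :
    IsCyclic 𝐂[u] ∨ (IsPGroup p 𝐂[u] ∧ ♯𝐂[u] ≤ Fintype.card F) := by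
  obtain ⟨x, rfl⟩ := QuotientGroup.mk_surjective u
  have hx : x ∉ center SL(2, F) := (QuotientGroup.eq_one_iff x).not.1 u1
  have h1 : 2 * x.1.trace ≠ 0 ∨ (2 : F) = 0 := by
    by_contra! hh
    refine h.elim (fun h => h ((QuotientGroup.eq_one_iff (x * x)).2
      (SL2.mem_center_iff_scalar.2 ⟨-1, ?_⟩))) hh.2
    rw [val_mul, SL2.mul_self, (mul_eq_zero.1 hh.1).resolve_left hh.2, map_neg, map_one]; simp
  rw [cent_eq_map h1]
  by_cases ht : x.1.trace ^ 2 = 4
  · refine Or.inr ⟨?_, ?_⟩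
    · rintro ⟨_, y, hy, rfl⟩
      have h2 := SL2.pow_eq_one_of_trace p (trace_sq_of_cent hx ht hy)
      by_cases h3 : (2 : F) = 0
      · obtain rfl : p = 2 := CharP.eq F ‹_› (CharTwo.of_one_ne_zero_of_two_eq_zero one_ne_zero h3)
        exact ⟨2, Subtype.ext (congrArg (QuotientGroup.mk' _) h2)⟩
      · exact ⟨1, Subtype.ext ((QuotientGroup.eq_one_iff (y ^ p ^ 1)).2
          (SL2.mem_center_of_sq_eq_one h3 (by rw [← pow_mul, pow_one, mul_comm, h2])))⟩
    · have h2 := card_cent_le hx ht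
      rw [← card_mul_relIndex (center_le_centralizer _), ← QuotientGroup.ker_mk' (center _),
        relIndex_ker] at h2
      exact Nat.le_of_mul_le_mul_left h2 (card_pos' _)
  · have := isCyclic_cent ht
    exact Or.inl (isCyclic_of_surjective _ ((QuotientGroup.mk' _).subgroupMap_surjective _))

/-- the centralizer of an involution in odd characteristic -/
theorem cent_inv (h2 : (2 : F) ≠ 0) {u : PSL(2, F)} (u1 : u ≠ 1) (h : u * u = 1) :
    ∃ K : Subgroup PSL(2, F), IsCyclic K ∧ u ∈ K ∧ 2 ∣ ♯K ∧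
      (2 * ♯K = Fintype.card F - 1 ∨ 2 * ♯K = Fintype.card F + 1) ∧
      ∀ a ∈ 𝐂[u], ∀ b ∈ 𝐂[u], a ∉ K → b ∉ K → a * b ∈ K := by
  obtain ⟨x, rfl⟩ := QuotientGroup.mk_surjective u
  have hx : x ∉ center SL(2, F) := (QuotientGroup.eq_one_iff x).not.1 u1
  have h0 : x.1.trace = 0 := by_contra fun e =>
    hx (mem_center_of_sq e ((QuotientGroup.eq_one_iff (x * x)).1 h))
  have ht : x.1.trace ^ 2 ≠ 4 := fun e => h2 (pow_eq_zero_iff (n := 2) two_ne_zero |>.1 (by
    rw [h0] at e; linear_combination -e))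
  have := isCyclic_cent ht
  have hu : (x : PSL(2, F)) ∈ 𝐂[x].map (QuotientGroup.mk' _) := ⟨x, mem_cent1_self x, rfl⟩
  refine ⟨_, isCyclic_of_surjective _ ((QuotientGroup.mk' _).subgroupMap_surjective _), hu,
    (orderOf_inv' u1 h).symm.dvd.trans (OO.orderOf_dvd_card hu), ?_, fun a ha b hb ha' hb' => ?_⟩
  · have h3 : ♯(center SL(2, F)) = 2 := le_antisymm SL2.card_center_le (one_lt_card fun e => by
      have h : (-1 : SL(2, F)) ∈ center SL(2, F) := mem_center_iff.2 fun g => by simp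
      rw [e, mem_bot] at h
      have := congrArg (fun x : SL(2, F) => x.1 0 0) h
      simp at this
      exact h2 (by linear_combination -this))
    have h4 := card_mul_relIndex (center_le_centralizer ({x} : Set SL(2, F)))
    rw [h3] at h4
    rw [← relIndex_ker, QuotientGroup.ker_mk', h4]
    exact SL2.card_centralizer h2 ht
  · obtain ⟨a, rfl⟩ := QuotientGroup.mk_surjective a
    obtain ⟨b, rfl⟩ := QuotientGroup.mk_surjective b
    have h3 := (comm_or ha).resolve_left fun e => ha' ⟨a, e, rfl⟩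
    have h4 := (comm_or hb).resolve_left fun e => hb' ⟨b, e, rfl⟩
    exact ⟨a * b, mem_cent1.2 (by rw [mul_assoc, h4, mul_neg, ← mul_assoc, h3]; simp [mul_assoc]), rfl⟩

end Cfsg.Agent.CIT
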