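import Mathlib
import Cfsg.Agent.Lib.CIT.Basic
import Cfsg.Agent.Lib.ODD.Main
import Cfsg.Agent.S3784

/-!
# `CIT`-groups whose Sylow `2`-subgroup has a self-centralizing four-group
-/

set_option autoImplicit false

namespace Cfsg.Agent.CIT

open Subgroup Cfsg.Agent.Coprime Cfsg.Agent.OO
open scoped Pointwise commutatorElement

universe u

variable {G : Type u} [Group G] [Finite G] {A K S : Subgroup G} {a s t z : G}

/-- `PSL₂(q)` with `q = 9` or `q ≥ 5` a Fermat or Mersenne prime -/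
def IsFM (G : Type*) [Group G] : Prop := ∃ (F : Type) (_ : Field F) (_ : Fintype F),
  5 ≤ Fintype.card F ∧ (Fintype.card F = 9 ∨ ((Fintype.card F).Prime ∧
    ∃ k : ℕ, Fintype.card F = 2 ^ k + 1 ∨ Fintype.card F + 1 = 2 ^ k)) ∧
  Nonempty (G ≃* Matrix.ProjectiveSpecialLinearGroup (Fin 2) F)

theorem isFM_of_hyp (h : ODD.Hyp K t s) (hK : IsPGroup 2 K) (h0 : pPrimeCore 2 G = ⊥)
    (h2 : pCore 2 G = ⊥) : IsFM G := by
  obtain ⟨F, _, _, -, h5, h6, e⟩ := h.main h0 h2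
  obtain ⟨k, hk⟩ := hK.exists_card_eq
  obtain ⟨p, _, ⟨n, hn⟩, hp, hF⟩ := FiniteField.card' F
  refine ⟨F, _, _, h5, ?_, e⟩
  rw [hk, ← pow_succ'] at h6
  rcases h6 with h6 | h6
  · rcases S3784.result p 2 n (k + 1) hp Nat.prime_two hn (by omega) (hF ▸ h6.symm) with
      ⟨-, h7, -⟩ | ⟨-, rfl, -⟩ | ⟨h7, -⟩
    · rw [h7] at h6; omega
    · exact Or.inr ⟨by simpa [hF] using hp, _, Or.inl h6.symm⟩
    · exact Or.inl (hF.trans h7)
  · rcases S3784.result 2 p (k + 1) n Nat.prime_two hp (by omega) hn (hF ▸ h6) with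
      ⟨-, rfl, -⟩ | ⟨-, h7, -⟩ | ⟨h7, -⟩
    · exact Or.inr ⟨by simpa [hF] using hp, _, Or.inr h6.symm⟩
    · rw [h7] at h6; omega
    · have : 2 ∣ 2 ^ (k + 1) := dvd_pow_self _ (by omega)
      omega

omit [Finite G] in
theorem eq_of_mem_zpowers {k : ℕ} (ha : orderOf a = 2 ^ (k + 1)) (ht : t ∈ zpowers a) (t1 : t ≠ 1)
    (t2 : t * t = 1) : t = a ^ 2 ^ k := by
  obtain ⟨i, rfl⟩ := ht
  simp only at t1 t2 ⊢
  rw [← zpow_add, ← orderOf_dvd_iff_zpow_eq_one, ha, ← two_mul, pow_succ'] at t2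
  push_cast at t2
  obtain ⟨j, rfl⟩ := (mul_dvd_mul_iff_left two_ne_zero).1 t2
  have h1 : (a ^ (2 ^ k : ℤ)) ^ (2 : ℤ) = 1 := by
    rw [← zpow_mul, ← orderOf_dvd_iff_zpow_eq_one, ha]; push_cast; rw [pow_succ]
  rw [← zpow_natCast]; push_cast
  rcases Int.even_or_odd' j with ⟨m, rfl | rfl⟩
  · exact absurd (by rw [zpow_mul, zpow_mul, h1, one_zpow]) t1
  · rw [zpow_mul, zpow_add, zpow_mul, h1, one_zpow, one_mul, zpow_one]

theorem hyp_of_dihedral (hC : IsCIT G) (hG : pResidual 2 G = ⊤) (hS : Syl 2 S ⊤) (ha : a ∈ S)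
    (hi : (zpowers a).relIndex S = 2) (a1 : a ≠ 1) (hs : s ∈ S) (hs' : s ∉ zpowers a)
    (s2 : s * s = 1) (e : s * a * s⁻¹ = a⁻¹) : ∃ t, ODD.Hyp (zpowers a) t s := by
  obtain ⟨k, hk⟩ := (Nat.dvd_prime_pow Nat.prime_two).1
    (orderOf_dvd_of_pow_eq_one (exists_pow_of_mem hS.isPGroup ha).choose_spec)
  obtain ⟨k, rfl⟩ := Nat.exists_eq_succ_of_ne_zero (n := k) (by
    rintro rfl; exact a1 (orderOf_eq_one_iff.1 hk.2))
  have hk := hk.2
  have t1 : a ^ 2 ^ k ≠ 1 := pow_ne_one_of_lt_orderOf (by positivity)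
    (hk ▸ Nat.pow_lt_pow_right one_lt_two k.lt_succ_self)
  have t2 : a ^ 2 ^ k * a ^ 2 ^ k = 1 := by
    rw [← pow_add, ← two_mul, ← pow_succ', ← hk, pow_orderOf_eq_one]
  have tK : a ^ 2 ^ k ∈ zpowers a := npow_mem_zpowers _ _
  have inv : ∀ x ∈ zpowers a, s * x * s⁻¹ = x⁻¹ := by
    rintro _ ⟨i, rfl⟩; simp only [← conj_zpow, e, inv_zpow]
  have hle : zpowers a ≤ S := zpowers_le.2 ha
  have hc : 𝐂[a ^ 2 ^ k] = S := hC.cent_eq hS (hle tK) t1 (ZN.le_of_relIndex_two hi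
    (zpowers_le.2 (mem_cent1.2 (Commute.self_pow a _))) hs hs'
    (mem_cent1_iff_conj.2 ((inv _ tK).trans (BSW.inv_eq_of_mul_self t2))))
  have oc : ∀ u : G, u ≠ 1 → u * u = 1 → IsConj u (a ^ 2 ^ k) := fun u u1 u2 => by
    obtain ⟨g, hg⟩ := ZN.exists_conj_mem hS hle hi (hG ▸ mem_top u) (by rw [sq, u2])
    exact isConj_iff.2 ⟨g, eq_of_mem_zpowers hk hg (BSW.conj_ne_one u1) (BSW.conj_mul_self u2)⟩
  refine ⟨_, tK, t1, t2, hs', s2, inv, fun g => ?_, fun x hx x1 g hg => ?_,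
    fun u v u1 u2 v1 v2 => (oc u u1 u2).trans (oc v v1 v2).symm⟩
  · rw [← mem_cent1, hc]
    refine ⟨fun hg => ?_, fun hg => hg.elim (hle ·) fun hg => (mul_mem_cancel_right hs).1 (hle hg)⟩
    rw [ZN.mul_mem_iff_of_relIndex_two hi hg hs]; tauto
  · obtain ⟨j, hj⟩ := exists_pow_of_mem hS.isPGroup (hle hx)
    obtain ⟨j, h1, h2⟩ := exists_inv_pow x1 hj
    have h3 := eq_of_mem_zpowers hk (pow_mem hx _) h1 h2
    have h4 := eq_of_mem_zpowers hk (pow_mem hg (2 ^ j)) (by rw [conj_pow]; exact BSW.conj_ne_one h1)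
      (by rw [conj_pow]; exact BSW.conj_mul_self h2)
    rw [conj_pow, h3] at h4
    exact mul_inv_eq_iff_eq_mul.1 h4

/-- the semidihedral case is excluded by transfer -/
theorem inverts_of_dqs (hC : IsCIT G) (hG : pResidual 2 G = ⊤) (hS : Syl 2 S ⊤) {n : ℕ} {x y s : S}
    (h : PGrp.IsDQS n x y) (hs : s ∉ zpowers x) (s2 : s * s = 1) : s * x * s⁻¹ = x⁻¹ := by
  by_contra hne
  obtain ⟨k, hk1, -, hk⟩ := h.exists_conj'
  obtain ⟨m, rfl⟩ := Nat.exists_eq_add_of_le' h.1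
  have ho := h.2.2.1
  have hz : ∀ u ∈ zpowers x, u ≠ 1 → u * u = 1 → u = x ^ 2 ^ (m + 1) := fun u =>
    eq_of_mem_zpowers ho
  have hZ := h.center_eq
  have hM : ∀ u : S, u * u = 1 → u ∈ zpowers s ⊔ frattini S := fun u u2 => by
    rw [h.frattini_eq]
    by_cases hu : u ∈ zpowers x
    · by_cases u1 : u = 1
      · exact u1 ▸ one_mem _
      · rw [hz u hu u1 u2, pow_succ' 2 m, pow_mul]; exact mem_sup_right (npow_mem_zpowers _ _)
    obtain ⟨i, hi⟩ := h.mul_inv_mem hu hs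
    simp only at hi
    rw [eq_mul_inv_iff_mul_eq] at hi
    subst hi
    refine mul_mem (mem_sup_right ?_) (mem_sup_left (mem_zpowers s))
    rcases Int.even_or_odd' i with ⟨j, rfl | rfl⟩
    · exact ⟨j, by simp [zpow_mul]⟩
    refine absurd ?_ hne
    have h1 : x ^ (2 * j + 1) * (s * x ^ (2 * j + 1) * s⁻¹) = 1 := by
      rw [BSW.inv_eq_of_mul_self s2, ← u2]; group
    rw [hk s hs, ← zpow_add, ← orderOf_dvd_iff_zpow_eq_one, ho,
      show 2 * j + 1 + k * (2 * j + 1) = (k + 1) * (2 * j + 1) by ring] at h1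
    have h2 := IsCoprime.dvd_of_dvd_mul_right (IsCoprime.pow_left (m := m + 2)
      (⟨-j, 1, by ring⟩ : IsCoprime (2 : ℤ) (2 * j + 1))) (by exact_mod_cast h1)
    have h3 := hk s hs 1
    rw [zpow_one, mul_one] at h3
    rw [h3, eq_inv_iff_mul_eq_one, ← zpow_add_one, ← orderOf_dvd_iff_zpow_eq_one, ho]
    exact_mod_cast h2
  have hsq : ∀ u : S, u * u ≠ 1 → u * u * (u * u) = 1 → u * u = x ^ 2 ^ (m + 1) := fun u h1 h2 =>
    hz _ (by rw [← sq]; exact sq_mem_of_index_two h.index u) h1 h2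
  have z1 : x ^ 2 ^ (m + 1) ≠ 1 := pow_ne_one_of_lt_orderOf (by positivity)
    (ho ▸ Nat.pow_lt_pow_right one_lt_two (Nat.lt_succ_self _))
  have hc : 𝐂[((x ^ 2 ^ (m + 1) : S) : G)] = S := hC.cent_eq hS (Subtype.mem _)
    (fun e => z1 (Subtype.ext e)) fun g hg => mem_cent1.2 (congrArg Subtype.val
      (mem_center_iff.1 (hZ ▸ mem_zpowers _) ⟨g, hg⟩))
  obtain ⟨P, rfl⟩ := hS.exists_sylow_top
  have := Transfer.sylow_inf_pResidual_le_of_fusion P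
    (M := (zpowers s ⊔ frattini P).map (P : Subgroup G).subtype) fun u hu g _ hg => by
      by_cases u2 : u * u = 1
      · exact mul_mem (inv_mem ⟨⟨u, hu.1⟩, hM _ (Subtype.ext u2), rfl⟩)
          ⟨⟨_, hg⟩, hM _ (Subtype.ext (BSW.conj_mul_self u2)), rfl⟩
      obtain ⟨j, hj⟩ := exists_pow_of_mem P.isPGroup' (mul_mem hu.1 hu.1)
      obtain ⟨j, h1, h2⟩ := exists_inv_pow u2 hj
      rw [(Commute.refl u).mul_pow] at h1 h2
      have h3 := hsq ⟨_, pow_mem hu.1 (2 ^ j)⟩ (fun e => h1 (congrArg Subtype.val e)) (Subtype.ext h2)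
      have h5 : (g * u * g⁻¹) ^ 2 ^ j * (g * u * g⁻¹) ^ 2 ^ j = g * (u ^ 2 ^ j * u ^ 2 ^ j) * g⁻¹ := by
        rw [conj_pow]; group
      have h4 := hsq ⟨_, pow_mem hg (2 ^ j)⟩
        (fun e => BSW.conj_ne_one h1 (h5.symm.trans (congrArg Subtype.val e)))
        (Subtype.ext (by
          have := BSW.conj_mul_self (g := g) h2
          rwa [← h5] at this))
      have h6 : g ∈ (P : Subgroup G) := hc ▸ mem_cent1_iff_conj.2 (by
        rw [← h3]; exact h5.symm.trans (congrArg Subtype.val (h4.trans h3.symm)))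
      refine ⟨(⟨u, hu.1⟩ : P)⁻¹ * (⟨g, h6⟩ * ⟨u, hu.1⟩ * (⟨g, h6⟩ : P)⁻¹), mem_sup_right ?_, rfl⟩
      rw [h.frattini_eq, ← h.commutator_eq, show ∀ a b : P, a⁻¹ * (b * a * b⁻¹) = ⁅a⁻¹, b⁆ from
        fun a b => by simp [commutatorElement_def, mul_assoc]]
      exact commutator_mem_commutator (mem_top _) (mem_top _)
  rw [hG, inf_top_eq, le_map_subtype_iff le_rfl, subgroupOf_self, top_le_iff] at this
  have h7 := frattini_nongenerating this
  obtain ⟨i, hi⟩ : x ∈ zpowers s := h7 ▸ mem_top x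
  exact h.not_commute hs (by rw [← hi]; exact Commute.self_zpow s i)

theorem exists_hyp (hC : IsCIT G) (hG : pResidual 2 G = ⊤) (hS : Syl 2 S ⊤) (hA : IsEp 2 2 A S)
    (hc : S ⊓ 𝐂(A) ≤ A) : ∃ K t s, ODD.Hyp K t s ∧ K ≤ S ∧ K.relIndex S = 2 := by
  have key : ∀ a : G, ∃ s ∈ A, s ∉ zpowers a := fun a => by
    by_contra! hh
    exact hA.not_isCyclic le_rfl (isCyclic_of_le' inferInstance hh)
  by_cases e : A = S
  · subst e
    obtain ⟨a, ha, a1, a2⟩ := exists_inv hS.isPGroup (hA.ne_bot two_ne_zero)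
    obtain ⟨s, hs, hs'⟩ := key a
    have hi : (zpowers a).relIndex A = 2 := by
      have := card_mul_relIndex (zpowers_le.2 ha)
      rw [hA.card, Nat.card_zpowers, orderOf_inv' a1 a2] at this; omega
    obtain ⟨t, ht⟩ := hyp_of_dihedral hC hG hS ha hi a1 hs hs' (by rw [← sq, hA.abelem.2 s hs])
      (by rw [ab_iff.1 hA.ab s hs a ha, BSW.inv_eq_of_mul_self a2, mul_inv_cancel_right])
    exact ⟨_, _, _, ht, zpowers_le.2 ha, hi⟩
  obtain ⟨n, hn⟩ := hS.isPGroup.exists_card_eq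
  have h4 := card_lt (lt_of_le_of_ne hA.le e)
  rw [hA.card, hn, Nat.pow_lt_pow_iff_right one_lt_two] at h4
  obtain ⟨n, rfl⟩ : ∃ m, n = m + 3 := ⟨n - 3, by omega⟩
  obtain ⟨x, y, hxy⟩ := PGrp.dqs_of_maxClass hn (PGrp.nilpotencyClass_eq_of_centralizer_le
    (n := n + 1) hn (A := A.subgroupOf S) (by rw [Core.card_subgroupOf_of_le hA.le, hA.card])
    (Core.centralizer_le_iff_map_subtype.2 (by rwa [map_subgroupOf_eq_of_le hA.le])))
  obtain ⟨s, hs, hs'⟩ := key x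
  have s2 : s * s = 1 := by rw [← sq, hA.abelem.2 s hs]
  have hi : (zpowers (x : G)).relIndex S = 2 := by
    rw [← hxy.index, ← relIndex_map_subtype, MonoidHom.map_zpowers]; rfl
  obtain ⟨t, ht⟩ := hyp_of_dihedral hC hG hS x.2 hi (fun e => hxy.not_commute hxy.2.2.2.1
    (by rw [show x = 1 from Subtype.ext e, mul_one, one_mul])) (hA.le hs) hs' s2
    (congrArg Subtype.val (inverts_of_dqs hC hG hS (s := ⟨s, hA.le hs⟩) hxy
      (fun ⟨i, hi⟩ => hs' ⟨i, congrArg Subtype.val hi⟩) (Subtype.ext s2)))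
  exact ⟨_, _, _, ht, zpowers_le.2 x.2, hi⟩

theorem isFM_of_four (hC : IsCIT G) (hG : pResidual 2 G = ⊤) (h0 : pPrimeCore 2 G = ⊥)
    (h2 : pCore 2 G = ⊥) (hS : Syl 2 S ⊤) (hA : IsEp 2 2 A S) (hc : S ⊓ 𝐂(A) ≤ A) : IsFM G := by
  obtain ⟨K, t, s, h, hK, -⟩ := exists_hyp hC hG hS hA hc
  exact isFM_of_hyp h (hS.isPGroup.to_le hK) h0 h2

end Cfsg.Agent.CIT
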