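import Mathlib
import Cfsg.Agent.Lib.CIT.Basic

/-!
# Modules on which all elements of odd order act without fixed points
-/

set_option autoImplicit false

namespace Cfsg.Agent.CIT

open Subgroup Cfsg.Agent.Coprime Cfsg.Agent.OO
open scoped Pointwise commutatorElement

universe u v

/-- the integral group ring -/
abbrev ZH (H : Type*) [Group H] := MonoidAlgebra ℤ H

/-- the action of the group on a module for the group ring -/
noncomputable def act (H : Type*) [Group H] (M : Type*) [AddCommGroup M] [Module (ZH H) M] :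
    H →* AddMonoid.End M :=
  (Module.toAddMonoidEnd (ZH H) M).toMonoidHom.comp (MonoidAlgebra.of ℤ H)

@[inherit_doc] scoped notation:73 g:74 " ⋆ " m:73 => act _ _ g m

variable {H : Type u} [Group H] {M M' U U' W : Type*} [AddCommGroup M] [Module (ZH H) M]
  [AddCommGroup M'] [Module (ZH H) M'] {g s u v x y z : H} {m : M}

theorem act_def (g : H) (m : M) : g ⋆ m = MonoidAlgebra.of ℤ H g • m := rfl

theorem mul_act (g h : H) (m : M) : (g * h) ⋆ m = g ⋆ h ⋆ m := by rw [map_mul]; rfl

@[simp] theorem one_act (m : M) : (1 : H) ⋆ m = m := by rw [map_one]; rfl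

@[simp] theorem inv_act_act (g : H) (m : M) : g⁻¹ ⋆ g ⋆ m = m := by
  rw [← mul_act, inv_mul_cancel, one_act]

@[simp] theorem act_inv_act (g : H) (m : M) : g ⋆ g⁻¹ ⋆ m = m := by
  rw [← mul_act, mul_inv_cancel, one_act]

/-- the action of a group element as an additive map -/
noncomputable def actH (M : Type*) [AddCommGroup M] [Module (ZH H) M] (g : H) : M →+ M := act H M g

@[simp] theorem actH_apply (g : H) (m : M) : actH M g m = g ⋆ m := rfl

theorem act_mem {N : Submodule (ZH H) M} (g : H) (h : m ∈ N) : g ⋆ m ∈ N := N.smul_mem _ h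

@[simp] theorem coe_act {N : Submodule (ZH H) M} (g : H) (n : N) : ((g ⋆ n : N) : M) = g ⋆ (n : M) :=
  rfl

theorem map_act (f : M →ₗ[ZH H] M') (g : H) (m : M) : f (g ⋆ m) = g ⋆ f m := f.map_smul _ _

theorem pow_fix (h : g ⋆ m = m) (k : ℕ) : (g ^ k) ⋆ m = m := by
  induction k with
  | zero => simp
  | succ k ih => rw [pow_succ, mul_act, h, ih]

/-- an invariant subgroup as a submodule -/
def mkSub (N : AddSubgroup M) (h : ∀ g : H, ∀ m ∈ N, g ⋆ m ∈ N) : Submodule (ZH H) M where
  toAddSubmonoid := N.toAddSubmonoid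
  smul_mem' r m hm := by
    induction r using MonoidAlgebra.induction_on with
    | of g => exact h g m hm
    | add a b ha hb => rw [add_smul]; exact N.add_mem ha hb
    | smul k a ha => rw [zsmul_eq_mul, mul_smul, Int.cast_smul_eq_zsmul]; exact N.zsmul_mem ha k

theorem eq_bot_or_top [IsSimpleModule (ZH H) M] (N : AddSubgroup M)
    (h : ∀ g : H, ∀ m ∈ N, g ⋆ m ∈ N) : (∀ m ∈ N, m = 0) ∨ ∀ m, m ∈ N :=
  (eq_bot_or_eq_top (mkSub N h)).imp (fun e m (hm : m ∈ mkSub N h) => by simpa [e] using hm)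
    fun e m => show m ∈ mkSub N h by simp [e]

/-- a finite abelian `2`-group on which elements of odd order act without fixed points -/
structure Fpf (H : Type u) [Group H] (M : Type*) [AddCommGroup M] [Module (ZH H) M] : Prop where
  fin : Finite M
  two : ∃ k : ℕ, ∀ m : M, 2 ^ k • m = 0
  fpf : ∀ g : H, g ≠ 1 → Odd (orderOf g) → ∀ m : M, g ⋆ m = m → m = 0

namespace Fpf

theorem of_injective (h : Fpf H M) (f : M' →ₗ[ZH H] M) (hf : Function.Injective f) : Fpf H M' where
  fin := have := h.fin; Finite.of_injective f hf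
  two := h.two.imp fun k hk m => hf (by rw [map_nsmul, hk, map_zero])
  fpf g g1 ho m e := hf (by rw [map_zero]; exact h.fpf g g1 ho _ (by rw [← map_act, e]))

theorem sub (h : Fpf H M) (N : Submodule (ZH H) M) : Fpf H N :=
  h.of_injective N.subtype N.subtype_injective

theorem surj (h : Fpf H M) (g1 : g ≠ 1) (ho : Odd (orderOf g)) (m : M) : ∃ n, g ⋆ n - n = m := by
  have := h.fin
  refine Finite.surjective_of_injective (f := fun n : M => g ⋆ n - n) (fun a b e => ?_) m
  refine sub_eq_zero.1 (h.fpf g g1 ho _ ?_)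
  rw [map_sub, sub_eq_sub_iff_sub_eq_sub]; exact e

theorem quot (h : Fpf H M) (N : Submodule (ZH H) M) : Fpf H (M ⧸ N) where
  fin := have := h.fin; Finite.of_surjective _ N.mkQ_surjective
  two := h.two.imp fun k hk m => by
    obtain ⟨m, rfl⟩ := N.mkQ_surjective m
    rw [← map_nsmul, hk, map_zero]
  fpf g g1 ho m e := by
    obtain ⟨m, rfl⟩ := N.mkQ_surjective m
    rw [← map_act, ← sub_eq_zero, ← map_sub, Submodule.mkQ_apply, Submodule.Quotient.mk_eq_zero] at e
    obtain ⟨n, hn⟩ := (h.sub N).surj g1 ho ⟨_, e⟩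
    have : g ⋆ (n : M) - n = g ⋆ m - m := congrArg Subtype.val hn
    rw [← sub_eq_zero.1 (h.fpf g g1 ho (n - m) (by rw [map_sub, sub_eq_sub_iff_sub_eq_sub, this]))]
    exact (Submodule.Quotient.mk_eq_zero N).2 n.2

theorem sum_eq_zero (h : Fpf H M) (g1 : g ≠ 1) (ho : Odd (orderOf g)) {n : ℕ} (e : g ^ n = 1)
    (m : M) : ∑ i ∈ Finset.range n, (g ^ i) ⋆ m = 0 := h.fpf g g1 ho _ (by
  have := Finset.sum_range_succ' (fun i => (g ^ i) ⋆ m) n
  simp only [Finset.sum_range_succ, e, pow_succ', mul_act, pow_zero, add_left_inj] at this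
  rw [map_sum, ← this])

theorem three (h : Fpf H M) (hx : orderOf x = 3) (m : M) : m + x ⋆ m + x ⋆ x ⋆ m = 0 := by
  have := h.sum_eq_zero (g := x) (by rintro rfl; simp at hx) (by rw [hx]; decide)
    (hx ▸ pow_orderOf_eq_one x) m
  simpa [Finset.sum_range_succ, sq, mul_act] using this

/-- fixed points of an involution inverting an element of odd order are norms -/
theorem exists_norm (h : Fpf H M) (y1 : y ≠ 1) (ho : Odd (orderOf y))
    (e : u * y * u⁻¹ = y⁻¹) (hm : u ⋆ m = m) : ∃ n, m = n + u ⋆ n := by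
  have := h.fin
  have inj : Function.Injective fun n : M => y ⋆ n + y⁻¹ ⋆ n := fun a b e => by
    have e1 : y ⋆ y ⋆ (a - b) = -(a - b) := by
      have := congrArg (y ⋆ ·) e
      simp only [map_add, act_inv_act] at this
      rw [map_sub, map_sub, sub_eq_iff_eq_add, ← add_left_inj a, this]; abel
    refine sub_eq_zero.1 (h.fpf (y ^ 4) (fun e => y1 ?_) (Odd.of_dvd_nat ho (orderOf_pow_dvd _)) _ ?_)
    · exact orderOf_eq_one_iff.1 (Nat.Coprime.eq_one_of_dvd ((Nat.coprime_two_right.2 ho).pow_right 2)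
        (orderOf_dvd_of_pow_eq_one e))
    · rw [show y ^ 4 = y * y * (y * y) by simp [pow_succ, mul_assoc], mul_act, mul_act, mul_act, e1, map_neg, map_neg,
        e1, neg_neg]
  have e1 : u * y = y⁻¹ * u := by rw [← e]; group
  have e2 : u * y⁻¹ = y * u := by rw [← mul_inv_eq_iff_eq_mul, ← conj_inv, e, inv_inv]
  obtain ⟨n, hn⟩ := Finite.surjective_of_injective inj m
  have e3 : u ⋆ n = n := inj (by
    simp only at hn ⊢
    rw [← mul_act, ← mul_act, ← e1, ← e2, mul_act, mul_act, ← map_add, add_comm, hn, hm])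
  exact ⟨y ⋆ n, by rw [← mul_act, e1, mul_act, e3]; exact hn.symm⟩

theorem two_of_simple (h : Fpf H M) [IsSimpleModule (ZH H) M] (m : M) : m + m = 0 := by
  obtain ⟨k, hk⟩ := h.two
  rcases eq_bot_or_top (H := H) (nsmulAddMonoidHom (α := M) 2).range (by
    rintro g _ ⟨m, rfl⟩; exact ⟨g ⋆ m, by simp [two_nsmul]⟩) with e | e
  · exact e _ ⟨m, two_nsmul m⟩
  · have : ∀ j : ℕ, ∀ m : M, ∃ n, 2 ^ j • n = m := fun j => by
      induction j with
      | zero => exact fun m => ⟨m, by simp⟩
      | succ j ih =>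
        intro m
        obtain ⟨n, rfl⟩ := ih m
        obtain ⟨n, rfl⟩ := e n
        exact ⟨n, by rw [pow_succ, mul_smul]; rfl⟩
    obtain ⟨n, rfl⟩ := this k m
    rw [hk, add_zero]

theorem induction {P : ∀ (M : Type v) [AddCommGroup M] [Module (ZH H) M], Prop}
    (h0 : ∀ (M : Type v) [AddCommGroup M] [Module (ZH H) M], Subsingleton M → P M)
    (h1 : ∀ (M : Type v) [AddCommGroup M] [Module (ZH H) M] (N : Submodule (ZH H) M), Fpf H M →
      IsSimpleModule (ZH H) N → P (M ⧸ N) → (∀ N' : Submodule (ZH H) M, N' ≠ ⊤ → P N') → P M)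
    {M : Type v} [AddCommGroup M] [Module (ZH H) M] (h : Fpf H M) : P M := by
  induction hn : Nat.card M using Nat.strong_induction_on generalizing M with
  | _ n ih =>
  have := h.fin
  rcases subsingleton_or_nontrivial M with e | e
  · exact h0 M e
  obtain ⟨N, hN, -⟩ := (eq_bot_or_exists_atom_le (⊤ : Submodule (ZH H) M)).resolve_left top_ne_bot
  refine h1 M N h (isSimpleModule_iff_isAtom.2 hN) (ih _ ?_ (h.quot N) rfl)
    fun N' hN' => ih _ ?_ (h.sub N') rfl
  · have := Submodule.nontrivial_iff_ne_bot.2 hN.1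
    have := (h.quot N).fin
    rw [← hn, Submodule.card_eq_card_quotient_mul_card N]
    exact lt_mul_of_one_lt_left Nat.card_pos Finite.one_lt_card
  · obtain ⟨m, hm⟩ : ∃ m, m ∉ N' := by
      by_contra! e
      exact hN' (eq_top_iff.2 fun m _ => e m)
    exact hn ▸ Finite.card_subtype_lt hm

end Fpf

/-- equivariant biadditive maps -/
def Eqv (H : Type u) [Group H] [AddCommGroup U] [Module (ZH H) U] [AddCommGroup U']
    [Module (ZH H) U'] [AddCommGroup W] [Module (ZH H) W] (β : U →+ U' →+ W) : Prop :=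
  ∀ (g : H) a b, β (g ⋆ a) (g ⋆ b) = g ⋆ β a b

/-- no products between the modules with property `P` -/
def NoProd (H : Type u) [Group H]
    (P : ∀ (M : Type u) [AddCommGroup M] [Module (ZH H) M], Prop) : Prop :=
  ∀ (U U' W : Type u) [AddCommGroup U] [Module (ZH H) U] [AddCommGroup U'] [Module (ZH H) U']
    [AddCommGroup W] [Module (ZH H) W], Fpf H U → Fpf H U' → Fpf H W → P U → P U' → P W →
    ∀ β : U →+ U' →+ W, Eqv H β → β = 0

/-- the conclusion of the theorems of Higman and Martineau -/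
structure Mart (H : Type u) [Group H] : Prop where
  prod : NoProd H fun _ _ _ => True
  two : ∀ (M : Type u) [AddCommGroup M] [Module (ZH H) M], Fpf H M → ∀ m : M, m + m = 0

theorem Eqv.eq_zero_left {U U' W : Type u} [AddCommGroup U] [Module (ZH H) U] [AddCommGroup U']
    [Module (ZH H) U'] [AddCommGroup W] [Module (ZH H) W]
    (h : ∀ (U : Type u) [AddCommGroup U] [Module (ZH H) U], Fpf H U → IsSimpleModule (ZH H) U →
      ∀ β : U →+ U' →+ W, Eqv H β → β = 0) (hU : Fpf H U) : ∀ β : U →+ U' →+ W, Eqv H β → β = 0 := by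
  refine Fpf.induction (H := H) (P := fun V _ _ => ∀ β : V →+ U' →+ W, Eqv H β → β = 0)
    (fun U _ _ _ β _ => ?_) (fun U _ _ N hU hN ih _ β hβ => ?_) hU
  · refine AddMonoidHom.ext fun a => ?_
    rw [Subsingleton.elim a 0, map_zero, map_zero]
  · have h1 := h N (hU.sub N) hN (β.comp N.subtype.toAddMonoidHom) fun g a b => hβ g a.1 b
    obtain ⟨γ, hγ⟩ : ∃ γ : (U ⧸ N) →+ U' →+ W, ∀ a, γ (N.mkQ a) = β a :=
      ⟨N.mkQ.toAddMonoidHom.liftOfSurjective N.mkQ_surjective ⟨β, fun a ha =>
        AddMonoidHom.mem_ker.2 (DFunLike.congr_fun h1 ⟨a, (Submodule.Quotient.mk_eq_zero N).1 ha⟩)⟩,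
        fun a => AddMonoidHom.liftOfRightInverse_comp_apply _ _ _ _ a⟩
    have h2 := ih γ fun g a b => by
      obtain ⟨a, rfl⟩ := N.mkQ_surjective a
      rw [← map_act, hγ, hγ, hβ]
    refine AddMonoidHom.ext fun a => ?_
    rw [← hγ, h2, AddMonoidHom.zero_apply, AddMonoidHom.zero_apply]

theorem NoProd.of_simple (h : NoProd H fun M _ _ => IsSimpleModule (ZH H) M) :
    NoProd H fun _ _ _ => True := fun U U' W _ _ _ _ _ _ hU hU' hW _ _ _ => by
  refine hW.induction (P := fun W _ _ => ∀ β : U →+ U' →+ W, Eqv H β → β = 0)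
    (fun W _ _ _ β _ => ?_) fun W _ _ N hW hN ih _ β hβ => ?_
  · ext a b; exact Subsingleton.elim _ _
  have h1 := ih (β.compr₂ N.mkQ.toAddMonoidHom) fun g a b => by
    simp only [AddMonoidHom.compr₂_apply, hβ g a b]; exact map_act N.mkQ g _
  have h2 : ∀ a b, β a b ∈ N := fun a b =>
    (Submodule.Quotient.mk_eq_zero N).1 (DFunLike.congr_fun (DFunLike.congr_fun h1 a) b)
  obtain ⟨γ, hγ⟩ : ∃ γ : U →+ U' →+ N, ∀ a b, (γ a b : W) = β a b :=
    ⟨AddMonoidHom.mk' (fun a => (β a).codRestrict N (h2 a)) fun a a' => by ext b; simp,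
      fun _ _ => rfl⟩
  have h3 := Eqv.eq_zero_left (fun U _ _ hU hs β hβ => by
    have := Eqv.eq_zero_left (fun U' _ _ hU' hs' β hβ => h U' U N hU' hU (hW.sub N) hs' hs hN β hβ)
      hU' β.flip fun g a b => hβ g b a
    ext1 a; ext1 b; exact DFunLike.congr_fun (DFunLike.congr_fun this b) a) hU γ
    fun g a b => Subtype.ext (by rw [coe_act, hγ, hγ, hβ])
  ext a b
  rw [← hγ, h3]; rfl

end Cfsg.Agent.CIT
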