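import Mathlib
import Cfsg.Agent.Lib.CIT.Mod

/-!
# Normal `2`-subgroups of `CIT`-groups as modules; elements of order three
-/

set_option autoImplicit false

namespace Cfsg.Agent.CIT

open Subgroup Cfsg.Agent.Coprime Cfsg.Agent.OO
open scoped Pointwise commutatorElement

universe u

variable {H : Type u} [Group H] {M : Type*} [AddCommGroup M] [Module (ZH H) M]
  {g s u v x y z : H} {m : M} {X : Type u} [Group X] {A : Subgroup X} {π : X →* H} {ι : M → X}

/-- `M` is the abelian normal subgroup `A` of `X` as a module for the quotient `H` -/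
structure Sec (A : Subgroup X) (π : X →* H) (M : Type*) [AddCommGroup M] [Module (ZH H) M]
    (ι : M → X) : Prop where
  add : ∀ a b, ι (a + b) = ι a * ι b
  inj : Function.Injective ι
  mem : ∀ a, ι a ∈ A
  surj : ∀ x ∈ A, ∃ a, ι a = x
  conj : ∀ g a, ι (π g ⋆ a) = g * ι a * g⁻¹

theorem exists_sec (A : Subgroup X) [A.Normal] (hA : Ab A) (hs : Function.Surjective π)
    (hk : π.ker ≤ 𝐂(A)) : ∃ (M : Type u) (_ : AddCommGroup M) (_ : Module (ZH H) M) (ι : M → X),
      Sec A π M ι := by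
  let _ : CommGroup A := { (inferInstance : Group A) with mul_comm := hA.is_comm.comm }
  let ψ : H →* MulAut A := π.liftOfSurjective hs ⟨MulAut.conjNormal, fun g hg => by
    ext a
    exact mem_cent_iff_conj.1 (hk hg) a a.2⟩
  have hψ : ∀ g, ψ (π g) = MulAut.conjNormal g := fun g =>
    MonoidHom.liftOfRightInverse_comp_apply _ _ _ _ g
  let ρ : Representation ℤ H (Additive A) :=
    { toFun h := (MonoidHom.toAdditive (ψ h).toMonoidHom).toIntLinearMap
      map_one' := by rw [map_one]; rfl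
      map_mul' a b := by rw [map_mul]; rfl }
  refine ⟨ρ.asModule, inferInstance, inferInstance, fun a => (Additive.toMul (α := A) a : A),
    fun _ _ => rfl, fun a b e => Subtype.ext e, fun a => Subtype.prop _, fun x hx => ⟨⟨x, hx⟩, rfl⟩,
    fun g a => ?_⟩
  have : π g ⋆ a = ρ (π g) a := LinearMap.congr_fun (ρ.asAlgebraHom_of (π g)) a
  rw [this]
  exact congrArg Subtype.val (DFunLike.congr_fun (hψ g) _)

theorem Sec.zero (h : Sec A π M ι) : ι 0 = 1 := by simpa using h.add 0 0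

theorem Sec.nsmul (h : Sec A π M ι) (k : ℕ) (a : M) : ι (k • a) = ι a ^ k := by
  induction k with
  | zero => simp [h.zero]
  | succ k ih => rw [succ_nsmul, h.add, ih, pow_succ]

theorem Sec.fpf [Finite X] (h : Sec A π M ι) (hC : IsCIT X) (hA : IsPGroup 2 A)
    (hs : Function.Surjective π) : Fpf H M where
  fin := Finite.of_injective ι h.inj
  two := by
    obtain ⟨k, hk⟩ := hA.exists_card_eq
    exact ⟨k, fun m => h.inj (by
      rw [h.nsmul, h.zero, ← hk]
      exact congrArg Subtype.val (pow_card_eq_one' (x := (⟨_, h.mem m⟩ : A))))⟩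
  fpf g g1 ho m e := by
    obtain ⟨g, rfl⟩ := hs g
    obtain ⟨y, h1, h2⟩ := exists_odd_lift π g ho
    rw [← h1] at e g1
    refine h.inj (h.zero ▸ hC.fpf hA (fun e => g1 (by rw [e, map_one])) h2 _ (h.mem m) ?_)
    rw [← mul_inv_eq_iff_eq_mul, ← h.conj, e]

theorem Mart.elem (hM : Mart H) {X : Type u} [Group X] [Finite X] (hC : IsCIT X) {π : X →* H}
    (hs : Function.Surjective π) (hQ : IsPGroup 2 π.ker) : ∀ x ∈ π.ker, x * x = 1 := by
  induction hn : Nat.card X using Nat.strong_induction_on generalizing X with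
  | _ n ih =>
  by_cases h0 : π.ker = ⊥
  · intro x hx; rw [h0, mem_bot] at hx; rw [hx, mul_one]
  have hZ : (Zc π.ker).Normal := normalIn_top.1 (normalIn_top.2 inferInstance).Zc
  have hZ2 : IsPGroup 2 (Zc π.ker) := hQ.to_le (Zc_le _)
  let π' := QuotientGroup.lift (Zc π.ker) π (Zc_le _)
  have hs' : Function.Surjective π' := QuotientGroup.lift_surjective_of_surjective _ _ hs _
  have hQ' : IsPGroup 2 π'.ker := by rw [QuotientGroup.ker_lift]; exact hQ.map _
  have h1 := ih _ (by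
    rw [← hn, card_eq_card_quotient_mul_card_subgroup (Zc π.ker)]
    exact lt_mul_of_one_lt_right Nat.card_pos (one_lt_card (Zc_ne_bot (nil_of_isPGroup hQ) h0)))
    (hC.quot _ hZ2) hs' hQ' rfl
  have h2 := abelem_ab (ZN.abelem_of_sq fun x hx => (sq x).trans (h1 x hx))
  obtain ⟨U, _, _, i, hU⟩ := exists_sec _ h2 hs' h2.le_cent
  obtain ⟨W, _, _, j, hW⟩ := exists_sec _ (Zc_ab π.ker) hs (le_cent_Zc _)
  choose l hl using fun a : U => QuotientGroup.mk'_surjective _ (i a)
  have hQ1 : ∀ a : X, QuotientGroup.mk' _ a ∈ π'.ker ↔ a ∈ π.ker := fun _ => Iff.rfl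
  have hc : ∀ a ∈ π.ker, ∀ b ∈ π.ker, ⁅a, b⁆ ∈ Zc π.ker := fun a ha b hb => by
    rw [← QuotientGroup.eq_one_iff, ← QuotientGroup.mk'_apply, map_commutatorElement,
      commutatorElement_eq_one_iff_mul_comm]
    exact ab_iff.1 h2 _ ((hQ1 a).2 ha) _ ((hQ1 b).2 hb)
  have lm : ∀ a, l a ∈ π.ker := fun a => (hQ1 _).1 (hl a ▸ hU.mem a)
  choose c hc' using fun a b : U => hW.surj _ (hc _ (lm a) _ (lm b))
  have cz : ∀ a ∈ π.ker, ∀ b ∈ π.ker, ∀ z ∈ Zc π.ker, ⁅a * z, b⁆ = ⁅a, b⁆ := fun a ha b hb z hz => by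
    rw [commutatorElement_def, commutatorElement_def, mul_assoc a, ← (mem_Zc.1 hz).2 b hb]; group
  have key : ∀ a' b' x y, QuotientGroup.mk' _ x = i a' → QuotientGroup.mk' _ y = i b' →
      j (c a' b') = ⁅x, y⁆ := fun a b x y hx hy => by
    obtain ⟨z, hz, rfl⟩ := (QuotientGroup.mk'_eq_mk' _).1 ((hl a).trans hx.symm)
    obtain ⟨z', hz', rfl⟩ := (QuotientGroup.mk'_eq_mk' _).1 ((hl b).trans hy.symm)
    rw [hc', cz _ (lm a) _ (mul_mem (lm b) (Zc_le _ hz')) _ hz, ← commutatorElement_inv,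
      ← commutatorElement_inv (l b * z'), cz _ (lm b) _ (lm a) _ hz']
  have cm : ∀ a ∈ π.ker, ∀ a' ∈ π.ker, ∀ b ∈ π.ker, ⁅a * a', b⁆ = ⁅a, b⁆ * ⁅a', b⁆ :=
    fun a ha a' ha' b hb => by
      have := (mem_Zc.1 (hc a' ha' b hb)).2
      rw [show ⁅a * a', b⁆ = a * ⁅a', b⁆ * a⁻¹ * ⁅a, b⁆ by simp only [commutatorElement_def]; group,
        this a ha, mul_inv_cancel_right, this _ (Zc_le _ (hc a ha b hb))]
  have h3 := hM.prod U U W (hU.fpf (hC.quot _ hZ2) hQ' hs') (hU.fpf (hC.quot _ hZ2) hQ' hs')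
    (hW.fpf hC hZ2 hs) trivial trivial trivial (AddMonoidHom.mk' (fun a => AddMonoidHom.mk' (c a)
      fun b b' => hW.inj (by
        rw [hW.add, key a (b + b') (l a) (l b * l b') (hl a) (by rw [map_mul, hl, hl, hU.add]), hc', hc',
          ← commutatorElement_inv, cm _ (lm b) _ (lm b') _ (lm a), mul_inv_rev, commutatorElement_inv,
          commutatorElement_inv, (mem_Zc.1 (hc _ (lm a) _ (lm b))).2 _ (Zc_le _ (hc _ (lm a) _ (lm b')))]))
      fun a a' => AddMonoidHom.ext fun b => hW.inj (by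
        change j (c (a + a') b) = j (c a b + c a' b)
        rw [hW.add, key (a + a') b (l a * l a') (l b) (by rw [map_mul, hl, hl, hU.add]) (hl b), hc', hc',
          cm _ (lm a) _ (lm a') _ (lm b)])) fun g a b => hW.inj (by
      obtain ⟨g, rfl⟩ := hs g
      change j (c (π' (QuotientGroup.mk' _ g) ⋆ a) (π' (QuotientGroup.mk' _ g) ⋆ b)) = j (π g ⋆ c a b)
      rw [key _ _ (g * l a * g⁻¹) (g * l b * g⁻¹) (by simp only [map_mul, map_inv, hl, hU.conj])
        (by simp only [map_mul, map_inv, hl, hU.conj]), hW.conj, hc', conjugate_commutatorElement])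
  have h4 : Ab π.ker := ab_iff.2 fun x hx y hy => by
    obtain ⟨a, ha⟩ := hU.surj _ ((hQ1 x).2 hx)
    obtain ⟨b, hb⟩ := hU.surj _ ((hQ1 y).2 hy)
    rw [← commutatorElement_eq_one_iff_mul_comm, ← key a b x y ha.symm hb.symm,
      show c a b = 0 from DFunLike.congr_fun (DFunLike.congr_fun h3 a) b, hW.zero]
  obtain ⟨V, _, _, k, hV⟩ := exists_sec _ h4 hs h4.le_cent
  intro x hx
  obtain ⟨a, rfl⟩ := hV.surj x hx
  rw [← hV.add, hM.two V (hV.fpf hC hQ hs), hV.zero]

/-- a simple group acts faithfully on non-zero submodules -/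
theorem Fpf.faithful [IsSimpleGroup H] (h : Fpf H M) (x1 : x ≠ 1) (ho : Odd (orderOf x))
    (N : AddSubgroup M) (hN : ∀ g : H, ∀ m ∈ N, g ⋆ m ∈ N) (g1 : g ≠ 1)
    (hg : ∀ m ∈ N, g ⋆ m = m) : ∀ m ∈ N, m = 0 := fun m hm => by
  let K : Subgroup H :=
    { carrier := {g | ∀ m ∈ N, g ⋆ m = m}
      one_mem' := fun m _ => one_act m
      mul_mem' := fun ha hb m hm => by rw [mul_act, hb m hm, ha m hm]
      inv_mem' := fun {a} ha m hm => by rw [← ha m hm, inv_act_act, ha m hm] }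
  have : K.Normal := ⟨fun a ha b m hm => by
    rw [mul_act, mul_act, ha _ (hN _ m hm), act_inv_act]⟩
  refine h.fpf x x1 ho m ((this.eq_bot_or_eq_top.resolve_left fun e => g1 ?_).ge (mem_top x) m hm)
  exact mem_bot.1 (e ▸ (hg : g ∈ K))

/-- traces are central in a ring generated by two primitive cube roots of unity -/
theorem Fpf.trace_central (h : Fpf H M) (hx : orderOf x = 3) (hy : orderOf y = 3)
    (hg : g ∈ closure ({x, y} : Set H)) :
    act H M x * (act H M g + act H M g⁻¹) = (act H M g + act H M g⁻¹) * act H M x := by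
  have e1 : ∀ x : H, orderOf x = 3 → act H M x * act H M x = -1 - act H M x := fun x hx =>
    AddMonoidHom.ext fun m => show x ⋆ x ⋆ m = -m - x ⋆ m by
      rw [← sub_eq_zero, ← h.three hx m]; abel
  have e2 : ∀ x : H, orderOf x = 3 → x⁻¹ = x * x := fun x hx =>
    inv_eq_of_mul_eq_one_right (by rw [← pow_three, ← hx, pow_orderOf_eq_one])
  have ha := e1 x hx
  have hb := e1 y hy
  have ha' : act H M x⁻¹ = -1 - act H M x := by rw [e2 x hx, map_mul, ha]
  have hb' : act H M y⁻¹ = -1 - act H M y := by rw [e2 y hy, map_mul, hb]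
  obtain ⟨a, xa⟩ : ∃ a, act H M x = a := ⟨_, rfl⟩
  obtain ⟨b, yb⟩ : ∃ b, act H M y = b := ⟨_, rfl⟩
  rw [xa] at ha ha' ⊢
  rw [yb] at hb hb'
  obtain ⟨c, hc⟩ : ∃ c, c = 1 + a + b + a * b + b * a := ⟨_, rfl⟩
  have ka : ∀ r, a * (a * r) = -r - a * r := fun r => by rw [← mul_assoc, ha]; noncomm_ring
  have kb : ∀ r, b * (b * r) = -r - b * r := fun r => by rw [← mul_assoc, hb]; noncomm_ring
  have ca : a * c = c * a := by
    simp only [hc, mul_add, add_mul, mul_assoc, ka, ha, mul_sub]; noncomm_ring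
  have cb : b * c = c * b := by
    simp only [hc, mul_add, add_mul, mul_assoc, kb, hb, mul_sub]; noncomm_ring
  let Z := Subring.centralizer {a, b}
  have cZ : c ∈ Z := by rintro _ (rfl | rfl); exacts [ca, cb]
  let P : H → Prop := fun g => c * act H M g⁻¹ = act H M g⁻¹ * c ∧ act H M g + act H M g⁻¹ ∈ Z ∧
    a * act H M g + act H M g⁻¹ * (-1 - a) ∈ Z ∧ b * act H M g + act H M g⁻¹ * (-1 - b) ∈ Z ∧
    a * b * act H M g + act H M g⁻¹ * ((-1 - b) * (-1 - a)) ∈ Z
  have sx : ∀ g, P g → P (x * g) := fun g ⟨h0, h1, h2, h3, h4⟩ => by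
    simp only [P, mul_inv_rev, map_mul, ha', xa]
    generalize act H M g = p at *
    generalize act H M g⁻¹ = q at *
    refine ⟨?_, h2, ?_, ?_, ?_⟩
    · rw [← mul_assoc, h0, mul_assoc, mul_assoc, mul_sub, sub_mul, ca]; noncomm_ring
    · convert Z.sub_mem (Z.neg_mem h1) h2 using 1
      simp only [mul_assoc, mul_sub, sub_mul, ka, ha]; noncomm_ring
    · convert Z.sub_mem (Z.sub_mem (Z.sub_mem (Z.sub_mem (Z.mul_mem cZ h1) h1) h2) h3) h4 using 1
      rw [mul_add c, h0, hc]; noncomm_ring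
    · convert Z.add_mem (Z.add_mem (Z.mul_mem cZ h2) h1) h3 using 1
      rw [mul_add c, ← mul_assoc c q, h0, ← mul_assoc c, ← ca, hc]
      simp only [mul_assoc, mul_sub, sub_mul, mul_add, add_mul, ka, ha, mul_neg, neg_mul, mul_one,
        one_mul]
      noncomm_ring
  have sy : ∀ g, P g → P (y * g) := fun g ⟨h0, h1, h2, h3, h4⟩ => by
    simp only [P, mul_inv_rev, map_mul, hb', yb]
    generalize act H M g = p at *
    generalize act H M g⁻¹ = q at *
    refine ⟨?_, h3, by simpa only [mul_assoc] using h4, ?_, ?_⟩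
    · rw [← mul_assoc, h0, mul_assoc, mul_assoc, mul_sub, sub_mul, cb]; noncomm_ring
    · convert Z.sub_mem (Z.neg_mem h1) h3 using 1
      simp only [mul_assoc, mul_sub, sub_mul, kb, hb]; noncomm_ring
    · convert Z.sub_mem (Z.neg_mem h2) h4 using 1
      simp only [mul_assoc, mul_sub, sub_mul, mul_add, add_mul, kb, hb, mul_neg, neg_mul, mul_one,
        one_mul]
      noncomm_ring
  suffices P g from this.2.1 a (Or.inl rfl)
  induction hg using closure_induction_left with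
  | one =>
    simp only [P, inv_one, map_one, mul_one, one_mul, true_and]
    refine ⟨Z.add_mem Z.one_mem Z.one_mem, ?_, ?_, ?_⟩
    · convert Z.neg_mem Z.one_mem using 1; abel
    · convert Z.neg_mem Z.one_mem using 1; abel
    · convert cZ using 1; rw [hc]; noncomm_ring
  | mul_left k hk g _ ih => rcases hk with rfl | rfl; exacts [sx g ih, sy g ih]
  | inv_mul_cancel k hk g _ ih =>
    rcases hk with rfl | rfl
    · rw [e2 _ hx, mul_assoc]; exact sx _ (sx g ih)
    · rw [e2 _ hy, mul_assoc]; exact sy _ (sy g ih)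

theorem mart_of_three [Finite H] [IsSimpleGroup H] (hC : IsCIT H) (hx : orderOf x = 3) (u1 : u ≠ 1)
    (u2 : u * u = 1) (v1 : v ≠ 1) (v2 : v * v = 1) (hne : u ≠ v) (hc : u * v = v * u) : Mart H := by
  have x1 : x ≠ 1 := by rintro rfl; simp at hx
  have xo : Odd (orderOf x) := by rw [hx]; decide
  have key : (∀ s : H, s ≠ 1 → s * s = 1 → ∀ w ∈ closure ({x, s * x * s⁻¹} : Set H), w * w = 1 →
      w = 1) → False := fun h => by
    have inv : ∀ s : H, s ≠ 1 → s * s = 1 → s * x = x⁻¹ * s := fun s s1 s2 => by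
      obtain ⟨q, -, e⟩ := exists_conj_of_fpf (x := s) (Q := closure ({x, s * x * s⁻¹} : Set H))
        (mem_norm_of_conj_le (by
          rw [conj_le_iff_le_inv_conj, closure_le]
          rintro _ (rfl | rfl) <;> refine mem_conj.2 (subset_closure ?_)
          · simp
          · left; rw [inv_inv, show s * (s * x * s⁻¹) * s⁻¹ = s * s * x * (s * s)⁻¹ by group, s2]; simp))
        (fun y hy e => by_contra fun y1 => by
          obtain ⟨k, hk⟩ := exists_pow_of_mem (hC.cent_inv s1 s2) (mem_cent1.2 e.symm)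
          obtain ⟨j, h1, h2⟩ := exists_inv_pow y1 hk
          exact h1 (h s s1 s2 _ (pow_mem hy _) h2)) (subset_closure (Or.inl rfl))
      have := BSW.conj_mul_self (g := q) s2
      rw [← e] at this
      calc s * x = x⁻¹ * (x * s * (x * s)) * s⁻¹ := by group
        _ = _ := by rw [this, mul_one, BSW.inv_eq_of_mul_self s2]
    refine x1 (hC (u * v) x (fun e => hne ?_) ?_ ?_ xo)
    · rw [eq_inv_of_mul_eq_one_left e, BSW.inv_eq_of_mul_self v2]
    · rw [mul_assoc, ← mul_assoc v, ← hc, mul_assoc, v2, mul_one, u2]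
    · rw [mul_assoc u, inv v v1 v2, ← mul_assoc u, ← mul_assoc x, ← mul_inv_cancel_left x (u * x⁻¹),
        ← mul_assoc x⁻¹, ← inv u u1 u2, mul_inv_cancel_right]
  have two : ∀ (M : Type u) [AddCommGroup M] [Module (ZH H) M], Fpf H M → ∀ m : M, m + m = 0 :=
    fun M _ _ h m => by_contra fun hm => key fun s s1 s2 w hw w2 => by_contra fun w1 => by
      have h1 := h.trace_central hx ((orderOf_conj s x).trans hx) hw
      rw [BSW.inv_eq_of_mul_self w2] at h1
      refine hm (h.faithful x1 xo (nsmulAddMonoidHom 2).range ?_ (g := (w * x)⁻¹ * (x * w))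
        (fun e => x1 (hC w x w1 w2 (inv_mul_eq_one.1 e).symm xo)) ?_ _ ⟨m, two_nsmul m⟩)
      · rintro g _ ⟨m, rfl⟩; exact ⟨g ⋆ m, by simp [two_nsmul]⟩
      · rintro _ ⟨m, rfl⟩
        have : x ⋆ (w ⋆ m + w ⋆ m) = w ⋆ x ⋆ m + w ⋆ x ⋆ m := DFunLike.congr_fun h1 m
        rw [nsmulAddMonoidHom_apply, two_nsmul, mul_act, mul_act, map_add (act H M w), this,
          ← map_add, ← map_add, ← mul_act w, inv_act_act]
  refine ⟨fun U U' W _ _ _ _ _ _ hU hU' hW _ _ _ β hβ => by_contra fun h0 => ?_, two⟩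
  have e1 : ∀ y : H, orderOf y = 3 → ∀ a b, β (y ⋆ a) b = y⁻¹ ⋆ β a b ∧ β a (y ⋆ b) = y⁻¹ ⋆ β a b :=
    fun y hy => by
      have e2 : ∀ a b, β a (y ⋆ b) = β (y ⋆ a) b := fun a b => by
        have e3 := hW.three hy (β a b)
        rw [← hβ, ← hβ, eq_neg_of_add_eq_zero_right (hU.three hy a),
          eq_neg_of_add_eq_zero_right (hU'.three hy b)] at e3
        simp only [map_neg, map_add, AddMonoidHom.neg_apply, AddMonoidHom.add_apply, neg_neg] at e3
        linear_combination (norm := abel1) e3 - two W hW (β a b) - two W hW (β (y ⋆ a) (y ⋆ b)) -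
          two W hW (β (y ⋆ a) b)
      intro a b
      have y3 : y * y * y = 1 := by rw [← pow_three', ← hy, pow_orderOf_eq_one]
      have e3 : β (y ⋆ a) b = y⁻¹ ⋆ β a b := by
        rw [inv_eq_of_mul_eq_one_left y3, mul_act, ← hβ, ← hβ, e2, e2, ← mul_act, ← mul_act, ← mul_act,
          y3, one_mul]
      exact ⟨e3, (e2 a b).trans e3⟩
  refine key fun s s1 s2 w hw w2 => by_contra fun w1 => x1 (hC w x w1 w2 ?_ xo)
  refine (mem_cent1.1 ((closure_le (K := 𝐂[x])).2 ?_ hw)).symm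
  rintro _ (rfl | rfl)
  · exact mem_cent1_self _
  by_contra hn
  have hy := (orderOf_conj s x).trans hx
  generalize s * x * s⁻¹ = y at hy hn
  refine h0 (AddMonoidHom.ext fun a => AddMonoidHom.ext fun b => hW.faithful x1 xo
    (AddSubgroup.closure {m | ∃ a b, β a b = m}) (fun g m hm => ?_) (g := y * x * (y⁻¹ * x⁻¹))
    (fun e => hn (mem_cent1.2 (by rwa [← mul_inv_rev, mul_inv_eq_one] at e))) (fun m hm => ?_) _
    (AddSubgroup.subset_closure ⟨a, b, rfl⟩))
  · refine AddSubgroup.mem_comap.1 ((AddSubgroup.closure_le (AddSubgroup.comap (act H W g) _)).2 ?_ hm)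
    rintro _ ⟨a, b, rfl⟩
    exact AddSubgroup.subset_closure ⟨_, _, hβ g a b⟩
  · refine (AddSubgroup.closure_le (AddMonoidHom.eqLocus (act H W _) (AddMonoidHom.id W))).2 ?_ hm
    rintro _ ⟨a, b, rfl⟩
    change _ ⋆ β a b = β a b
    rw [mul_act, mul_act y⁻¹, ← (e1 x hx a b).1, ← (e1 y hy _ b).2, (e1 x hx a _).1, (e1 y hy a b).2,
      mul_act, act_inv_act, act_inv_act]

/-- commuting involutions in an elementary abelian group normalized by an element of order three -/
def R3 (u v : H) : Prop := u ≠ 1 ∧ v ≠ 1 ∧ ∃ (U : Subgroup H) (x : H), (∀ a ∈ U, a * a = 1) ∧ u ∈ U ∧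
  v ∈ U ∧ orderOf x = 3 ∧ x ∈ 𝐍(U)

/-- an obstruction to the existence of fixed-point-free modules -/
def Bad (H : Type u) [Group H] : Prop := ∃ z : H, z ≠ 1 ∧ z * z = 1 ∧
  ¬ IsPGroup 2 (closure {v | Relation.ReflTransGen R3 z v})

theorem IsCIT.orderOf_mul [Finite H] (hC : IsCIT H) {U : Subgroup H} (hU : IsPGroup 2 U)
    (x1 : x ≠ 1) (ho : Odd (orderOf x)) (hn : x ∈ 𝐍(U)) (hu : u ∈ U) :
    orderOf (u * x) = orderOf x := by
  obtain ⟨q, -, e⟩ := exists_conj_of_fpf hn (hC.fpf hU x1 ho) hu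
  rw [e, orderOf_conj]

theorem Fpf.fix_of_R3 [Finite H] (h : Fpf H M) (hC : IsCIT H) (h0 : pCore 2 H = ⊥)
    (h2 : ∀ m : M, m + m = 0) (r : R3 u v) (hm : u ⋆ m = m) : v ⋆ m = m := by
  obtain ⟨u1, v1, U, x, hU, hu, hv, hx, hn⟩ := r
  have x1 : x ≠ 1 := by rintro rfl; simp at hx
  have xo : Odd (orderOf x) := by rw [hx]; decide
  have hU2 := abelem_isPGroup (ZN.abelem_of_sq fun a ha => (sq a).trans (hU a ha))
  obtain ⟨y, y1, yo, e⟩ := Core.exists_inverted_odd_of_not_mem_pCore_two (hU u hu) (by rwa [h0])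
  obtain ⟨n, rfl⟩ := h.exists_norm y1 yo e hm
  have key : ∀ a ∈ U, ∀ m : M, a ⋆ x ⋆ m + x ⋆ a ⋆ m = m + a ⋆ m := fun a ha m => by
    have e1 := h.three ((hC.orderOf_mul hU2 x1 xo hn ha).trans hx) (x⁻¹ ⋆ m)
    have e2 := h.three hx (x⁻¹ ⋆ m)
    have e3 := congrArg (a ⋆ ·) e1
    have e4 := congrArg (a ⋆ ·) e2
    simp only [mul_act, act_inv_act, map_add, map_zero] at e3 e4
    simp only [← mul_act a a, hU a ha, one_act] at e3
    linear_combination (norm := abel1) e3 + e4 - h2 (a ⋆ x⁻¹ ⋆ m) - h2 m - h2 (a ⋆ m)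
  have k1 := key _ (mul_mem hv hu) n
  have k4 := congrArg (v ⋆ ·) (key u hu n)
  simp only [mul_act, map_add] at k1 k4 ⊢
  linear_combination (norm := abel1) k1 - k4 + key v hv (u ⋆ n) - h2 (x ⋆ v ⋆ u ⋆ n) + h2 (v ⋆ u ⋆ n)

theorem not_bad [Finite H] (h : Fpf H M) [Nontrivial M] (hC : IsCIT H) (h0 : pCore 2 H = ⊥)
    (h2 : ∀ m : M, m + m = 0) : ¬ Bad H := fun ⟨z, z1, z2, hz⟩ => hz <| by
  obtain ⟨m, m0, hm⟩ : ∃ m : M, m ≠ 0 ∧ z ⋆ m = m := by
    obtain ⟨m, m0⟩ := exists_ne (0 : M)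
    by_cases e : m + z ⋆ m = 0
    · exact ⟨m, m0, by linear_combination (norm := abel1) e - h2 m⟩
    · exact ⟨_, e, by rw [map_add, ← mul_act, z2, one_act, add_comm]⟩
  let K : Subgroup H :=
    { carrier := {g | g ⋆ m = m}
      one_mem' := one_act m
      mul_mem' := fun {a b} (ha : _ = _) (hb : _ = _) => show _ = _ by rw [mul_act, hb, ha]
      inv_mem' := fun {a} (ha : _ = _) => show _ = _ by rw [← ha, inv_act_act, ha] }
  refine Transfer.isPGroup_of_forall_coprime_eq_one fun g hg ho => by_contra fun g1 =>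
    m0 (h.fpf g g1 (Nat.coprime_two_right.1 ho) m ((closure_le K).2 (fun v hv => ?_) hg))
  induction hv with
  | refl => exact hm
  | tail _ r ih => exact h.fix_of_R3 hC h0 h2 r ih

end Cfsg.Agent.CIT
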