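import Mathlib
import Cfsg.Agent.Lib.CIT.Basic
import Cfsg.Agent.Lib.ZL.SEB
import Cfsg.Agent.Lib.R1.ZStar
import Cfsg.Agent.Lib.BSW.Ind
import Cfsg.Agent.Lib.OO.Final
import Cfsg.Agent.Lib.Frob.Basic

/-!
# Recognition of Zassenhaus groups of odd degree among `CIT`-groups
-/

set_option autoImplicit false

namespace Cfsg.Agent.CIT

open Subgroup Cfsg.Agent.Coprime Cfsg.Agent.OO
open scoped Pointwise commutatorElement

universe u

/-- Zassenhaus groups of odd degree -/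
def IsZT (G : Type*) [Group G] : Prop := ∃ (S : Subgroup G) (t : G), BSW.HypC S t

variable {G : Type u} [Group G] [Finite G] {H L M S T : Subgroup G} {g s t u x z : G}

theorem conj_of_se (hM : M ≠ ⊤) (h : ∀ u ∈ M, u ≠ 1 → u * u = 1 → ∀ g, g * u * g⁻¹ ∈ M → g ∈ M)
    (hs : s ∈ M) (s1 : s ≠ 1) (s2 : s * s = 1) (ht : t ∈ M) (t1 : t ≠ 1) (t2 : t * t = 1) :
    ∃ k ∈ M, k * s * k⁻¹ = t := by
  have h1 : ZL.SE M := ⟨hM, orderOf_inv' s1 s2 ▸ orderOf_dvd_card hs, fun g hg e => by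
    obtain ⟨x, hx, x1, x2⟩ := R1.exists_invol_mem e
    obtain ⟨y, hy, rfl⟩ := mem_conj_iff_exists.1 hx.2
    exact hg (h y hy (by simpa using x1) (by simpa [conj_mul] using x2) g hx.1)⟩
  obtain ⟨w, hw, w2⟩ := h1.exists_out
  obtain ⟨k, hk, -, e⟩ := h1.exists_conj hw w2 hs (orderOf_inv' s1 s2) ht (orderOf_inv' t1 t2)
  exact ⟨k, hk.1, e⟩

theorem sol_top (h : Sol (⊤ : Subgroup G)) : Group.IsSolvable G :=
  Group.isSolvable_of_surjective (f := (⊤ : Subgroup G).subtype) topEquiv.surjective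

theorem sol_oddCore : Sol (pPrimeCore 2 G) :=
  Feit_Thompson (Nat.coprime_two_right.1 (Core.coprime_card_pPrimeCore (G := G) 2))

theorem sol_of_isolated (z2 : z * z = 1)
    (h : ∀ g : G, z * (g * z * g⁻¹) = g * z * g⁻¹ * z → g * z * g⁻¹ = z) (hs : Sol 𝐂[z]) :
    Group.IsSolvable G := by
  refine sol_top (sol_of_le (sol_sup (A := 𝐂[z]) (B := pPrimeCore 2 G)
    (by rw [normalizer_eq_top]; exact le_top) hs sol_oddCore) fun g _ => ?_)
  have h1 := R1.zstar G z z2 h g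
  rw [BSW.inv_eq_of_mul_self z2] at h1
  obtain ⟨k, hk⟩ := BSW.exists_conj_of_odd (BSW.conj_mul_self (g := g) z2) z2 (Odd.of_dvd_nat
    (Nat.coprime_two_right.1 (Core.coprime_card_pPrimeCore (G := G) 2)) (orderOf_dvd_card h1))
  have h2 := pow_mem h1 k
  generalize (g * z * g⁻¹ * z) ^ k = o at hk h2
  rw [← inv_mul_cancel_left o g]
  exact mul_mem (mem_sup_right (inv_mem h2)) (mem_sup_left (mem_cent1_iff_conj.2 (by
    nth_rw 2 [hk]; group)))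

theorem hypC_of_cc (hns : ¬ Group.IsSolvable G) (cc : ∀ x ∈ H, x ≠ 1 → 𝐂[x] ≤ H) (hz : z ∈ H)
    (z1 : z ≠ 1) (z2 : z * z = 1) (hc : H ≤ 𝐂[z]) (hs : Sol H) : ∃ t, BSW.HypC H t := by
  have h2 : 2 ∣ ♯H := orderOf_inv' z1 z2 ▸ orderOf_dvd_card hz
  have inv : ∀ u ∈ 𝐍(H), u * u = 1 → u ∈ H := fun u hu u2 => by_contra fun hn => by
    have u1 : u ≠ 1 := fun e => hn (e ▸ one_mem H)
    have := Frob.card_dvd_card_sub_one_of_fpf (zpowers_le.2 hu) fun v hv v1 k hk e => by_contra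
      fun k1 => hn (((ZN.mem_zpowers_inv (orderOf_inv' u1 u2)).1 hv).resolve_left v1 ▸
        cc k hk k1 (mem_cent1.2 e))
    rw [Nat.card_zpowers, orderOf_inv' u1 u2] at this
    have := card_pos' H
    omega
  have ti : ∀ x ∈ H, x ≠ 1 → ∀ g, g * x * g⁻¹ ∈ H → g ∈ 𝐍(H) := fun x hx x1 g hg => by
    have h3 : g * z * g⁻¹ ∈ H := cc _ hg (BSW.conj_ne_one x1)
      (cent1_conj g x ▸ conj_mem_conj (mem_cent1_comm.1 (hc hx)))
    exact mem_norm_of_conj_le ((conj_mono g hc).trans ((cent1_conj g z).ge.trans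
      (cc _ h3 (BSW.conj_ne_one z1))))
  have ne : 𝐍(H) ≠ ⊤ := fun e => hns (by
    obtain ⟨S, hS, hle⟩ := exists_syl_ge (le_top (a := zpowers z))
      (ZN.isPGroup_zpowers_inv (orderOf_inv' z1 z2))
    have h3 : S ≤ H := fun y hy => by
      by_cases y1 : y = 1
      · exact y1 ▸ one_mem H
      obtain ⟨k, hk⟩ := exists_pow_of_mem hS.isPGroup hy
      obtain ⟨j, h4, h5⟩ := exists_inv_pow y1 hk
      exact cc _ (inv _ (e ▸ mem_top _) h5) h4 (mem_cent1.2 (Commute.self_pow y _))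
    have := normalizer_eq_top_iff.1 e
    have : Group.IsSolvable (G ⧸ H) := Feit_Thompson (Nat.not_even_iff_odd.1 fun h4 =>
      hS.not_dvd (h4.two_dvd.trans (by rw [relIndex_top_right]; exact index_dvd_of_le h3)))
    exact Group.isSolvable_of_ker_le_range H.subtype (QuotientGroup.mk' H) (by simp))
  have one : ∀ u ∈ H, u ≠ 1 → u * u = 1 → ∃ k ∈ 𝐍(H), k * z * k⁻¹ = u := fun u hu u1 u2 =>
    conj_of_se ne (fun u hu u1 u2 g hg => ti u (inv u hu u2) u1 g (inv _ hg (BSW.conj_mul_self u2)))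
      (le_norm_self H hz) z1 z2 (le_norm_self H hu) u1 u2
  have hI : BSW.HypI H := ⟨fun u hu u1 u2 g => ⟨fun e => cc u hu u1 (mem_cent1.2 e), fun hg => by
    obtain ⟨k, hk, rfl⟩ := one u hu u1 u2
    exact mem_cent1.1 (cent1_conj k z ▸ conj_mono k hc ((conj_eq_of_mem_norm hk).ge hg))⟩,
    z, hz, z1, z2⟩
  obtain ⟨t, ht, t2⟩ := hI.exists_inv_not_mem ne
  refine ⟨t, hI, fun x hx x1 g e => cc x hx x1 (mem_cent1.2 e), ?_, ht, t2⟩
  by_contra! h3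
  refine hns (sol_of_isolated z2 (fun g e => ?_) (sol_of_le hs (cc z hz z1)))
  obtain ⟨k, hk, e'⟩ := one _ (cc z hz z1 (mem_cent1.2 e.symm)) (BSW.conj_ne_one z1)
    (BSW.conj_mul_self z2)
  rw [← e', mem_cent1_iff_conj.1 (hc (h3 k hk))]

theorem exists_syl_inv (hns : ¬ Group.IsSolvable G) : ∃ S : Subgroup G, Syl 2 S ⊤ ∧ S ≠ ⊥ := by
  obtain ⟨S, hS⟩ := exists_syl 2 (⊤ : Subgroup G)
  refine ⟨S, hS, fun e => hns (Feit_Thompson ?_)⟩
  have := hS.eq_bot_iff.1 e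
  rw [card_top] at this
  exact Nat.odd_iff.2 (by omega)

theorem IsCIT.oddCore (hC : IsCIT G) (hns : ¬ Group.IsSolvable G) : pPrimeCore 2 G = ⊥ := by
  by_contra h0
  obtain ⟨o, ho, o1⟩ := exists_mem_ne_one h0
  have odd : ∀ o ∈ pPrimeCore 2 G, Odd (orderOf o) := fun o ho => Odd.of_dvd_nat
    (Nat.coprime_two_right.1 (Core.coprime_card_pPrimeCore (G := G) 2)) (orderOf_dvd_card ho)
  have inv : ∀ u : G, u ≠ 1 → u * u = 1 → ∀ o ∈ pPrimeCore 2 G, u * o * u⁻¹ = o⁻¹ :=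
    fun u u1 u2 o ho => by
      obtain ⟨q, -, e⟩ := exists_conj_of_fpf (x := u) (by rw [normalizer_eq_top]; trivial)
        (fun y hy e => hC u y u1 u2 e.symm (odd y hy)) ho
      have := BSW.conj_mul_self (g := q) u2
      rw [← e] at this
      calc _ = o⁻¹ * (o * u * (o * u)) * (u * u)⁻¹ * (u * o⁻¹ * u⁻¹ * (u * o * u⁻¹)) := by group
        _ = _ := by rw [this, u2]; group
  obtain ⟨S, hS, h1⟩ := exists_syl_inv hns
  obtain ⟨z, hz, z1, z2, -⟩ := exists_central hS.isPGroup h1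
  refine hns (sol_of_isolated z2 (fun g e => by_contra fun hne => o1 ?_)
    (sol_of_isPGroup (hC.cent_inv z1 z2)))
  have u1 := BSW.conj_ne_one (g := g) z1
  have u2 := BSW.conj_mul_self (g := g) z2
  generalize g * z * g⁻¹ = u at *
  refine hC (z * u) o (fun e => hne ?_) ?_ ?_ (odd o ho)
  · rw [eq_inv_of_mul_eq_one_right e, BSW.inv_eq_of_mul_self z2]
  · rw [mul_assoc, ← mul_assoc u, ← e, mul_assoc, u2, mul_one, z2]
  · rw [eq_comm, ← mul_inv_eq_iff_eq_mul, show z * u * o * (z * u)⁻¹ = z * (u * o * u⁻¹) * z⁻¹ by group,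
      inv u u1 u2 o ho, inv z z1 z2 _ (inv_mem ho), inv_inv]

theorem IsCIT.le_Op (hC : IsCIT G) (hi : ∀ t ∈ M, t * t = 1 → t ∈ Op 2 M) (hT : IsPGroup 2 T)
    (h : T ≤ M) : T ≤ Op 2 M := fun x hx =>
  ⟨⟨x, h hx⟩, (hC.subgroup M).le_pCore (T := T.subgroupOf M) (fun t t2 => by
    obtain ⟨y, hy, e⟩ := hi t t.2 (congrArg Subtype.val t2)
    exact Subtype.ext e ▸ hy) (hT.comap_subtype) hx, rfl⟩

theorem IsCIT.zt_of_se (hC : IsCIT G) (hns : ¬ Group.IsSolvable G) (hM : M ≠ ⊤)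
    (h : ∀ u ∈ M, u ≠ 1 → u * u = 1 → ∀ g, g * u * g⁻¹ ∈ M → g ∈ M) (h0 : Op 2 M ≠ ⊥) : IsZT G := by
  obtain ⟨z, hz, z1, z2, hc⟩ := exists_central (Op_isPGroup 2 M) h0
  refine ⟨_, hypC_of_cc hns (fun x hx x1 => ?_) hz z1 z2 hc (sol_of_isPGroup (Op_isPGroup 2 M))⟩
  obtain ⟨k, hk⟩ := exists_pow_of_mem (Op_isPGroup 2 M) hx
  obtain ⟨j, h1, h2⟩ := exists_inv_pow x1 hk
  refine hC.le_Op (fun t ht t2 => ?_) (hC.cent1 (Op_isPGroup 2 M) hx x1) fun g hg =>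
    h _ (Op_le 2 M (pow_mem hx _)) h1 h2 g ?_
  · by_cases t1 : t = 1
    · exact t1 ▸ one_mem _
    obtain ⟨k, hk, rfl⟩ := conj_of_se hM h (Op_le 2 M hz) z1 z2 ht t1 t2
    exact (Op_normal 2 M).conj_mem hk hz
  · rw [← conj_pow, mem_cent1_iff_conj.1 hg]; exact Op_le 2 M (pow_mem hx _)

theorem IsCIT.zt_of_not_two (hC : IsCIT G) (hns : ¬ Group.IsSolvable G) (hO : pCore 2 G = ⊥)
    (h : ∀ U : Subgroup G, ¬ ZN.Two ⊤ U) : IsZT G := by
  obtain ⟨S, hS, h0⟩ := exists_syl_inv hns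
  obtain ⟨M, hM, -⟩ := ZN.exists_mloc hS.le hS.isPGroup h0
  refine hC.zt_of_se hns (fun e => hM.1.Op_ne_bot (by rw [e, Op_top, hO]))
    (fun u hu u1 u2 g hg => by_contra fun hg' => ?_) hM.1.Op_ne_bot
  refine h (zpowers (g * u * g⁻¹)) ⟨ZN.isPGroup_zpowers_inv ((orderOf_conj g u).trans
    (orderOf_inv' u1 u2)), by simpa using u1, M, g •ᶜ M, hM, ⟨hM.1.conj trivial, fun L hL e => ?_⟩,
    fun e => hg' ?_, zpowers_le.2 hg, zpowers_le.2 (conj_mem_conj hu)⟩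
  · rw [le_conj_iff_inv_conj_le]
    exact hM.2 (hL.conj trivial) (conj_le_iff_le_inv_conj.1 e)
  · exact hM.2 ⟨Op 2 M, le_top, Op_isPGroup _ _, hM.1.Op_ne_bot, rfl⟩
      (le_inf le_top (Op_normal 2 M).norm) ⟨trivial, norm_le_norm_Op 2 M (conj_eq_self_iff.1 e.symm)⟩

theorem IsCIT.zt_lift (hC : IsCIT G) [hn : L.Normal] (hns : ¬ Sol L) (h : IsZT L) : IsZT G := by
  obtain ⟨S, t, h⟩ := h
  have := h.isSimpleGroup
  set R := S.map L.subtype
  have hR : ∀ u ∈ R, u ≠ 1 → u * u = 1 → L ⊓ 𝐂[u] = R := by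
    rintro _ ⟨u, hu, rfl⟩ u1 u2
    have e := h.cent u hu (fun e => u1 (congrArg Subtype.val e)) (Subtype.ext u2)
    refine le_antisymm (fun g hg => ⟨⟨g, hg.1⟩, (e _).1 (Subtype.ext (mem_cent1.1 hg.2)), rfl⟩) ?_
    rintro _ ⟨g, hg, rfl⟩
    exact ⟨g.2, mem_cent1.2 (congrArg Subtype.val ((e g).2 hg))⟩
  have ti : ∀ u ∈ R, u ≠ 1 → u * u = 1 → ∀ g, g * u * g⁻¹ ∈ R → g ∈ 𝐍(R) := fun u hu u1 u2 g hg => by
    have e := hR _ hg (BSW.conj_ne_one u1) (BSW.conj_mul_self u2)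
    rwa [cent1_conj, ← (normalIn_top.2 hn).conj_eq (mem_top g), ← conj_inf, hR u hu u1 u2,
      conj_eq_self_iff] at e
  have nm : ∀ g : L, g.1 ∈ 𝐍(R) → g ∈ 𝐍(S) := fun g hg => mem_norm_of_conj_mem fun x hx => by
    obtain ⟨y, hy, e⟩ := conj_mem_of_norm hg ⟨x, hx, rfl⟩
    exact (Subtype.ext e : y = g * x * g⁻¹) ▸ hy
  obtain ⟨z, hz, z1, z2⟩ := h.ex
  have z1' : z.1 ≠ 1 := fun e => z1 (Subtype.ext e)
  have z2' : z.1 * z.1 = 1 := congrArg Subtype.val z2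
  have out : ∀ u : G, u * u = 1 → u ∉ L → u ∈ 𝐍(R) := fun u u2 hu => by
    have h1 := (hC.conj_or z2' u2).resolve_left fun ⟨g, e⟩ => hu (e ▸ hn.conj_mem _ z.2 g)
    refine ti z ⟨z, hz, rfl⟩ z1' z2' u (by_contra fun e => e ?_)
    have h2 := h.odd_orderOf_mul hz z1 z2 (u := ⟨_, hn.conj_mem _ z.2 u⟩) (fun e' => e ⟨_, e', rfl⟩)
      (Subtype.ext (BSW.conj_mul_self z2'))
    have h3 : z.1 ∈ closure {z.1, u} := subset_closure (Or.inl rfl)
    have h4 : u ∈ closure {z.1, u} := subset_closure (Or.inr rfl)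
    rw [← orderOf_coe] at h2
    rw [eq_inv_of_mul_eq_one_right (Transfer.eq_one_of_coprime_of_mem_isPGroup (g := z * (u * z * u⁻¹))
      h1 (Nat.coprime_two_right.2 h2) (mul_mem h3 (mul_mem (mul_mem h4 h3) (inv_mem h4))))]
    exact inv_mem ⟨z, hz, rfl⟩
  have inv : ∀ u : G, u * u = 1 → u ∈ L := fun u u2 => by_contra fun hu => by
    have h1 : normalClosure {u} ≤ 𝐍(R) := (closure_le _).2 fun x hx => by
      obtain ⟨_, rfl, hx'⟩ := Group.mem_conjugatesOfSet_iff.1 hx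
      obtain ⟨g, rfl⟩ := isConj_iff.1 hx'
      exact out _ (BSW.conj_mul_self u2) fun e => hu (by simpa using hn.mem_comm e)
    have h2 : u ∈ normalClosure {u} := subset_normalClosure rfl
    rcases Normal.eq_bot_or_eq_top (H := (normalClosure {u}).subgroupOf L) inferInstance with e | e
    · refine hns (sol_of_isPGroup ((hC.cent_inv (fun e : u = 1 => hu (e ▸ one_mem L)) u2).to_le fun g hg => ?_))
      have : (⟨g * (u * g⁻¹ * u⁻¹), mul_mem hg (hn.conj_mem _ (inv_mem hg) u)⟩ : L) ∈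
          (normalClosure {u}).subgroupOf L := by
        simpa only [mem_subgroupOf, mul_assoc] using
          mul_mem (Normal.conj_mem inferInstance _ h2 g) (inv_mem h2)
      rw [e, mem_bot, Subtype.ext_iff] at this
      exact mem_cent1_iff_conj.2 (mul_inv_eq_one.1 (by simpa [mul_assoc] using this))
    · exact h.t_not_mem (nm t (h1 (e.ge (mem_top t))))
  have mem : ∀ u ∈ 𝐍(R), u * u = 1 → u ∈ R := fun u hu u2 =>
    ⟨⟨u, inv u u2⟩, h.mem_of_mem_norm (nm _ hu) (Subtype.ext u2), rfl⟩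
  refine hC.zt_of_se (fun e => hns inferInstance) (M := 𝐍(R))
    (fun e => h.t_not_mem (nm t (e.ge trivial)))
    (fun u hu u1 u2 g hg => ti u (mem u hu u2) u1 u2 g (mem _ hg (BSW.conj_mul_self u2))) fun e => z1' ?_
  exact mem_bot.1 (e ▸ OO.le_Op (normalIn_norm R) ((hC.cent_inv z1' z2').to_le
    ((hR _ ⟨z, hz, rfl⟩ z1' z2').ge.trans inf_le_right)) ⟨z, hz, rfl⟩)

end Cfsg.Agent.CIT
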