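import Mathlib
import Cfsg.Agent.Lib.CIT.TI
import Cfsg.Agent.Lib.CIT.Dih
import Cfsg.Agent.Lib.CIT.PSL2
import Cfsg.Agent.Lib.CIT.Sec

/-!
# `CIT`-groups with solvable `2`-local subgroups
-/

set_option autoImplicit false

namespace Cfsg.Agent.CIT

open Subgroup Cfsg.Agent.Coprime Cfsg.Agent.OO
open scoped Pointwise commutatorElement MatrixGroups

universe u

variable {G : Type u} [Group G] {K L M P S T X Z : Subgroup G} {g s t u v x z : G}

theorem Bad.of_injective {H : Type u} [Group H] (h : Bad H) (f : H →* G)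
    (hf : Function.Injective f) : Bad G := by
  obtain ⟨z, z1, z2, h⟩ := h
  have ne : ∀ {a : H}, a ≠ 1 → f a ≠ 1 := fun h e => h (hf (by rw [e, map_one]))
  refine ⟨f z, ne z1, by rw [← map_mul, z2, map_one], fun h' => h ((h'.comap_of_injective f hf).to_le
    ((closure_le _).2 fun v hv => subset_closure (Relation.ReflTransGen.lift f ?_ _ _ hv)))⟩
  rintro a b ⟨a1, b1, U, x, h1, h2, h3, h4, h5⟩
  refine ⟨ne a1, ne b1, U.map f, f x, ?_, ⟨a, h2, rfl⟩, ⟨b, h3, rfl⟩, by rwa [orderOf_injective f hf],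
    map_norm_le f U ⟨x, h5, rfl⟩⟩
  rintro _ ⟨c, hc, rfl⟩
  rw [← map_mul, h1 c hc, map_one]

variable [Finite G]

theorem exists_le_card_pow {p k : ℕ} [Fact p.Prime] (h : p ^ k ∣ ♯M) : ∃ R ≤ M, ♯R = p ^ k := by
  obtain ⟨R, hR⟩ := Sylow.exists_subgroup_card_pow_prime p h
  exact ⟨R.map M.subtype, map_subtype_le R, by rwa [card_subtype]⟩

/-- the odd part of the order of a group normalizing `Z` divides `|Z| - 1` -/
theorem IsCIT.odd_dvd (hC : IsCIT G) (hZ : IsPGroup 2 Z) (hX : X ≤ 𝐍(Z)) {m : ℕ} (hm : Odd m)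
    (h : m ∣ ♯X) : m ∣ ♯Z - 1 := by
  refine (Nat.dvd_iff_prime_pow_dvd_dvd _ _).2 fun p k hp hk => ?_
  have := Fact.mk hp
  obtain ⟨R, h1, h2⟩ := exists_le_card_pow (hk.trans h)
  exact h2 ▸ Frob.card_dvd_card_sub_one_of_fpf (h1.trans hX) fun x hx x1 =>
    hC.fpf hZ x1 (Odd.of_dvd_nat hm ((orderOf_dvd_card hx).trans (h2 ▸ hk)))

theorem IsCIT.cent_Op_le (hC : IsCIT G) (h0 : Op 2 M ≠ ⊥) : M ⊓ 𝐂(Op 2 M) ≤ Op 2 M :=
  OO.le_Op (Op_normal 2 M).cent ((hC.cent (Op_isPGroup _ _) h0).to_le inf_le_right)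

theorem IsCIT.zg (hC : IsCIT G) (hN : ∀ X : Subgroup G, IsPGroup 2 X → X ≠ ⊥ → Sol 𝐍(X)) :
    ZN.ZG (⊤ : Subgroup G) where
  sol X _ h1 h2 := sol_of_le (hN X h1 h2) inf_le_right
  char T _ h1 h2 := hC.cent_Op_le fun e => h2 (eq_bot_iff.2 (e ▸ OO.le_Op
    ⟨le_inf le_top (le_norm_self T), inf_le_right⟩ h1))
  norm S hS := by
    by_cases h0 : S = ⊥
    · rw [h0, normalizer_eq_top]; exact le_top
    obtain ⟨z, hz, z1, z2, h⟩ := exists_central hS.isPGroup h0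
    exact inf_le_right.trans ((cent_le_cent1 (mem_Ohm (mem_inf.2 ⟨hz, le_cent1_iff.1 h⟩)
      (by rw [sq, z2]))).trans
      ((hC.cent_eq hS hz z1 h).le.trans (le_norm_self S)))

section
variable (hC : IsCIT G) (h : ODD.Hyp K t s) (h2 : ♯K ≠ 2)
include hC h h2

theorem exists_swap (u1 : u ≠ 1) (u2 : u * u = 1) (v1 : v ≠ 1) (v2 : v * v = 1) (hne : v ≠ u)
    (hc : v * u = u * v) : ∃ y, y * u * y⁻¹ = u ∧ y * v * y⁻¹ = u * v ∧ y * v * (y * v) = 1 := by
  obtain ⟨K, s, h, e⟩ := h.exists_hyp u1 u2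
  obtain ⟨w, hw, w2⟩ : ∃ w ∈ K, w * w ≠ 1 := by
    by_contra! hh
    refine h2 (e ▸ (congrArg (♯·) (le_antisymm (fun w hw => ?_) (zpowers_le.2 h.tK))).trans
      (by rw [Nat.card_zpowers, orderOf_inv' u1 u2]))
    by_cases w1 : w = 1
    exacts [w1 ▸ one_mem _, h.eq_t hw w1 (hh w hw) ▸ mem_zpowers _]
  obtain ⟨j, hj⟩ := exists_pow_of_mem (hC.cent_inv u1 u2) (h.le_cent (mul_mem hw hw))
  obtain ⟨j, h3, h4⟩ := exists_inv_pow w2 hj
  have h5 := h.eq_t (pow_mem (mul_mem hw hw) _) h3 h4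
  rw [(Commute.refl w).mul_pow] at h5
  have h6 := h.inv_of_not_mem hc (fun e => hne (h.eq_t e v1 v2)) (pow_mem hw (2 ^ j))
  have h7 := h.comm_t (pow_mem hw (2 ^ j))
  generalize w ^ 2 ^ j = y at *
  refine ⟨y, by rw [h7, mul_inv_cancel_right], ?_, ?_⟩
  · calc _ = y * (v * y * v⁻¹)⁻¹ * v := by group
      _ = _ := by rw [h6, inv_inv, h5]
  · calc _ = y * (v * y * v⁻¹) * (v * v) := by group
      _ = _ := by rw [h6, v2]; group

theorem r3_of_hyp (u1 : u ≠ 1) (u2 : u * u = 1) (v1 : v ≠ 1) (v2 : v * v = 1) (hne : v ≠ u)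
    (hc : v * u = u * v) : R3 u v := by
  obtain ⟨a, a1, a2, -⟩ := exists_swap hC h h2 u1 u2 v1 v2 hne hc
  obtain ⟨b, b1, b2, -⟩ := exists_swap hC h h2 v1 v2 u1 u2 hne.symm hc.symm
  have hu : u ∈ zpowers u ⊔ zpowers v := mem_sup_left (mem_zpowers u)
  have hv : v ∈ zpowers u ⊔ zpowers v := mem_sup_right (mem_zpowers v)
  have e1 : a * b * u * (a * b)⁻¹ = v := by
    calc _ = a * (b * u * b⁻¹) * a⁻¹ := by group
      _ = a * v * a⁻¹ * (a * u * a⁻¹) := by rw [b2]; group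
      _ = _ := by rw [a1, a2, mul_assoc, hc, ← mul_assoc, u2, one_mul]
  have e2 : a * b * v * (a * b)⁻¹ = u * v := by rw [← a2, ← b1]; nth_rw 1 [b1]; group
  generalize a * b = x at e1 e2
  have h3 : 3 ∣ orderOf x := by_contra fun e => hne <| by
    have : x ^ 3 ∈ 𝐂[u] := mem_cent1_iff_conj.2 (by
      calc _ = x * (x * (x * u * x⁻¹) * x⁻¹) * x⁻¹ := by rw [pow_three]; group
        _ = x * (u * v) * x⁻¹ := by rw [e1, e2]
        _ = x * u * x⁻¹ * (x * v * x⁻¹) := by group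
        _ = _ := by rw [e1, e2, ← mul_assoc, hc, mul_assoc, v2, mul_one])
    rw [← e1, mem_cent1_iff_conj.1 (zpowers_le.2 this (mem_zpowers_pow_iff.2
      ((Nat.Prime.coprime_iff_not_dvd Nat.prime_three).2 e)))]
  refine ⟨u1, v1, _, x ^ (orderOf x / 3), fun w hw => ?_, hu, hv,
    orderOf_pow_orderOf_div (orderOf_pos x).ne' h3, pow_mem (mem_norm_of_conj_le ?_) _⟩
  · rcases ZN.mem_VV (orderOf_inv' u1 u2) (orderOf_inv' v1 v2) (mem_cent1.2 hc) hw with
      rfl | rfl | rfl | rfl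
    exacts [mul_one _, u2, v2, by rw [mul_assoc, ← mul_assoc v, hc, mul_assoc, v2, mul_one, u2]]
  · rw [conj_sup, conj_zpowers, conj_zpowers, e1, e2]
    exact sup_le (zpowers_le.2 hv) (zpowers_le.2 (mul_mem hu hv))

theorem bad_of_hyp : Bad G := by
  refine ⟨t, h.t1, h.t2, fun hQ => ?_⟩
  have s1 : s ≠ 1 := fun e => h.sK (e ▸ one_mem K)
  have ts : s ≠ t := fun e => h.sK (e ▸ h.tK)
  have r := r3_of_hyp hC h h2 h.t1 h.t2 s1 h.s2 ts h.s_comm
  have key : ∀ w, w * t = t * w → w ∉ K → w ∈ closure {v | Relation.ReflTransGen R3 t v} :=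
    fun w hw hK => subset_closure (.single (r3_of_hyp hC h h2 h.t1 h.t2 (fun e => hK (e ▸ one_mem K))
      (h.mul_self_of_not_mem hw hK) (fun e => hK (e ▸ h.tK)) hw))
  have h3 : 𝐂[t] ≤ closure {v | Relation.ReflTransGen R3 t v} := fun w hw => by
    by_cases hw' : w ∈ K
    · rw [← inv_mul_cancel_left s w]
      exact mul_mem (inv_mem (key s h.s_comm h.sK)) (key _ (mem_cent1.1 (mul_mem
        (mem_cent1.2 h.s_comm) hw)) (ODD.Hyp.mul_not_mem h.sK hw'))
    · exact key w (mem_cent1.1 hw) hw'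
  have hS : Syl 2 𝐂[t] ⊤ := ⟨le_top, hC.cent_inv h.t1 h.t2, by
    rw [relIndex_top_right]; exact h.odd_index.not_two_dvd_nat⟩
  obtain ⟨y, y1, y2, y3⟩ := exists_swap hC h h2 s1 h.s2 h.t1 h.t2 ts.symm h.s_comm.symm
  have y4 : y ∉ 𝐂[t] := fun e => s1 (by simpa [mem_cent1_iff_conj.1 e] using y2)
  have h4 : y * t ∈ 𝐂[t] := (hS.eq_of_le h3 le_top hQ).le (subset_closure (.tail (.single r)
    (r3_of_hyp hC h h2 s1 h.s2 (fun e => y4 (eq_inv_of_mul_eq_one_left e ▸ inv_mem (mem_cent1_self t)))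
      y3 (fun e => y4 (eq_mul_inv_of_mul_eq e ▸ mul_mem (mem_cent1.2 h.s_comm)
        (inv_mem (mem_cent1_self t))))
      (mem_cent1.1 (mul_mem (mem_cent1_iff_conj.2 y1) (mem_cent1.2 h.s_comm.symm))))))
  exact y4 ((mul_mem_cancel_right (mem_cent1_self t)).1 h4)

end

theorem relIndex_cent_dvd (hP : IsCyclic P) : (𝐂(P)).relIndex 𝐍(P) ∣ (♯P).totient := by
  rw [← IsCyclic.card_mulAut, relIndex, ← normalizerMonoidHom_ker, index_ker]
  exact card_subgroup_dvd_card _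

/-- Frattini argument with a cyclic Sylow subgroup -/
theorem IsCIT.index_dvd (hC : IsCIT G) [hn : L.Normal] [IsSimpleGroup L] (hns : ¬ Sol L) {k r : ℕ}
    (hi : L.index = 2 ^ k) [hr : Fact r.Prime] (r4 : r - 1 ∣ 2 ^ 2) (r2 : r ≠ 2) (hP : Syl r P L)
    (hc : IsCyclic P) (h0 : P ≠ ⊥) : 2 * L.index ∣ r - 1 := by
  obtain ⟨j, hj⟩ := hP.isPGroup.exists_card_eq
  obtain ⟨j, rfl⟩ := Nat.exists_eq_succ_of_ne_zero (n := j) (by
    rintro rfl; exact h0 (card_eq_one_iff.1 hj))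
  have key : ∀ X ≤ 𝐍(P), (𝐂(P).relIndex X).Coprime r → 𝐂(P).relIndex X ∣ r - 1 := fun X hX h => by
    have := (relIndex_dvd_of_le_norm hX (norm_le_norm_cent P)).trans (relIndex_cent_dvd hc)
    rw [hj, Nat.totient_prime_pow_succ hr.out] at this
    exact (h.pow_right j).dvd_of_dvd_mul_left this
  have h2 : 2 ∣ ♯(L ⊓ 𝐍(P)) := by_contra fun h2 => by
    have h3 := key _ inf_le_right ((hr.out.coprime_iff_not_dvd.2 fun e => hP.syl_norm.not_dvd
      (e.trans (relIndex_dvd_of_le_left _ (ab_of_isCyclic hc).le_cent))).symm)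
    have h4 := Burnside_normal_complement hP (relIndex_eq_one.1 ((Nat.Coprime.pow_right 2
      ((Nat.prime_two.coprime_iff_not_dvd.2 fun e => h2 (e.trans (relIndex_dvd_card _ _))).symm)).eq_one_of_dvd
        (h3.trans r4)))
    rcases h4.normal.subgroupOf.eq_bot_or_eq_top with e | e
    · rw [subgroupOf_eq_bot, disjoint_iff, inf_eq_left.2 h4.left_le] at e
      exact hns (by rw [← h4.sup_eq, e, bot_sup_eq]; exact hP.sol)
    · exact h0 (h4.inf_eq ▸ (inf_eq_right.2 (hP.le.trans (subgroupOf_eq_top.1 e))).symm)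
  have h3 := (hP.frattini (normalIn_top.2 hn)).symm.relIndex_eq
  rw [top_inf_eq, relIndex_top_right] at h3
  obtain ⟨R, h4, h5⟩ := exists_le_card_pow (p := 2) (k := k + 1) (M := 𝐍(P)) (by
    rw [← card_inf_mul_relIndex L, ← h3, hi, pow_succ']; exact Nat.mul_dvd_mul_right h2 _)
  have h6 := card_inf_mul_relIndex 𝐂(P) R
  obtain ⟨x, hx, x1⟩ := exists_mem_ne_one h0
  rw [show 𝐂(P) ⊓ R = ⊥ from eq_bot_iff.2 fun y hy => hC.fpf (IsPGroup.of_card h5) x1
    (Odd.of_dvd_nat (hj ▸ (hr.out.odd_of_ne_two r2).pow) (orderOf_dvd_card hx)) y hy.2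
    (mem_cent_iff.1 hy.1 x hx), card_bot, one_mul, h5] at h6
  rw [hi, ← pow_succ', ← h6]
  exact key R h4 (h6 ▸ ((Nat.coprime_primes Nat.prime_two hr.out).2 r2.symm).pow_left _)

theorem card_PSL2 {F : Type} [Field F] [Fintype F] (h2 : (2 : F) ≠ 0) :
    2 * Nat.card PSL(2, F) = Fintype.card F * ((Fintype.card F - 1) * (Fintype.card F + 1)) := by
  have h1 : Nat.card (center SL(2, F)) = 2 := by
    refine le_antisymm Lin.SL2.card_center_le ((one_lt_card_iff_ne_bot _).2 fun e => ?_)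
    have h : (-1 : SL(2, F)) ∈ center SL(2, F) := mem_center_iff.2 fun g => by simp
    rw [e, mem_bot] at h
    have := congrArg (fun x : SL(2, F) => x.1 0 0) h
    simp at this
    exact h2 (by linear_combination -this)
  rw [← Lin.card_SL2, ← (center SL(2, F)).card_mul_index, h1]
  rfl

theorem isCyclic_syl {F : Type} [Field F] [Fintype F] (e : L ≃* PSL(2, F)) {r : ℕ} [hr : Fact r.Prime]
    (r2 : r ≠ 2) (h : ¬ r ∣ Fintype.card F) (hP : Syl r P L) : IsCyclic P := by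
  by_cases h0 : P = ⊥
  · rw [h0]; infer_instance
  obtain ⟨x, hx, h1⟩ := cauchy hr.out (dvd_card_of_isPGroup (hP.isPGroup.to_le (Zc_le P))
    (Zc_ne_bot hP.nil h0))
  obtain ⟨p, _, n, hp, hF⟩ := FiniteField.card' F
  have h2 : orderOf (e ⟨x, hP.le hx.1⟩) = r := by rw [e.orderOf_eq, orderOf_mk, h1]
  rcases cent_cases p (u := e ⟨x, hP.le hx.1⟩) (fun e' => hr.out.one_lt.ne' (by rw [← h2, e', orderOf_one]))
    (Or.inl fun e' => r2 ((Nat.prime_dvd_prime_iff_eq hr.out Nat.prime_two).1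
      (h2 ▸ orderOf_dvd_of_pow_eq_one (by rw [sq, e'])))) with h3 | ⟨h3, -⟩
  · exact isCyclic_of_injective ((e.toMonoidHom.comp (inclusion hP.le)).codRestrict
      𝐂[e ⟨x, hP.le hx.1⟩] fun a => mem_cent1.2 (by
        simp only [MonoidHom.comp_apply, MulEquiv.coe_toMonoidHom, ← map_mul]
        exact congrArg e (Subtype.ext (mem_cent_iff.1 hx.2 a a.2)))) fun a b hab =>
      inclusion_injective _ (e.injective (congrArg Subtype.val hab))
  · obtain ⟨k, hk⟩ := h3 ⟨_, mem_cent1_self _⟩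
    have h4 := h2 ▸ orderOf_dvd_of_pow_eq_one (congrArg Subtype.val hk)
    exact absurd (hF ▸ (hr.out.dvd_of_dvd_pow h4).trans (dvd_pow_self p n.2.ne')) h

/-- `G` has a normal subgroup `PSL₂(9)` of index `2` -/
def IsM10 (G : Type*) [Group G] : Prop := ∃ N : Subgroup G, N.Normal ∧ N.index = 2 ∧
  ∃ (F : Type) (_ : Field F) (_ : Fintype F), Fintype.card F = 9 ∧ Nonempty (N ≃* PSL(2, F))

theorem IsCIT.fm_lift (hC : IsCIT G) [hn : L.Normal] (hns : ¬ Sol L) {k : ℕ} (hi : L.index = 2 ^ k)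
    (h : IsFM L) : IsFM G ∨ IsM10 G := by
  obtain ⟨F, _, _, h5, h, ⟨e⟩⟩ := h
  have := Matrix.ProjectiveSpecialLinearGroup.rank_two_simple (F := F) (by
    rw [Nat.card_eq_fintype_card]; omega)
  have := e.isSimpleGroup
  have hc := card_PSL2 (F := F) fun h2 => by
    have := (FiniteField.even_card_iff_char_two (F := F)).1 (CharP.ringChar_of_prime_eq_zero
      Nat.prime_two h2)
    rcases h with h | ⟨h, -⟩
    · omega
    · rcases h.eq_two_or_odd with h | h <;> omega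
  rw [← Nat.card_congr e.toEquiv] at hc
  have key : ∀ r : ℕ, r.Prime → r - 1 ∣ 2 ^ 2 → r ≠ 2 → ¬ r ∣ Fintype.card F → r ∣ 2 * ♯L →
      2 * L.index ∣ r - 1 := fun r hr h1 h2 h3 h4 => by
    have := Fact.mk hr
    obtain ⟨P, hP⟩ := exists_syl r L
    exact hC.index_dvd hns hi h1 h2 hP (isCyclic_syl e h2 h3 hP) (hP.ne_bot
      (((Nat.coprime_primes hr Nat.prime_two).2 h2).dvd_of_dvd_mul_left h4))
  have top : L.index = 1 → IsFM G := fun h1 => ⟨F, _, _, h5, h,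
    ⟨(topEquiv.symm.trans (MulEquiv.subgroupCongr (index_eq_one.1 h1).symm)).trans e⟩⟩
  rcases h with h | ⟨h, -⟩
  · have h1 := Nat.le_of_dvd (by norm_num) (key 5 (by norm_num) (by norm_num) (by norm_num)
      (by rw [h]; norm_num) (by rw [hc, h]; norm_num))
    have h2 := Nat.pos_of_ne_zero L.index_ne_zero_of_finite
    by_cases h3 : L.index = 1
    exacts [Or.inl (top h3), Or.inr ⟨L, hn, by omega, F, _, _, h, ⟨e⟩⟩]
  · have h3 : ¬ 3 ∣ Fintype.card F := fun e => by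
      have := (Nat.prime_dvd_prime_iff_eq Nat.prime_three h).1 e; omega
    have h1 := Nat.le_of_dvd (by norm_num) (key 3 (by norm_num) (by norm_num) (by norm_num) h3 (by
      rw [hc]
      refine Dvd.dvd.mul_left ?_ _
      by_cases h4 : 3 ∣ Fintype.card F + 1
      exacts [h4.mul_left _, Dvd.dvd.mul_right (by omega) _]))
    have h2 := Nat.pos_of_ne_zero L.index_ne_zero_of_finite
    exact Or.inl (top (by omega))

theorem IsCIT.of_solv (hC : IsCIT G) (hns : ¬ Group.IsSolvable G) (hO : pCore 2 G = ⊥)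
    (hN : ∀ X : Subgroup G, IsPGroup 2 X → X ≠ ⊥ → Sol 𝐍(X)) :
    IsZT G ∨ (Bad G ∧ (IsFM G ∨ IsM10 G)) := by
  set L := pResidual 2 G
  have hL := hC.subgroup L
  have h1 : ¬ Sol L := fun _ => hns (by
    have := (Transfer.isPGroup_quotient_pResidual (p := 2) (G := G)).isNilpotent
    exact Group.isSolvable_of_ker_le_range L.subtype (QuotientGroup.mk' L) (by simp))
  have h2 : pCore 2 L = ⊥ := (map_eq_bot_iff_of_injective _ L.subtype_injective).1 (eq_bot_iff.2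
    (((Op_le_of_normal 2 (normalIn_top.2 inferInstance)).trans (Op_top 2).le).trans hO.le))
  by_cases h : ∃ U : Subgroup L, ZN.Two ⊤ U
  swap
  · exact Or.inl (hC.zt_lift h1 (hL.zt_of_not_two h1 h2 (not_exists.1 h)))
  obtain ⟨U, hU⟩ := h
  have h3 : Oup 2 (⊤ : Subgroup L) = ⊤ := top_le_iff.1 (Transfer.pResidual_pResidual.ge.trans
    ((closure_le _).2 fun x hx => mem_Oup trivial hx))
  obtain ⟨S, hS, A, hA, h4, h5⟩ := (hL.zg fun X hX h0 => by
    have := hN (X.map L.subtype) (hX.map _) (by rwa [Ne, map_eq_bot_iff_of_injective _ L.subtype_injective])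
    exact Group.isSolvable_of_isSolvable_injective (f := (L.subtype.comp 𝐍(X).subtype).codRestrict
      𝐍(X.map L.subtype) fun a => map_norm_le _ _ ⟨_, a.2, rfl⟩) fun a b e =>
        Subtype.ext (Subtype.ext (congrArg Subtype.val e :))
    ).exists_sc (fun _ _ => h3.ge.trans le_sup_left) hU
  rw [h3, inf_top_eq] at hA h4 h5
  obtain ⟨K, t, s, h, hK, h6⟩ := exists_hyp hL Transfer.pResidual_pResidual hS hA h4
  obtain ⟨k, hk⟩ := Transfer.index_pResidual (p := 2) (G := G)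
  refine Or.inr ⟨(bad_of_hyp hL h fun e => h5 (eq_of_le_of_card_le hA.le ?_)).of_injective _
    L.subtype_injective, hC.fm_lift h1 hk (isFM_of_hyp h (hS.isPGroup.to_le hK) (hL.oddCore h1) h2)⟩
  rw [← card_mul_relIndex hK, e, h6, hA.card]; rfl

end Cfsg.Agent.CIT
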