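import Mathlib
import Cfsg.Agent.Lib.CIT.Basic

/-!
# Generators and relations for `PSL₃(4)`
-/

set_option autoImplicit false

namespace Cfsg.Agent.CIT

open Subgroup Cfsg.Agent.Coprime Cfsg.Agent.OO BSW
open scoped Pointwise

variable {P : Type*} [Group P] {H X : Subgroup P} {b g k u v w x y z : P}

/-- the elements whose left multiplication preserves `S` -/
def lst (S : P → Prop) : Subgroup P where
  carrier := {g | ∀ x, S (g * x) ↔ S x}
  one_mem' x := by rw [one_mul]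
  mul_mem' ha hb x := by rw [mul_assoc, ha, hb]
  inv_mem' {a} ha x := by rw [← ha, mul_inv_cancel_left]

theorem le_lst {S : P → Prop} (h : ∀ g ∈ H, ∀ x, S x → S (g * x)) : H ≤ lst S := fun g hg x =>
  ⟨fun e => by simpa using h _ (inv_mem hg) _ e, h g hg x⟩

theorem mem_lst {S : P → Prop} (g2 : g * g = 1) (h : ∀ x, S x → S (g * x)) : g ∈ lst S := fun x =>
  ⟨fun e => by simpa [← mul_assoc, g2] using h _ e, h x⟩

theorem card_le_of_cover [Finite P] {ι : Type*} [Finite ι] (r : ι → P)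
    (h : ∀ g ∈ X, ∃ i, ∃ y ∈ H, g = r i * y) : ♯X ≤ Nat.card ι * ♯H := by
  choose i y hy e using h
  rw [← Nat.card_prod]
  exact Nat.card_le_card_of_injective (fun g => (i g g.2, ⟨y g g.2, hy g g.2⟩)) fun a b h =>
    Subtype.ext (by rw [e a a.2, e b b.2, show i a a.2 = i b b.2 from (Prod.ext_iff.1 h).1,
      show y a a.2 = y b b.2 from congrArg Subtype.val (Prod.ext_iff.1 h).2])

structure H2 (k z w v : P) : Prop where
  k3 : k ^ 3 = 1
  z1 : z ≠ 1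
  z2 : z * z = 1
  zz : k * (k * z * k⁻¹) * k⁻¹ = z * (k * z * k⁻¹)
  w2 : w * w = 1
  inv : w * k * w⁻¹ = k⁻¹
  c0 : z * (w * z * w⁻¹) = w * z * w⁻¹ * z
  c1 : k * z * k⁻¹ * (w * z * w⁻¹) = w * z * w⁻¹ * (k * z * k⁻¹)
  b0 : w * z * w⁻¹ * (v * z * v⁻¹) * (w * z * w⁻¹)⁻¹ = z * (v * z * v⁻¹)
  b1 : w * z * w⁻¹ * (v * (k * z * k⁻¹) * v⁻¹) * (w * z * w⁻¹)⁻¹ =
    k * z * k⁻¹ * (v * (k * z * k⁻¹) * v⁻¹)
  th : v * (w * z * w⁻¹) * v = w * z * w⁻¹ * v * (w * z * w⁻¹)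

structure A2 (k z w v : P) : Prop where
  l : H2 k z w v
  r : H2 k z v w
  br : w * v * w = v * w * v

def rZ (k z : P) : Subgroup P := zpowers z ⊔ zpowers (k * z * k⁻¹)

def rA (k z w : P) : Subgroup P := rZ k z ⊔ w •ᶜ rZ k z

def rB (k z w v : P) : Subgroup P := rA k z w ⊔ v •ᶜ rZ k z ⊔ zpowers k

theorem rB_comm : rB k z w v = rB k z v w := by rw [rB, rB, rA, rA, sup_right_comm (rZ k z)]

theorem rA_le : rA k z w ⊔ zpowers k ≤ rB k z w v := sup_le_sup_right le_sup_left _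

theorem rZ_le : rZ k z ≤ rB k z w v := le_sup_left.trans (le_sup_left.trans rA_le)

theorem rU_le : w •ᶜ rZ k z ≤ rB k z w v := le_sup_right.trans (le_sup_left.trans rA_le)

variable [Finite P]

namespace H2

variable (h : H2 k z w v)
include h

omit [Finite P] in
theorem comm : k * z * k⁻¹ ∈ 𝐂[z] := mem_cent1.2 (by
  have := conj_mul_self (g := k) (conj_mul_self (g := k) h.z2)
  rw [h.zz] at this
  rw [← inv_eq_of_mul_self this, mul_inv_rev, inv_eq_of_mul_self h.z2,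
    inv_eq_of_mul_self (conj_mul_self h.z2)])

theorem mem_Z (hy : y ∈ rZ k z) : y = 1 ∨ ∃ κ ∈ zpowers k, y = κ * z * κ⁻¹ := by
  have h2 := orderOf_inv' h.z1 h.z2
  rcases ZN.mem_VV h2 ((orderOf_conj k z).trans h2) h.comm hy with e | e | e | e
  exacts [Or.inl e, Or.inr ⟨1, one_mem _, by simpa using e⟩, Or.inr ⟨k, mem_zpowers k, e⟩,
    Or.inr ⟨k * k, mul_mem (mem_zpowers k) (mem_zpowers k), by rw [e, ← h.zz]; group⟩]

theorem K_Z : zpowers k ≤ 𝐍(rZ k z) := zpowers_le.2 (mem_norm_of_conj_le (by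
  rw [rZ, conj_sup, conj_zpowers, conj_zpowers, h.zz]
  exact sup_le le_sup_right (zpowers_le.2 (mul_mem (mem_sup_left (mem_zpowers _))
    (mem_sup_right (mem_zpowers _))))))

theorem card_Z : ♯(rZ k z) ≤ 4 := Nat.le_of_dvd four_pos ((card_sup_dvd (Or.inr
  (le_norm_of_le_cent (by rw [cent_zpowers]; exact zpowers_le.2 h.comm)))).trans (by
    rw [Nat.card_zpowers, Nat.card_zpowers, orderOf_conj, orderOf_inv' h.z1 h.z2]))

theorem w_K : w ∈ 𝐍(zpowers k) := mem_norm_of_conj_le (by rw [conj_zpowers, h.inv, zpowers_inv])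

theorem K_U : zpowers k ≤ 𝐍(w •ᶜ rZ k z) := by
  rw [← conj_eq_of_mem_norm h.w_K]; exact conj_le_norm_conj.2 h.K_Z

theorem mem_U (hy : y ∈ w •ᶜ rZ k z) : y = 1 ∨ ∃ κ ∈ zpowers k, y = κ * (w * z * w⁻¹) * κ⁻¹ := by
  obtain ⟨y, hy', rfl⟩ := mem_conj_iff_exists.1 hy
  rcases h.mem_Z hy' with rfl | ⟨κ, hκ, rfl⟩
  exacts [Or.inl (by simp), Or.inr ⟨_, conj_mem_of_norm h.w_K hκ, by group⟩]

theorem U_le (hX : zpowers k ≤ 𝐍(X)) (ha : w * z * w⁻¹ ∈ X) : w •ᶜ rZ k z ≤ X := fun y hy => by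
  rcases h.mem_U hy with rfl | ⟨κ, hκ, rfl⟩
  exacts [one_mem X, conj_mem_of_norm (hX hκ) ha]

omit [Finite P] in
theorem a_cent : w * z * w⁻¹ ∈ 𝐂(rZ k z) := le_cent1_iff.1
  (sup_le (zpowers_le.2 (mem_cent1.2 h.c0)) (zpowers_le.2 (mem_cent1.2 h.c1)))

theorem card_A : ♯(rA k z w) ≤ 16 := (Nat.le_of_dvd (Nat.mul_pos (card_pos' _) (card_pos' _))
  (card_sup_dvd (Or.inr (le_norm_of_le_cent (h.U_le (le_norm_cent h.K_Z) h.a_cent))))).trans (by
    rw [card_conj]; exact Nat.mul_le_mul h.card_Z h.card_Z)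

theorem K_A : zpowers k ≤ 𝐍(rA k z w) := le_norm_sup h.K_Z h.K_U

theorem w_norm : w ∈ 𝐍(rA k z w ⊔ zpowers k) := mem_norm_sup (conj_eq_self_iff.1 (by
  rw [rA, conj_sup, conj_conj, h.w2, one_conj, sup_comm])) h.w_K

theorem U_norm (h' : H2 k z v w) : w •ᶜ rZ k z ≤ 𝐍(rA k z v) := by
  refine h.U_le (le_norm_norm h'.K_A) (mem_norm_of_conj_le ?_)
  rw [rA, conj_sup, conj_eq_of_mem_cent h.a_cent, rZ, conj_sup, conj_sup, conj_zpowers, conj_zpowers,
    conj_zpowers, conj_zpowers, h.b0, h.b1]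
  exact sup_le le_sup_left (sup_le (zpowers_le.2 (mul_mem (mem_sup_left (mem_sup_left (mem_zpowers _)))
    (mem_sup_right (mem_sup_left (mem_zpowers _))))) (zpowers_le.2 (mul_mem (mem_sup_left
      (mem_sup_right (mem_zpowers _))) (mem_sup_right (mem_sup_right (mem_zpowers _))))))

end H2

namespace A2

variable (h : A2 k z w v)
include h

omit [Finite P] in
theorem symm : A2 k z v w := ⟨h.r, h.l, h.br.symm⟩

theorem card_B : ♯(rB k z w v) ≤ 192 := by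
  have h1 := Nat.le_of_dvd (Nat.mul_pos (card_pos' _) (card_pos' _))
    (card_sup_dvd (Or.inr (h.r.U_norm h.l)))
  have h2 := Nat.le_of_dvd (Nat.mul_pos (card_pos' _) (card_pos' _))
    (card_sup_dvd (Or.inr (le_norm_sup h.l.K_A h.r.K_U)))
  have h3 := Nat.le_of_dvd three_pos (orderOf_dvd_of_pow_eq_one h.l.k3)
  rw [card_conj] at h1
  rw [Nat.card_zpowers] at h2
  exact h2.trans (Nat.mul_le_mul (h1.trans (Nat.mul_le_mul h.l.card_A h.l.card_Z)) h3)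

theorem split (hb : b ∈ rB k z w v) :
    ∃ β ∈ rA k z w ⊔ zpowers k, ∃ y ∈ rZ k z, b = β * (v * y * v⁻¹) := by
  obtain ⟨t, ht, κ, hκ, rfl⟩ := (mem_sup_norm_left (le_norm_sup h.l.K_A h.r.K_U)).1 hb
  obtain ⟨a, ha, u, hu, rfl⟩ := (mem_sup_norm_left (h.r.U_norm h.l)).1 ht
  obtain ⟨y, hy, e⟩ := mem_conj_iff_exists.1 (conj_mem_of_norm' (h.r.K_U hκ) hu)
  exact ⟨a * κ, mul_mem (mem_sup_left ha) (mem_sup_right hκ), y, hy, by rw [← e]; group⟩

theorem split' (hb : b ∈ rB k z w v) :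
    ∃ y ∈ rZ k z, ∃ β ∈ rA k z w ⊔ zpowers k, b * w = v * y * v⁻¹ * w * β := by
  obtain ⟨β, hβ, y, hy, e⟩ := h.split (inv_mem hb)
  exact ⟨y⁻¹, inv_mem hy, _, conj_mem_of_norm' h.l.w_norm (inv_mem hβ), by
    rw [inv_eq_iff_eq_inv.1 e]; group⟩

theorem mem_P (hg : g ∈ rB k z w v ⊔ zpowers w) :
    g ∈ rB k z w v ∨ ∃ b ∈ rB k z w v, ∃ c ∈ rB k z w v, g = b * w * c := by
  have := (sup_le (le_lst fun g hg x hx => ?_) (zpowers_le.2 (mem_lst h.l.w2 fun x hx => ?_)) :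
    _ ≤ lst fun g => g ∈ rB k z w v ∨ ∃ b ∈ rB k z w v, ∃ c ∈ rB k z w v, g = b * w * c) hg 1
  · rw [mul_one] at this; exact this.2 (Or.inl (one_mem _))
  · exact hx.imp (mul_mem hg) fun ⟨b, hb, c, hc, e⟩ => ⟨_, mul_mem hg hb, c, hc, by rw [e]; group⟩
  rcases hx with hx | ⟨b, hb, c, hc, rfl⟩
  · exact Or.inr ⟨1, one_mem _, x, hx, by rw [one_mul]⟩
  obtain ⟨β, hβ, y, hy, rfl⟩ := h.split hb
  have h1 := rA_le (v := v) (conj_mem_of_norm h.l.w_norm hβ)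
  have h2 : v * z * v⁻¹ ∈ rB k z w v := rB_comm.le (rU_le (conj_mem_conj (mem_sup_left (mem_zpowers z))))
  rcases h.r.mem_U (conj_mem_conj hy) with e | ⟨κ, hκ, e⟩ <;> rw [e]
  · exact Or.inl (by simpa [inv_eq_of_mul_self h.l.w2, mul_assoc] using mul_mem h1 hc)
  have h3 : w * κ * w⁻¹ ∈ rB k z w v := mem_sup_right (conj_mem_of_norm h.l.w_K hκ)
  refine Or.inr ⟨_, mul_mem (mul_mem h1 h3) h2, _, mul_mem (mul_mem h2 (inv_mem h3)) hc, ?_⟩
  calc _ = w * β * w⁻¹ * (w * κ * w⁻¹) * (w * (v * z * v⁻¹) * w) * (w * w)⁻¹ * (w * κ * w⁻¹)⁻¹ *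
      (w * w) * c := by group
    _ = _ := by rw [h.r.th, h.l.w2]; group

theorem card_P : ♯(rB k z w v ⊔ zpowers w) ≤ 960 := by
  refine (card_le_of_cover (H := rB k z w v) (ι := Option (rZ k z))
    (fun i => i.elim 1 fun y => v * y * v⁻¹ * w) fun g hg => ?_).trans ?_
  · rcases h.mem_P hg with hg | ⟨b, hb, c, hc, rfl⟩
    · exact ⟨none, g, hg, (one_mul g).symm⟩
    obtain ⟨y, hy, β, hβ, e⟩ := h.split' hb
    exact ⟨some ⟨y, hy⟩, _, mul_mem (rA_le hβ) hc, by rw [e, mul_assoc]; rfl⟩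
  · rw [Finite.card_option]
    exact Nat.mul_le_mul (Nat.succ_le_succ h.l.card_Z) h.card_B

theorem mem_G (hg : g ∈ closure {k, z, w, v}) : ∃ p ∈ rB k z v w ⊔ zpowers v,
    ∃ x ∈ rB k z w v ⊔ zpowers w, ∃ p' ∈ rB k z v w ⊔ zpowers v, g = p * x * p' := by
  have h1 : rB k z v w ⊔ zpowers v ≤ lst fun g => ∃ p ∈ rB k z v w ⊔ zpowers v,
      ∃ x ∈ rB k z w v ⊔ zpowers w, ∃ p' ∈ rB k z v w ⊔ zpowers v, g = p * x * p' :=
    le_lst fun g hg y ⟨p, hp, x, hx, p', hp', e⟩ => ⟨_, mul_mem hg hp, x, hx, p', hp', by rw [e]; group⟩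
  have hw : w ∈ rB k z w v ⊔ zpowers w := mem_sup_right (mem_zpowers w)
  have hv : v ∈ rB k z v w ⊔ zpowers v := mem_sup_right (mem_zpowers v)
  have hB : ∀ {b}, b ∈ rB k z w v → b ∈ rB k z v w ⊔ zpowers v := fun hb => mem_sup_left (rB_comm.le hb)
  have := (closure_le _).2 (Set.insert_subset (h1 (mem_sup_left (mem_sup_right (mem_zpowers k))))
    (Set.insert_subset (h1 (mem_sup_left (rZ_le (mem_sup_left (mem_zpowers z)))))
    (Set.insert_subset (mem_lst h.l.w2 ?_) (Set.singleton_subset_iff.2 (h1 hv))))) hg 1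
  · rw [mul_one] at this
    exact this.2 ⟨1, one_mem _, 1, one_mem _, 1, one_mem _, by simp⟩
  rintro _ ⟨p, hp, x, hx, p', hp', rfl⟩
  rcases h.symm.mem_P hp with hp | ⟨b, hb, c, hc, rfl⟩
  · exact ⟨1, one_mem _, _, mul_mem (mul_mem hw (mem_sup_left (rB_comm.le hp))) hx, p', hp', by group⟩
  rw [rB_comm] at hb hc
  obtain ⟨β, hβ, y, hy, rfl⟩ := h.split hb
  have h2 := rA_le (v := v) (conj_mem_of_norm h.l.w_norm hβ)
  rcases h.mem_P (mul_mem (mem_sup_left (mul_mem (rZ_le hy) hc)) hx) with e | ⟨b, hb, c', hc', e⟩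
  · exact ⟨_, hB h2, w, hw, _, mul_mem (mul_mem hv (hB e)) hp', by group⟩
  obtain ⟨y', hy', β', hβ', e'⟩ := h.split' hb
  refine ⟨_, mul_mem (hB (mul_mem h2 (rU_le (conj_mem_conj hy')))) hv, w, hw, _,
    mul_mem (mul_mem hv (hB (mul_mem (rA_le hβ') hc'))) hp', ?_⟩
  calc _ = w * β * v * (y * c * x) * p' := by group
    _ = w * β * (v * v) * y' * w⁻¹ * (w * v * w) * w⁻¹ * (v * v)⁻¹ * w * β' * c' * p' := by
      rw [e, e']; group
    _ = _ := by rw [h.r.w2, h.br]; group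

theorem card_le : ♯(closure {k, z, w, v}) ≤ 20160 := by
  refine (card_le_of_cover (H := rB k z v w ⊔ zpowers v) (ι := Option (rZ k z ⊕ rA k z w))
    (fun i => i.elim 1 (Sum.elim (fun y => v * y * v⁻¹ * w) fun a => a * v * w)) fun g hg => ?_).trans ?_
  · obtain ⟨p, hp, x, hx, p', hp', rfl⟩ := h.mem_G hg
    have hB : ∀ {b}, b ∈ rB k z w v → b ∈ rB k z v w ⊔ zpowers v := fun hb => mem_sup_left (rB_comm.le hb)
    rcases h.mem_P hx with hx | ⟨b, hb, c, hc, rfl⟩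
    · exact ⟨none, _, mul_mem (mul_mem hp (hB hx)) hp', (one_mul _).symm⟩
    rcases h.symm.mem_P (mul_mem hp (hB hb)) with e | ⟨b', hb', c', hc', e⟩
    · obtain ⟨y, hy, β, hβ, e⟩ := h.split' (rB_comm.le e)
      exact ⟨some (.inl ⟨y, hy⟩), _, mul_mem (hB (mul_mem (rA_le hβ) hc)) hp', by
        rw [← mul_assoc, ← mul_assoc, e]; simp [mul_assoc]⟩
    obtain ⟨y, hy, β, hβ, e1⟩ := h.symm.split' hb'
    obtain ⟨y', hy', β', hβ', e2⟩ := h.split' (rB_comm.le (mul_mem (rA_le hβ) hc'))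
    refine ⟨some (.inr ⟨_, mul_mem (mem_sup_right (conj_mem_conj hy)) (mem_sup_left hy')⟩), _,
      mul_mem (hB (mul_mem (rA_le hβ') hc)) hp', ?_⟩
    calc _ = p * b * w * c * p' := by group
      _ = w * y * w⁻¹ * v * (β * c' * w) * c * p' := by rw [e, e1]; group
      _ = w * y * w⁻¹ * (v * v) * y' * v * (v * v)⁻¹ * w * β' * c * p' := by rw [e2]; group
      _ = _ := by rw [h.r.w2]; simp [mul_assoc]
  · rw [Finite.card_option, Nat.card_sum]
    exact Nat.mul_le_mul (Nat.succ_le_succ (Nat.add_le_add h.l.card_Z h.l.card_A)) h.symm.card_P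

end A2

omit [Finite P] in
theorem H2.prod {Q : Type*} [Group Q] {k' z' w' v' : Q} (h : H2 k z w v) (h' : H2 k' z' w' v') :
    H2 (k, k') (z, z') (w, w') (v, v') :=
  ⟨Prod.ext h.k3 h'.k3, fun e => h.z1 (congrArg Prod.fst e), Prod.ext h.z2 h'.z2, Prod.ext h.zz h'.zz,
    Prod.ext h.w2 h'.w2, Prod.ext h.inv h'.inv, Prod.ext h.c0 h'.c0, Prod.ext h.c1 h'.c1,
    Prod.ext h.b0 h'.b0, Prod.ext h.b1 h'.b1, Prod.ext h.th h'.th⟩

theorem A2.nonempty_equiv [IsSimpleGroup P] {Q : Type*} [Group Q] [Finite Q] {k' z' w' v' : Q}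
    (h : A2 k z w v) (h' : A2 k' z' w' v') (hP : closure {k, z, w, v} = ⊤)
    (h1 : Nat.card P = 20160) (h2 : Nat.card Q ≤ 20160) : Nonempty (P ≃* Q) := by
  have h3 := A2.card_le ⟨h.l.prod h'.l, h.r.prod h'.r, Prod.ext h.br h'.br⟩
  set R := closure {(k, k'), (z, z'), (w, w'), (v, v')}
  have h4 : Function.Surjective ((MonoidHom.fst P Q).comp R.subtype) := by
    rw [← MonoidHom.range_eq_top, MonoidHom.range_comp, range_subtype, MonoidHom.map_closure]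
    simpa [Set.image_insert_eq] using hP
  let e := MulEquiv.ofBijective _ (h4.bijective_of_nat_card_le (h1 ▸ h3))
  let f := ((MonoidHom.snd P Q).comp R.subtype).comp e.symm.toMonoidHom
  have h5 : Function.Injective f := (MonoidHom.ker_eq_bot_iff f).1
    ((f.normal_ker.eq_bot_or_eq_top).resolve_right fun e' => h'.l.z1 (by
      have := e'.ge (mem_top (e ⟨(z, z'), subset_closure (by simp)⟩))
      simpa [f] using this))
  exact ⟨MulEquiv.ofBijective f (h5.bijective_of_nat_card_le (h1 ▸ h2))⟩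

end Cfsg.Agent.CIT
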