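import Mathlib
import Cfsg.Agent.Lib.CIT.Sec
import Cfsg.Agent.Lib.BSW.SzIso

/-!
# Simple fixed-point-free modules for the Suzuki groups are natural
-/

set_option autoImplicit false
set_option linter.unusedSectionVars false

namespace Cfsg.Agent.CIT

open Subgroup Cfsg.Agent.Coprime Cfsg.Agent.OO Matrix BSW.SzM
open scoped Pointwise

universe u

variable {H : Type u} [Group H] {M : Type*} [AddCommGroup M] [Module (ZH H) M] {v : M}
  {F : Type} [Field F] [CharP F 2] {θ : F ≃+* F} {ρ : H →* Matrix (Fin 4) (Fin 4) F}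
  {s : F → F → H} {d : F → H} {w : H}

/-- matrix coordinates for a Suzuki group -/
structure SzD (θ : F ≃+* F) (ρ : H →* Matrix (Fin 4) (Fin 4) F) (s : F → F → H) (d : F → H)
    (w : H) : Prop where
  fin : Finite F
  sq : ∀ x, θ (θ x) = x ^ 2
  ne : ∃ l : F, l ≠ 0 ∧ l ≠ 1
  inj : Function.Injective ρ
  ρs : ∀ x y, ρ (s x y) = Sm θ x y
  ρd : ∀ κ, κ ≠ 0 → ρ (d κ) = Dm θ κ
  ρw : ρ w = Wm
  br : ∀ g, ∃ x y x' y' κ, κ ≠ 0 ∧ (g = s x y * d κ ∨ g = s x y * w * s x' y' * d κ)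

theorem exists_szd {m : ℕ} (hm : 1 ≤ m)
    (e : H ≃* Lie.Sz (GaloisField 2 (2 * m + 1)) (2 ^ (m + 1))) :
    ∃ (θ : GaloisField 2 (2 * m + 1) ≃+* _) (ρ : H →* _) (s : _) (d : _) (w : H), SzD θ ρ s d w := by
  set F := GaloisField 2 (2 * m + 1)
  have hF : Nat.card F = 2 ^ (2 * m + 1) := GaloisField.card _ _ (by omega)
  let θ := iterateFrobeniusEquiv F 2 (m + 1)
  have he : ∀ x, θ x = x ^ 2 ^ (m + 1) := fun _ => rfl
  have hθ : ∀ x, θ (θ x) = x ^ 2 := fun x => by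
    have := Fintype.ofFinite F
    rw [he, he, ← pow_mul, ← pow_add, show m + 1 + (m + 1) = 2 * m + 1 + 1 by ring, pow_succ, pow_mul,
      ← hF, Nat.card_eq_fintype_card, FiniteField.pow_card]
  have hN : ∀ x y, x * θ x = y * θ y → x = y := fun x y h => by
    by_cases h0 : y = 0
    · simpa [h0] using h
    have h1 := congrArg θ h
    rw [map_mul, map_mul, hθ, hθ] at h1
    exact mul_right_cancel₀ (mul_ne_zero h0 (by simpa using h0 : θ y ≠ 0))
      (by linear_combination h1 - x * h)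
  have hs := Finite.surjective_of_injective (f := fun x => x * θ x) hN
  have hR := R_eq hθ hs hN he
  have hS : ∀ x y, S hθ x y ∈ Lie.Sz F _ := fun x y => subset_closure ((sig_iff he).2 (sig_S hθ x y))
  have hD : ∀ κ, D θ κ ∈ Lie.Sz F (2 ^ (m + 1)) := fun κ => by
    by_cases h : κ = 0
    · rw [D, dif_pos h]; exact one_mem _
    · exact subset_closure ((sig_iff he).2 (D_val (θ := θ) h ▸ sig_D hθ h))
  have inj : Function.Injective
      (((Units.coeHom _).comp (Lie.Sz F (2 ^ (m + 1))).subtype).comp e.toMonoidHom) :=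
    (Units.val_injective.comp Subtype.val_injective).comp e.injective
  refine ⟨θ, _, fun x y => e.symm ⟨_, hS x y⟩, fun κ => e.symm ⟨_, hD κ⟩,
    e.symm ⟨W, subset_closure ((sig_iff he).2 sig_W)⟩, inferInstance, hθ, ?_, inj, fun x y => by simp [S],
    fun κ h => by simp [D_val h], by simp [W], fun g => ?_⟩
  · by_contra! h
    have h1 := Nat.card_le_card_of_surjective (f := fun b : Bool => if b then (1 : F) else 0)
      fun l => by
        by_cases l0 : l = 0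
        exacts [⟨false, l0.symm⟩, ⟨true, (h l l0).symm⟩]
    have := Nat.pow_lt_pow_right (m := 1) one_lt_two (show 1 < 2 * m + 1 by omega)
    rw [hF, Nat.card_eq_fintype_card, Fintype.card_bool] at h1
    omega
  · rcases (hR.ge (e g).2) with h | ⟨a, ha, b, hb, h⟩
    · obtain ⟨x, y, κ, h0, h⟩ := (mem_B hθ hs).1 h
      exact ⟨x, y, 0, 0, κ, h0, Or.inl (inj (by simpa [S, D_val h0] using h))⟩
    · obtain ⟨x, y, κ, h0, h1⟩ := (mem_B hθ hs).1 ha
      obtain ⟨x', y', κ', h0', h2⟩ := (mem_B hθ hs).1 hb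
      refine ⟨x, y, κ⁻¹ ^ 2 / θ κ⁻¹ * x', θ κ⁻¹ * y', κ⁻¹ * κ', by simp [h0, h0'], Or.inr (inj ?_)⟩
      have h3 : Dm θ κ * Wm = Wm * Dm θ κ⁻¹ := by
        rw [← (Wm_Dm κ).resolve_right h0, mul_assoc, mul_assoc, Dm_mul, mul_inv_cancel₀ h0, Dm_one,
          mul_one, (Wm_Dm κ).resolve_right h0]
      have h4 := congrArg Units.val h
      rw [Units.val_mul, Units.val_mul, h1, h2, mul_assoc (Sm θ x y), show W.val = Wm from rfl, h3,
        mul_assoc, mul_assoc, ← mul_assoc (Dm θ κ⁻¹), Dm_Sm hθ (inv_ne_zero h0), mul_assoc,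
        Dm_mul] at h4
      simpa [S, W, D_val (show κ⁻¹ * κ' ≠ 0 by simp [h0, h0']), mul_assoc] using h4

omit [CharP F 2] in
theorem Sm_vec (x y : F) (n : Fin 4 → F) : Sm θ x y *ᵥ n = ![n 0 + x * n 1 + y * n 2 +
    (θ y + x * y + x ^ 2 * θ x) * n 3, n 1 + θ x * n 2 + (y + x * θ x) * n 3, n 2 + x * n 3, n 3] := by
  ext i; fin_cases i <;> simp [Sm, mulVec, dotProduct, Fin.sum_univ_four]

omit [CharP F 2] in
theorem Dm_vec (κ : F) (n : Fin 4 → F) :
    Dm θ κ *ᵥ n = ![κ * n 0, θ κ / κ * n 1, κ / θ κ * n 2, 1 / κ * n 3] := by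
  ext i; fin_cases i <;> simp [Dm, mulVec, dotProduct, Fin.sum_univ_four]

omit [CharP F 2] in
theorem Wm_vec (n : Fin 4 → F) : Wm *ᵥ n = ![n 3, n 2, n 1, n 0] := by
  ext i; fin_cases i <;> simp [Wm, mulVec, dotProduct, Fin.sum_univ_four]

theorem exists_fixed {A : Type*} [Finite A] {P : Subgroup H} (hP : IsPGroup 2 P) (f : H → A → A)
    (f1 : ∀ a, f 1 a = a) (fm : ∀ g h a, f (g * h) a = f g (f h a)) {a₀ : A} (h0 : ∀ g, f g a₀ = a₀)
    (he : 2 ∣ Nat.card A) : ∃ a, a ≠ a₀ ∧ ∀ g ∈ P, f g a = a := by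
  let _ : MulAction P A := { smul g a := f g a, one_smul := f1, mul_smul g h := fm g h }
  obtain ⟨a, ha, hne⟩ := hP.exists_fixed_point_of_prime_dvd_card_of_fixed_point A he (a := a₀)
    fun g => h0 g
  exact ⟨a, hne.symm, fun g hg => ha ⟨g, hg⟩⟩

theorem two_dvd_card {A : Type*} [AddCommGroup A] [Finite A] {a : A} (h0 : a ≠ 0) (h : a + a = 0) :
    2 ∣ Nat.card A := by
  rw [← addOrderOf_eq_prime (p := 2) (by rwa [two_nsmul]) h0]; exact addOrderOf_dvd_natCard a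

namespace SzD

variable (h : SzD θ ρ s d w)
include h

theorem s_mul (x y z t : F) : s x y * s z t = s (x + z) (y + t + x * θ z) :=
  h.inj (by rw [map_mul, h.ρs, h.ρs, h.ρs, Sm_mul h.sq])

theorem s_zero : s 0 0 = 1 := h.inj (by rw [h.ρs, Sm_zero, map_one])

theorem w_w : w * w = 1 := h.inj (by rw [map_mul, h.ρw, Wm_mul, map_one])

theorem d_mul {κ μ : F} (hκ : κ ≠ 0) (hμ : μ ≠ 0) : d κ * d μ = d (κ * μ) :=
  h.inj (by rw [map_mul, h.ρd _ hκ, h.ρd _ hμ, h.ρd _ (mul_ne_zero hκ hμ), Dm_mul])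

theorem d_one : d 1 = 1 := h.inj (by rw [h.ρd _ one_ne_zero, Dm_one, map_one])

theorem d_s {κ : F} (hκ : κ ≠ 0) (x y : F) : d κ * s x y = s (κ ^ 2 / θ κ * x) (θ κ * y) * d κ :=
  h.inj (by rw [map_mul, map_mul, h.ρd _ hκ, h.ρs, h.ρs, Dm_Sm h.sq hκ])

theorem z_mul (y t : F) : s 0 y * s 0 t = s 0 (y + t) := by simp [h.s_mul]

theorem z_z (y : F) : s 0 y * s 0 y = 1 := by rw [h.z_mul, CharTwo.add_self_eq_zero, h.s_zero]

theorem s_z (x y t : F) : s x y * s 0 t = s 0 t * s x y := by simp [h.s_mul, add_comm]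

theorem sq5 : (w * s 0 1) ^ 2 = s 1 1 * w * s 1 1 := by
  have e : w * s 0 1 * w * s 1 1 = s 1 1 * w := h.inj (by simp only [map_mul, h.ρs, h.ρw, Wm_str])
  rw [← e, mul_assoc _ (s 1 1), h.s_mul, _root_.sq]
  simp [CharTwo.add_self_eq_zero, mul_assoc]

theorem pow4 : (w * s 0 1) ^ 4 = s 0 1 * w := by
  have e : s 1 1 * s 1 1 = s 0 1 := by simp [h.s_mul, CharTwo.add_self_eq_zero]
  have e' : s 1 1 * s 0 1 = (s 1 1)⁻¹ := eq_inv_of_mul_eq_one_right (by rw [← mul_assoc, e, h.z_z])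
  calc _ = s 1 1 * ((w * (s 1 1 * s 1 1)) ^ 2 * (s 0 1)⁻¹) * s 1 1 := by
        rw [show 4 = 2 * 2 from rfl, pow_mul, h.sq5, e, ← e]; simp only [_root_.sq]; group
    _ = _ := by
        rw [e, h.sq5, BSW.inv_eq_of_mul_self (h.z_z 1), mul_assoc _ (s 1 1), e', ← e]; group

theorem pow5 : (w * s 0 1) ^ 5 = 1 := by
  rw [pow_succ, h.pow4, mul_assoc, ← mul_assoc w, h.w_w, one_mul, h.z_z]

theorem ne5 : w * s 0 1 ≠ 1 := fun e => by
  have := congrFun (congrFun (congrArg ρ e) 0) 0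
  simp [h.ρw, h.ρs, Wm, Sm, Matrix.mul_apply, Fin.sum_univ_four] at this

theorem odd5 : Odd (orderOf (w * s 0 1)) :=
  Odd.of_dvd_nat (by decide) (orderOf_dvd_of_pow_eq_one h.pow5)

theorem rel (hM : Fpf H M) (m : M) : m + w ⋆ s 0 1 ⋆ m + s 1 1 ⋆ w ⋆ s 1 1 ⋆ m +
    s 1 0 ⋆ w ⋆ s 1 0 ⋆ m + s 0 1 ⋆ w ⋆ m = 0 := by
  have e : s 1 0 * s 1 1 = 1 := by simp [h.s_mul, CharTwo.add_self_eq_zero, h.s_zero]
  have e3 : (w * s 0 1) ^ 3 = s 1 0 * w * s 1 0 := by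
    rw [eq_inv_of_mul_eq_one_left ((pow_add _ 3 2).symm.trans h.pow5), h.sq5,
      eq_inv_of_mul_eq_one_left e, _root_.mul_inv_rev, _root_.mul_inv_rev, BSW.inv_eq_of_mul_self h.w_w, mul_assoc]
  have := hM.sum_eq_zero h.ne5 h.odd5 h.pow5 m
  simp only [Finset.sum_range_succ, h.sq5, e3, h.pow4] at this
  simpa [mul_act] using this

theorem exists_syl : ∃ P : Subgroup H, IsPGroup 2 P ∧ ∀ x y, s x y ∈ P := by
  have e : ∀ x y, s x y * s x (y + x * θ x) = 1 := fun x y => by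
    rw [h.s_mul, ← h.s_zero]; congr 1 <;> linear_combination (norm := (ring_nf <;> reduce_mod_char!))
  refine ⟨{ carrier := {g | ∃ x y, s x y = g}
            one_mem' := ⟨0, 0, h.s_zero⟩
            mul_mem' := ?_
            inv_mem' := ?_ }, ?_, fun x y => ⟨x, y, rfl⟩⟩
  · rintro _ _ ⟨x, y, rfl⟩ ⟨z, t, rfl⟩; exact ⟨_, _, (h.s_mul ..).symm⟩
  · rintro _ ⟨x, y, rfl⟩; exact ⟨_, _, eq_inv_of_mul_eq_one_right (e x y)⟩
  · rintro ⟨_, x, y, rfl⟩
    refine ⟨2, Subtype.ext ?_⟩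
    change s x y ^ (2 * 2) = 1
    rw [pow_mul, _root_.sq (s x y), h.s_mul, CharTwo.add_self_eq_zero, _root_.sq, h.z_z]

theorem fix_d (hv : ∀ x y, s x y ⋆ v = v) {κ : F} (hκ : κ ≠ 0) (x y : F) :
    s x y ⋆ d κ ⋆ v = d κ ⋆ v := by
  have h1 : θ κ ≠ 0 := by simpa using hκ
  have := h.d_s hκ (θ κ / κ ^ 2 * x) ((θ κ)⁻¹ * y)
  rw [show κ ^ 2 / θ κ * (θ κ / κ ^ 2 * x) = x by field_simp, mul_inv_cancel_left₀ h1] at this
  rw [← mul_act, ← this, mul_act, hv]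

theorem nat_simple (N : AddSubgroup (Fin 4 → F)) (hN : ∀ g, ∀ n ∈ N, ρ g *ᵥ n ∈ N) :
    (∀ n ∈ N, n = 0) ∨ ∀ n, n ∈ N := by
  refine or_iff_not_imp_left.2 fun h0 => ?_
  push Not at h0
  obtain ⟨n, hn, n0⟩ := h0
  have J : ∀ n ∈ N, ![n 1 + n 3, n 2 + n 3, n 3, 0] ∈ N := fun n hn => by
    convert N.sub_mem (hN (s 1 0) n hn) hn using 1
    rw [h.ρs, Sm_vec]; ext i; fin_cases i <;> simp <;> ring
  obtain ⟨c, c0, hc⟩ : ∃ c, c ≠ 0 ∧ ![c, 0, 0, 0] ∈ N := by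
    by_cases h3 : n 3 = 0
    · by_cases h2 : n 2 = 0
      · by_cases h1 : n 1 = 0
        · refine ⟨n 0, fun e => n0 ?_, ?_⟩
          · ext i; fin_cases i <;> assumption
          · convert hn; ext i; fin_cases i <;> simp [*]
        · exact ⟨_, h1, by simpa [h2, h3] using J _ hn⟩
      · exact ⟨_, h2, by simpa [h3] using J _ (J _ hn)⟩
    · exact ⟨_, h3, by simpa using J _ (J _ (J _ hn))⟩
  have e0 : ∀ a, ![a, 0, 0, 0] ∈ N := fun a => by
    by_cases a0 : a = 0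
    · convert N.zero_mem; ext i; fin_cases i <;> simp [a0]
    · simpa [h.ρd _ (div_ne_zero a0 c0), Dm_vec, c0] using hN (d (a / c)) _ hc
  have e3 : ∀ a, ![0, 0, 0, a] ∈ N := fun a => by simpa [h.ρw, Wm_vec] using hN w _ (e0 a)
  intro n
  convert N.add_mem (N.add_mem (N.add_mem (e0 (n 0 - n 1)) (J _ (J _ (e3 (n 1 - n 2))))) (J _ (e3 (n 2))))
    (e3 (n 3))
  ext i; fin_cases i <;> simp [CharTwo.add_self_eq_zero]

section
variable {l : M →+ ZMod 2} (hM : Fpf H M) (hl : ∀ x y m, l (s x y ⋆ m) = l m)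
include hM hl

theorem lam_fix (hv : ∀ x y, s x y ⋆ v = v) : l v = 0 := by
  have := congrArg l (h.rel hM v)
  simp only [map_add, hl, hv, map_zero] at this
  linear_combination (norm := (ring_nf; reduce_mod_char)) this

open Classical in
theorem lam_act (hv : ∀ x y, s x y ⋆ v = v) (g : H) :
    l (g ⋆ v) = if ρ g 3 0 = 0 then 0 else l (w ⋆ d (ρ g 3 0) ⋆ v) := by
  obtain ⟨x, y, x', y', κ, hκ, rfl | rfl⟩ := h.br g
  · rw [if_pos, mul_act, hl, h.lam_fix hM hl (h.fix_d hv hκ)]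
    simp [h.ρs, h.ρd _ hκ, Sm, Dm, Matrix.mul_apply, Fin.sum_univ_four]
  · have : ρ (s x y * w * s x' y' * d κ) 3 0 = κ := by
      simp [h.ρs, h.ρw, h.ρd _ hκ, Sm, Dm, Wm, Matrix.mul_apply, Fin.sum_univ_four]
    rw [this, if_neg hκ, mul_act, mul_act, mul_act, hl, h.fix_d hv hκ]

open Classical in
theorem lam_add (hv : ∀ x y, s x y ⋆ v = v) (a b : F) :
    (if a + b = 0 then 0 else l (w ⋆ d (a + b) ⋆ v)) = (if a = 0 then 0 else l (w ⋆ d a ⋆ v)) +
      if b = 0 then 0 else l (w ⋆ d b ⋆ v) := by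
  by_cases a0 : a = 0
  · simp [a0]
  have hu := h.fix_d hv a0
  have e : ∀ x y, ρ (w * s x y * w) 3 0 = θ y + x * y + x ^ 2 * θ x := fun x y => by
    simp [h.ρs, h.ρw, Sm, Wm, Matrix.mul_apply, Fin.sum_univ_four]
  have k : ∀ x y, l (w ⋆ s x y ⋆ w ⋆ d a ⋆ v) = if (θ y + x * y + x ^ 2 * θ x) * a = 0 then 0 else
      l (w ⋆ d ((θ y + x * y + x ^ 2 * θ x) * a) ⋆ v) := fun x y => by
    rw [← mul_act, ← mul_act, h.lam_act hM hl hu, e]
    by_cases e0 : θ y + x * y + x ^ 2 * θ x = 0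
    · simp [e0]
    · rw [if_neg e0, if_neg (mul_ne_zero e0 a0), ← mul_act (d _), h.d_mul e0 a0]
  have := congrArg l (h.rel hM (s 1 (θ.symm (b / a)) ⋆ w ⋆ d a ⋆ v))
  simp only [map_add, hl, map_zero, ← mul_act (s _ _) (s _ _), h.s_mul, k, map_one,
    RingEquiv.apply_symm_apply, CharTwo.add_self_eq_zero, zero_add, zero_mul, one_mul, one_pow,
    add_zero, mul_one] at this
  have e1 : 1 + b / a + (1 + θ.symm (b / a)) + 1 = b / a + θ.symm (b / a) + 1 := by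
    linear_combination (norm := (ring_nf; reduce_mod_char!))
  have e2 : (1 + b / a + 1 + 0 ^ 2 * 0) * a = b := by
    field_simp; linear_combination (norm := (ring_nf; reduce_mod_char!))
  have e3 : (b / a + 1 + 0 ^ 2 * 0) * a = a + b := by field_simp; ring
  rw [e1, e2, e3] at this
  rw [if_neg a0]
  linear_combination (norm := (ring_nf; reduce_mod_char)) this

end

theorem exists_fix (hM : Fpf H M) [IsSimpleModule (ZH H) M] :
    ∃ v : M, v ≠ 0 ∧ ∀ x y, s x y ⋆ v = v := by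
  have := hM.fin
  have := IsSimpleModule.nontrivial (ZH H) M
  obtain ⟨P, hP, hs⟩ := h.exists_syl
  obtain ⟨a, ha⟩ := exists_ne (0 : M)
  obtain ⟨v, v0, hv⟩ := exists_fixed hP (fun g (m : M) => g ⋆ m) one_act mul_act (fun _ => map_zero _)
    (two_dvd_card ha (hM.two_of_simple a))
  exact ⟨v, v0, fun x y => hv _ (hs x y)⟩

theorem exists_lam (hM : Fpf H M) [IsSimpleModule (ZH H) M] :
    ∃ l : M →+ ZMod 2, l ≠ 0 ∧ ∀ x y m, l (s x y ⋆ m) = l m := by
  have := hM.fin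
  have := IsSimpleModule.nontrivial (ZH H) M
  have : Finite (M →+ ZMod 2) := Finite.of_injective _ DFunLike.coe_injective
  obtain ⟨P, hP, hs⟩ := h.exists_syl
  obtain ⟨a, ha⟩ := exists_ne (0 : M)
  let _ : Module (ZMod 2) M := AddCommGroup.zmodModule fun m => (two_nsmul m).trans (hM.two_of_simple m)
  obtain ⟨f, hf⟩ := Module.Projective.exists_dual_ne_zero (ZMod 2) ha
  obtain ⟨l, l0, hl⟩ := exists_fixed hP (fun g (l : M →+ ZMod 2) => l.comp (actH M g⁻¹))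
    (fun l => by ext; simp) (fun g g' l => by ext; simp [mul_act]) (a₀ := 0) (fun _ => rfl)
    (two_dvd_card (a := f.toAddMonoidHom) (fun e => hf (DFunLike.congr_fun e a))
      (by ext; exact CharTwo.add_self_eq_zero _))
  exact ⟨l, l0, fun x y m => by simpa using DFunLike.congr_fun (hl _ (inv_mem (hs x y))) m⟩

/-- simple fixed-point-free modules are natural -/
theorem exists_equiv (hM : Fpf H M) [IsSimpleModule (ZH H) M] :
    ∃ φ : M ≃+ (Fin 4 → F), ∀ (g : H) m, φ (g ⋆ m) = ρ g *ᵥ φ m := by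
  classical
  obtain ⟨v, v0, hv⟩ := h.exists_fix hM
  obtain ⟨l, l0, hl⟩ := h.exists_lam hM
  let X : AddSubgroup (M × (Fin 4 → F)) :=
    AddSubgroup.closure (Set.range fun g : H => (g ⋆ v, ρ g *ᵥ ![1, 0, 0, 0]))
  have hX : ∀ g : H, ∀ a n, (a, n) ∈ X → (g ⋆ a, ρ g *ᵥ n) ∈ X := fun g a n hp =>
    (AddSubgroup.closure_le (X.comap (AddMonoidHom.prodMap (actH M g)
      (Matrix.mulVecLin (ρ g)).toAddMonoidHom))).2 (by
        rintro _ ⟨g', rfl⟩
        exact AddSubgroup.subset_closure ⟨g * g', by simp [mul_act]⟩) hp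
  have h1 : (v, ![1, 0, 0, 0]) ∈ X := AddSubgroup.subset_closure ⟨1, by simp⟩
  have h2 : ∀ a, (a, 0) ∈ X → a = 0 := (eq_bot_or_top (X.comap (AddMonoidHom.inl _ _))
    fun g a ha => by simpa using hX g a 0 ha).resolve_right fun e => l0 <| AddMonoidHom.ext fun a => by
      let Ψ : F →+ ZMod 2 :=
        AddMonoidHom.mk' (fun a => if a = 0 then 0 else l (w ⋆ d a ⋆ v)) (h.lam_add hM hl hv)
      have := (AddSubgroup.closure_le (AddMonoidHom.eqLocus (l.comp (AddMonoidHom.fst _ _))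
        (Ψ.comp ((Pi.evalAddMonoidHom _ 3).comp (AddMonoidHom.snd _ _))))).2 (by
          rintro _ ⟨g, rfl⟩
          change l (g ⋆ v) = Ψ ((ρ g *ᵥ ![1, 0, 0, 0]) 3)
          simpa [Ψ, mulVec, dotProduct, Fin.sum_univ_four] using h.lam_act hM hl hv g) (e a)
      exact (show l a = Ψ 0 from this).trans (map_zero Ψ)
  have h3 : ∀ n, n ∈ X.comap (AddMonoidHom.inr _ _) → n = 0 := (h.nat_simple _
    fun g n hn => by simpa using hX g 0 n hn).resolve_right fun e =>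
      v0 (h2 v (by simpa using X.sub_mem h1 (e ![1, 0, 0, 0])))
  have h4 := (eq_bot_or_top (H := H) (X.map (AddMonoidHom.fst _ _)) (by
    rintro g _ ⟨p, hp, rfl⟩; exact ⟨_, hX g p.1 p.2 hp, rfl⟩)).resolve_left fun e => v0 (e v ⟨_, h1, rfl⟩)
  have h5 := (h.nat_simple (X.map (AddMonoidHom.snd _ _)) (by
    rintro g _ ⟨p, hp, rfl⟩; exact ⟨_, hX g p.1 p.2 hp, rfl⟩)).resolve_left fun e => by
      simpa using congrFun (e _ ⟨_, h1, rfl⟩) 0
  let e1 := AddEquiv.ofBijective ((AddMonoidHom.fst _ _).comp X.subtype)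
    ⟨(injective_iff_map_eq_zero _).2 fun p hp => Subtype.ext (Prod.ext hp
      (h3 _ (show (0, p.1.2) ∈ X by convert p.2; exact hp.symm))), fun a => by
        obtain ⟨p, hp, rfl⟩ := h4 a; exact ⟨⟨p, hp⟩, rfl⟩⟩
  let e2 := AddEquiv.ofBijective ((AddMonoidHom.snd _ _).comp X.subtype)
    ⟨(injective_iff_map_eq_zero _).2 fun p hp => Subtype.ext (Prod.ext
      (h2 _ (by convert p.2; exact hp.symm)) hp), fun a => by
        obtain ⟨p, hp, rfl⟩ := h5 a; exact ⟨⟨p, hp⟩, rfl⟩⟩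
  refine ⟨e1.symm.trans e2, fun g m => ?_⟩
  obtain ⟨p, rfl⟩ := e1.surjective m
  rw [show g ⋆ e1 p = e1 ⟨_, hX g p.1.1 p.1.2 p.2⟩ from rfl]
  simp only [AddEquiv.trans_apply, AddEquiv.symm_apply_apply]
  rfl

end SzD

end Cfsg.Agent.CIT
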