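import Mathlib
import Cfsg.Agent.Lib.CIT.SzA
import Cfsg.Agent.Lib.R1.ZT
import Cfsg.Agent.Lib.BSW.Ind

/-!
# Martineau's theorem on fixed-point-free modules for the Suzuki groups
-/

set_option autoImplicit false
set_option linter.unusedSectionVars false

namespace Cfsg.Agent.CIT

open Subgroup Cfsg.Agent.Coprime Cfsg.Agent.OO Matrix BSW.SzM
open scoped Pointwise

universe u

variable {H : Type u} [Group H] {F : Type} [Field F] [CharP F 2] {θ : F ≃+* F}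
  {ρ : H →* Matrix (Fin 4) (Fin 4) F} {s : F → F → H} {d : F → H} {w : H}

theorem vec4_add (a b c e a' b' c' e' : F) :
    ![a, b, c, e] + ![a', b', c', e'] = ![a + a', b + b', c + c', e + e'] := by
  ext i; fin_cases i <;> rfl

namespace SzD

variable (h : SzD θ ρ s d w)
include h

/-- additive maps commuting with the Sylow subgroup are scalar modulo the fixed points of `Z` -/
theorem end_eq (φ : (Fin 4 → F) →+ (Fin 4 → F))
    (hφ : ∀ x y n, φ (Sm θ x y *ᵥ n) = Sm θ x y *ᵥ φ n) (c : F) :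
    φ ![0, 0, 0, c] 2 = 0 ∧ φ ![0, 0, 0, c] 3 = c * φ ![1, 0, 0, 0] 0 := by
  have A : ∀ x y n i, φ (Sm θ x y *ᵥ n) i = (Sm θ x y *ᵥ φ n) i := fun x y n => congrFun (hφ x y n)
  have B0 : ∀ c, φ ![c, 0, 0, 0] 1 = 0 ∧ φ ![c, 0, 0, 0] 2 = 0 ∧ φ ![c, 0, 0, 0] 3 = 0 := fun c => by
    have a0 := A 1 0 ![c, 0, 0, 0] 0
    have a1 := A 1 0 ![c, 0, 0, 0] 1
    have a2 := A 1 0 ![c, 0, 0, 0] 2
    simp [Sm_vec] at a0 a1 a2
    simp only [a2, add_zero, add_assoc, left_eq_add] at a0 a1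
    exact ⟨a0, a1, a2⟩
  have E1 : ∀ x y c, Sm θ x y *ᵥ ![0, c, 0, 0] = ![x * c, 0, 0, 0] + ![0, c, 0, 0] := fun x y c => by
    simp [Sm_vec, vec4_add]
  have B1 : ∀ c, φ ![0, c, 0, 0] 2 = 0 ∧ φ ![0, c, 0, 0] 3 = 0 := fun c => by
    have a1 := A 1 0 ![0, c, 0, 0] 1
    have a2 := A 1 0 ![0, c, 0, 0] 2
    rw [E1, map_add] at a1 a2
    simp [Sm_vec, B0] at a1 a2
    exact ⟨by simpa [a2] using a1, a2⟩
  have C1 : ∀ x c, φ ![x * c, 0, 0, 0] 0 = x * φ ![0, c, 0, 0] 1 := fun x c => by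
    have a0 := A x 0 ![0, c, 0, 0] 0
    rw [E1, map_add] at a0
    simp [Sm_vec, B1] at a0
    linear_combination a0
  set l := φ ![1, 0, 0, 0] 0
  have D0 : ∀ c, φ ![c, 0, 0, 0] 0 = c * l := fun c => by
    have := C1 1 1
    rw [mul_one, one_mul] at this
    rw [← mul_one c, C1, mul_one, ← this]
  have D1 : ∀ c, φ ![0, c, 0, 0] 1 = c * l := fun c => by rw [← D0, ← one_mul c, C1, one_mul, one_mul]
  have E2 : ∀ x c, Sm θ x 0 *ᵥ ![0, 0, c, 0] = ![0, θ x * c, 0, 0] + ![0, 0, c, 0] := fun x c => by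
    simp [Sm_vec, vec4_add]
  have B2 : ∀ c, φ ![0, 0, c, 0] 3 = 0 ∧ φ ![0, 0, c, 0] 2 = c * l := fun c => by
    have a1 := A 1 0 ![0, 0, c, 0] 1
    have a2 := A 1 0 ![0, 0, c, 0] 2
    rw [E2, map_add] at a1 a2
    simp [Sm_vec, B1, D1] at a1 a2
    exact ⟨a2, by rw [a2] at a1; linear_combination -a1⟩
  have C2 : ∀ x c, φ ![0, θ x * c, 0, 0] 0 = x * φ ![0, 0, c, 0] 1 := fun x c => by
    have a0 := A x 0 ![0, 0, c, 0] 0
    rw [E2, map_add] at a0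
    simp [Sm_vec, B2] at a0
    linear_combination a0
  have E3 : ∀ x c, Sm θ x 0 *ᵥ ![0, 0, 0, c] = ![x ^ 2 * θ x * c, 0, 0, 0] + ![0, x * θ x * c, 0, 0] +
      ![0, 0, x * c, 0] + ![0, 0, 0, c] := fun x c => by simp [Sm_vec, vec4_add]
  have B3 : ∀ c, φ ![0, 0, 0, c] 3 = c * l := fun c => by
    have a2 := A 1 0 ![0, 0, 0, c] 2
    rw [E3, map_add, map_add, map_add] at a2
    simp [Sm_vec, B0, B1, B2] at a2
    linear_combination -a2
  have C3 : ∀ x c, φ ![0, 0, x * c, 0] 1 = θ x * φ ![0, 0, 0, c] 2 := fun x c => by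
    have a1 := A x 0 ![0, 0, 0, c] 1
    rw [E3, map_add, map_add, map_add] at a1
    simp [Sm_vec, B0, D1, B3] at a1
    linear_combination a1
  obtain ⟨x, x0, x1⟩ := h.ne
  have e1 := C2 x c
  have e2 := C2 1 (θ x * c)
  have e3 := C3 1 c
  rw [map_one, one_mul, one_mul] at e2 e3
  rw [e2, C3, h.sq, e3] at e1
  exact ⟨mul_left_cancel₀ (mul_ne_zero x0 (sub_ne_zero.2 x1)) (by linear_combination e1), B3 c⟩

theorem half (B : (Fin 4 → F) →+ (Fin 4 → F) →+ (Fin 4 → F))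
    (hB : ∀ g a b, B (ρ g *ᵥ a) (ρ g *ᵥ b) = ρ g *ᵥ B a b) (a c : F) :
    B ![a, 0, 0, 0] ![0, 0, 0, c] 2 = 0 ∧ B ![a, 0, 0, 0] ![0, 0, 0, c] 3 = 0 := by
  have k := h.end_eq (B ![a, 0, 0, 0]) (fun x y n => by
    rw [← h.ρs, ← hB, h.ρs, Sm_vec x y ![a, 0, 0, 0]]; simp) c
  obtain ⟨x, x0, x1⟩ := h.ne
  have e : ∀ a, B ![x * a, 0, 0, 0] ![1, 0, 0, 0] 0 = B ![a, 0, 0, 0] ![1, 0, 0, 0] 0 := fun a => by
    have e1 := (h.end_eq (B ![x * a, 0, 0, 0]) (fun x' y n => by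
      rw [← h.ρs, ← hB, h.ρs, Sm_vec x' y ![x * a, 0, 0, 0]]; simp) 1).2
    have e2 := (h.end_eq (B ![a, 0, 0, 0]) (fun x' y n => by
      rw [← h.ρs, ← hB, h.ρs, Sm_vec x' y ![a, 0, 0, 0]]; simp) x).2
    have e3 := congrFun (hB (d x) ![a, 0, 0, 0] ![0, 0, 0, x]) 3
    simp [h.ρd _ x0, Dm_vec, x0] at e3
    rw [one_mul] at e1
    rw [← e1, e3, e2, inv_mul_cancel_left₀ x0]
  have e' := e (a / (x + 1))
  rw [← sub_eq_zero, ← Pi.sub_apply, ← AddMonoidHom.sub_apply, ← map_sub] at e'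
  have x2 : x + 1 ≠ 0 := fun e => x1 (by rw [← CharTwo.sub_eq_add, sub_eq_zero] at e; exact e)
  rw [show ![x * (a / (x + 1)), 0, 0, 0] - ![a / (x + 1), 0, 0, 0] = ![a, 0, 0, 0] by
    ext i; fin_cases i <;> simp [CharTwo.sub_eq_add]; field_simp] at e'
  exact ⟨k.1, by rw [k.2, e', mul_zero]⟩

theorem nat_prod (B : (Fin 4 → F) →+ (Fin 4 → F) →+ (Fin 4 → F))
    (hB : ∀ g a b, B (ρ g *ᵥ a) (ρ g *ᵥ b) = ρ g *ᵥ B a b) : B = 0 := by
  have k : ∀ a c, B ![a, 0, 0, 0] ![0, 0, 0, c] = 0 := fun a c => by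
    have e1 := h.half B hB a c
    have e2 := h.half B.flip (fun g a b => hB g b a) c a
    have e3 := hB w ![0, 0, 0, a] ![c, 0, 0, 0]
    simp only [h.ρw, Wm_vec, AddMonoidHom.flip_apply] at e2 e3
    simp only [cons_val] at e3
    ext i
    fin_cases i
    · simpa [e3] using e2.2
    · simpa [e3] using e2.1
    exacts [e1.1, e1.2]
  have k' : B ![1, 0, 0, 0] = 0 := by
    have J : ∀ n ∈ (B ![1, 0, 0, 0]).ker, ![n 1 + n 3, n 2 + n 3, n 3, 0] ∈ (B ![1, 0, 0, 0]).ker :=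
      fun n hn => by
        have e := hB (s 1 0) ![1, 0, 0, 0] n
        rw [AddMonoidHom.mem_ker.1 hn, mulVec_zero, h.ρs, Sm_vec 1 0 ![1, 0, 0, 0]] at e
        convert (B ![1, 0, 0, 0]).ker.sub_mem (show Sm θ 1 0 *ᵥ n ∈ _ by simpa using e) hn using 1
        rw [Sm_vec]; ext i; fin_cases i <;> simp <;> ring
    refine AddMonoidHom.ext fun n => AddMonoidHom.mem_ker.1 ?_
    convert add_mem (add_mem (add_mem (J _ (J _ (J _ (k 1 (n 0 - n 1))))) (J _ (J _ (k 1 (n 1 - n 2)))))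
      (J _ (k 1 (n 2)))) (k 1 (n 3))
    ext i; fin_cases i <;> simp [CharTwo.add_self_eq_zero]
  refine AddMonoidHom.ext fun n => (h.nat_simple B.ker fun g a ha => AddMonoidHom.ext fun b => ?_).resolve_left
    (fun e => by simpa using congrFun (e _ k') 0) n
  have := hB g a (ρ g⁻¹ *ᵥ b)
  rwa [mulVec_mulVec, ← map_mul, mul_inv_cancel, map_one, one_mulVec, AddMonoidHom.mem_ker.1 ha,
    AddMonoidHom.zero_apply, mulVec_zero] at this

theorem noProd : NoProd H fun _ _ _ => True := NoProd.of_simple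
  fun U U' W _ _ _ _ _ _ hU hU' hW _ _ _ β hβ => by
    obtain ⟨φ, hφ⟩ := h.exists_equiv hU
    obtain ⟨φ', hφ'⟩ := h.exists_equiv hU'
    obtain ⟨ψ, hψ⟩ := h.exists_equiv hW
    have := h.nat_prod (((β.comp φ.symm.toAddMonoidHom).compl₂ φ'.symm.toAddMonoidHom).compr₂
      ψ.toAddMonoidHom) fun g a b => by
        obtain ⟨a, rfl⟩ := φ.surjective a
        obtain ⟨b, rfl⟩ := φ'.surjective b
        simp [← hφ, ← hφ', ← hψ, hβ g]
    refine AddMonoidHom.ext fun a => AddMonoidHom.ext fun b => ?_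
    simpa using DFunLike.congr_fun (DFunLike.congr_fun this (φ a)) (φ' b)

variable {M : Type*} [AddCommGroup M] [Module (ZH H) M]

theorem two_of_quad (hM : Fpf H M) (q : ∀ y y' (m : M), y ≠ 0 → s 0 y ⋆ m = m → s 0 y' ⋆ m = m)
    (m : M) : m + m = 0 := by
  obtain ⟨l, l0, l1⟩ := h.ne
  have n : ∀ y (m : M), s 0 y ⋆ (m + s 0 y ⋆ m) = m + s 0 y ⋆ m := fun y m => by
    rw [map_add, ← mul_act, h.z_z, one_act, add_comm]
  have k : ∀ m : M, s 0 1 ⋆ (m + m) = m + m := fun m => by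
    have e1 := q 1 l _ one_ne_zero (n 1 m)
    have e2 := q l 1 _ l0 (n l m)
    rw [map_add, ← mul_act, h.z_mul] at e1 e2
    rw [add_comm 1 l] at e2
    refine q (1 + l) 1 _ (fun e => l1 ((CharTwo.add_eq_iff_eq_add.1 e).trans (zero_add l)).symm) ?_
    rw [← h.z_mul, mul_act, show s 0 l ⋆ (m + m) = s 0 1 ⋆ (m + m) by
      simp only [map_add]; linear_combination (norm := abel1) e1 - e2, ← mul_act, h.z_z, one_act]
  have := pow_fix (g := (w * s 0 1) ^ 2) (m := m + m) (by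
    rw [_root_.sq, mul_act, mul_act, mul_act, k, map_add, k, ← map_add, ← mul_act, h.w_w, one_act]) 3
  rw [← pow_mul, show 2 * 3 = 5 + 1 from rfl, pow_succ, h.pow5, one_mul] at this
  exact hM.fpf _ h.ne5 h.odd5 _ this

theorem eq_zero_of_hom (f : F → F) (fa : ∀ a b, f (a + b) = f a + f b)
    (e : ∀ ν b, ν ≠ 0 → f (ν * b) + b * f ν = θ ν / ν * f b) (b : F) : f b = 0 := by
  by_contra f0
  obtain ⟨l, l0, l1⟩ := h.ne
  have k : ∀ ν, ν ≠ 0 → ν ≠ 1 → θ ν = ν ^ 2 := fun ν n0 n1 => by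
    have n2 : ν + 1 ≠ 0 := fun e => n1 (by rwa [← CharTwo.sub_eq_add, sub_eq_zero] at e)
    have e1 := e _ b n2
    rw [add_mul, fa, fa, mul_add, add_add_add_comm, e ν b n0, e 1 b one_ne_zero, ← add_mul, map_add,
      map_one] at e1
    have e2 := mul_right_cancel₀ f0 e1
    field_simp at e2
    linear_combination (norm := (ring_nf; reduce_mod_char!)) e2
  have e1 := h.sq l
  rw [k l l0 l1, map_pow, k l l0 l1] at e1
  have l2 : l + 1 ≠ 0 := fun e => l1 (by rwa [← CharTwo.sub_eq_add, sub_eq_zero] at e)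
  exact mul_ne_zero (pow_ne_zero 2 l0) (pow_ne_zero 2 l2)
    (by linear_combination (norm := (ring_nf; reduce_mod_char!)) e1)

theorem quad_step (p : M →+ Fin 4 → F) (i : (Fin 4 → F) →+ M)
    (hp : ∀ (g : H) m, p (g ⋆ m) = ρ g *ᵥ p m) (ps : Function.Surjective p)
    (hi : ∀ (g : H) n, i (ρ g *ᵥ n) = g ⋆ i n) (ii : Function.Injective i) (pi : ∀ n, p (i n) = 0)
    (q1 : ∀ y y' m, y ≠ 0 → p m = 0 → s 0 y ⋆ m = m → s 0 y' ⋆ m = m)
    (q2 : ∀ y y' m, y ≠ 0 → s 0 y ⋆ m = m → ∃ n, i n = s 0 y' ⋆ m - m)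
    (t2 : ∀ m, ∃ n, i n = m + m) (y y' : F) (m : M) (y0 : y ≠ 0) (hm : s 0 y ⋆ m = m) :
    s 0 y' ⋆ m = m := by
  have := h.fin
  have hz : ∀ y n, s 0 y ⋆ i n = i ![n 0 + y * n 2 + θ y * n 3, n 1 + y * n 3, n 2, n 3] := fun y n => by
    rw [← hi, h.ρs, Sm_vec]; simp
  have pz : ∀ y m, p (m + s 0 y ⋆ m) = ![y * p m 2 + θ y * p m 3, y * p m 3, 0, 0] := fun y m => by
    rw [map_add, hp, h.ρs, Sm_vec]
    ext j; fin_cases j <;> simp [← add_assoc, CharTwo.add_self_eq_zero]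
  have nz : ∀ y (m : M), s 0 y ⋆ (m + s 0 y ⋆ m) = m + s 0 y ⋆ m := fun y m => by
    rw [map_add, ← mul_act, h.z_z, one_act, add_comm]
  choose σ hσ using fun y a b => show ∃ m, y ≠ 0 → s 0 y ⋆ m = m ∧ p m = ![a, b, 0, 0] by
    obtain ⟨m, hm⟩ := ps ![0, 0, (a - θ y * (b / y)) / y, b / y]
    exact ⟨_, fun y0 => ⟨nz y m, by rw [pz, hm]; simp [mul_div_cancel₀, y0]⟩⟩
  choose L hL using fun y y' a b => show ∃ n, y ≠ 0 → i n = s 0 y' ⋆ σ y a b - σ y a b by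
    by_cases y0 : y = 0
    · exact ⟨0, fun e => (e y0).elim⟩
    · exact (q2 y y' _ y0 (hσ y a b y0).1).imp fun _ e _ => e
  have key : ∀ y y' a b m n, y ≠ 0 → s 0 y ⋆ m = m → p m = ![a, b, 0, 0] → i n = s 0 y' ⋆ m - m →
      L y y' a b = n := fun y y' a b m n y0 e1 e2 e3 => ii (by
    have := q1 y y' (m - σ y a b) y0 (by rw [map_sub, e2, (hσ y a b y0).2, sub_self])
      (by rw [map_sub, e1, (hσ y a b y0).1])
    rw [map_sub] at this
    rw [hL _ _ _ _ y0, e3]; linear_combination (norm := abel1) -this)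
  have hW : ∀ y y' a b, y ≠ 0 → L y y' a b 2 = 0 ∧ L y y' a b 3 = 0 := fun y y' a b y0 => by
    have e : s 0 y ⋆ i (L y y' a b) = i (L y y' a b) := by
      rw [hL _ _ _ _ y0, map_sub, ← mul_act, h.s_z, mul_act, (hσ y a b y0).1]
    rw [hz] at e
    have e0 := congrFun (ii e) 0
    have e1 := congrFun (ii e) 1
    simp [y0] at e1
    simp [y0, e1] at e0
    exact ⟨e0, e1⟩
  have addc : ∀ y y' a b a' b', y ≠ 0 → L y y' (a + a') (b + b') = L y y' a b + L y y' a' b' :=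
    fun y y' a b a' b' y0 => key _ _ _ _ (σ y a b + σ y a' b') _ y0
      (by rw [map_add, (hσ _ _ _ y0).1, (hσ _ _ _ y0).1])
      (by rw [map_add, (hσ _ _ _ y0).2, (hσ _ _ _ y0).2, vec4_add, add_zero])
      (by rw [map_add, hL _ _ _ _ y0, hL _ _ _ _ y0, map_add]; abel)
  have addy : ∀ y y' y'' a b, y ≠ 0 → L y (y' + y'') a b = L y y' a b + L y y'' a b :=
    fun y y' y'' a b y0 => ii (by
      have e : s 0 y' ⋆ i (L y y'' a b) = i (L y y'' a b) := by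
        rw [hz]; congr 1; ext j; fin_cases j <;> simp [hW _ _ _ _ y0]
      rw [map_add, ← e, hL _ _ _ _ y0, hL _ _ _ _ y0, hL _ _ _ _ y0, ← h.z_mul, mul_act, map_sub]; abel)
  have self : ∀ y a b, y ≠ 0 → L y y a b = 0 := fun y a b y0 => ii (by
    rw [hL _ _ _ _ y0, (hσ _ _ _ y0).1, sub_self, map_zero])
  have eqS : ∀ y y' x b, y ≠ 0 → L y y' (x * b) 0 = ![x * L y y' 0 b 1, 0, 0, 0] := fun y y' x b y0 => by
    have e := key y y' (x * b + 0) (0 + b) (s x 0 ⋆ σ y 0 b) (ρ (s x 0) *ᵥ L y y' 0 b) y0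
      (by rw [← mul_act, ← h.s_z, mul_act, (hσ _ _ _ y0).1])
      (by rw [hp, (hσ _ _ _ y0).2, h.ρs, Sm_vec]; simp)
      (by rw [hi, hL _ _ _ _ y0, map_sub, ← mul_act, h.s_z, mul_act])
    rw [addc _ _ _ _ _ _ y0, h.ρs, Sm_vec, ← eq_sub_iff_add_eq] at e
    rw [e]; ext j; fin_cases j <;> simp [hW _ _ _ _ y0]
  have eqD : ∀ κ y y' a b, κ ≠ 0 → y ≠ 0 → L (θ κ * y) (θ κ * y') (κ * a) (θ κ / κ * b) =
      Dm θ κ *ᵥ L y y' a b := fun κ y y' a b k0 y0 => by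
    have e : ∀ y, s 0 (θ κ * y) * d κ = d κ * s 0 y := fun y => by rw [h.d_s k0, mul_zero]
    rw [← h.ρd _ k0]
    exact key _ _ _ _ (d κ ⋆ σ y a b) _ (by simp [k0, y0])
      (by rw [← mul_act, e, mul_act, (hσ _ _ _ y0).1])
      (by rw [hp, (hσ _ _ _ y0).2, h.ρd _ k0, Dm_vec]; simp)
      (by rw [hi, hL _ _ _ _ y0, map_sub, ← mul_act, ← e, mul_act])
  have coc : ∀ y₁ y' a b c, y₁ ≠ 0 → L 1 y₁ a b = ![c, 0, 0, 0] →
      L y₁ y' a b 0 = L 1 y' a b 0 - y' * (c / y₁) := fun y₁ y' a b c y1 e => by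
    have e1 := hL 1 y₁ a b one_ne_zero
    have e2 : ∀ t, s 0 t ⋆ i ![0, 0, c / y₁, 0] = i ![t * (c / y₁), 0, 0, 0] + i ![0, 0, c / y₁, 0] :=
      fun t => by rw [hz, ← map_add, vec4_add]; simp
    rw [key y₁ y' a b (σ 1 a b - i ![0, 0, c / y₁, 0]) (L 1 y' a b - ![y' * (c / y₁), 0, 0, 0]) y1
      (by rw [map_sub, e2, mul_div_cancel₀ _ y1, ← e, e1]; abel)
      (by rw [map_sub, pi, (hσ _ _ _ one_ne_zero).2, sub_zero])
      (by rw [map_sub, map_sub, e2, hL _ _ _ _ one_ne_zero]; abel)]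
    rfl
  obtain ⟨l, l0, l1⟩ := h.ne
  have l2 : l + 1 ≠ 0 := fun e => l1 (by rwa [← CharTwo.sub_eq_add, sub_eq_zero] at e)
  have hβ : ∀ y y', y ≠ 0 → L y y' 0 1 1 = 0 := by
    have e1 : ∀ y y', y ≠ 0 → L y y' 1 0 = ![L y y' 0 1 1, 0, 0, 0] := fun y y' y0 => by
      simpa using eqS y y' 1 1 y0
    have e2 : ∀ a b, a ≠ 0 → L a (a * b) 0 1 1 = L 1 b 0 1 1 := fun a b a0 => by
      have k0 : θ.symm a ≠ 0 := by simpa using a0
      have e3 := congrFun (eqD (θ.symm a) 1 b 1 0 k0 one_ne_zero) 0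
      rw [mul_zero, RingEquiv.apply_symm_apply, mul_one a, eqS _ _ _ _ a0, e1 _ _ one_ne_zero,
        Dm_vec] at e3
      simpa [k0] using e3
    have e3 : ∀ a b, a ≠ 0 → L 1 b 0 1 1 = L 1 (a * b) 0 1 1 - b * L 1 a 0 1 1 := fun a b a0 => by
      have := coc a (a * b) 1 0 _ a0 (e1 _ _ one_ne_zero)
      rw [e1 _ _ a0, e1 _ _ one_ne_zero, e2 _ _ a0] at this
      simp only [cons_val_zero] at this
      rw [this]; field_simp
    intro y y' y0
    have e4 := e3 _ (y' / y) l2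
    rw [add_mul, addy _ _ _ _ _ one_ne_zero, addy _ _ _ _ _ one_ne_zero, self _ _ _ one_ne_zero,
      one_mul, add_zero, Pi.add_apply] at e4
    rw [← mul_div_cancel₀ y' y0, e2 _ _ y0, e3 l _ l0]
    linear_combination -e4
  have h0 : ∀ y y' a, y ≠ 0 → L y y' a 0 = 0 := fun y y' a y0 => by
    rw [← mul_one a, eqS _ _ _ _ y0, hβ _ _ y0]; ext j; fin_cases j <;> simp
  have h1 : ∀ y y' a b, y ≠ 0 → L y y' a b = ![L y y' 0 b 0, 0, 0, 0] := fun y y' a b y0 => by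
    have e := congrFun (eqS y y' 1 b y0) 0
    rw [← add_zero a, ← zero_add b, addc _ _ _ _ _ _ y0, h0 _ _ _ y0, zero_add, zero_add]
    rw [h0 _ _ _ y0] at e
    ext j; fin_cases j
    exacts [rfl, by simpa using e.symm, (hW _ _ _ _ y0).1, (hW _ _ _ _ y0).2]
  choose δ hδ using t2
  have sy : ∀ y y' m, y ≠ 0 → y' ≠ 0 → L y y' (y * p m 2 + θ y * p m 3) (y * p m 3) =
      L y' y (y' * p m 2 + θ y' * p m 3) (y' * p m 3) + (Sm θ 0 y' *ᵥ δ m - Sm θ 0 y *ᵥ δ m) :=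
    fun y y' m y0 y0' => key _ _ _ _ _ _ y0 (nz y m) (pz y m) (by
      obtain ⟨n, hn⟩ := q2 y' y _ y0' (nz y' m)
      rw [key _ _ _ _ _ _ y0' (nz y' m) (pz y' m) hn, map_add, hn, map_sub, ← h.ρs, ← h.ρs, hi, hi, hδ]
      simp only [map_add, ← mul_act, h.z_mul, add_comm y y']
      abel)
  have d3 : ∀ m, δ m 3 = 0 := fun m => by
    have e := congrFun (sy 1 l m one_ne_zero l0) 1
    rw [h1 _ _ _ _ one_ne_zero, h1 _ _ _ _ l0] at e
    simp [Sm_vec] at e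
    exact mul_left_cancel₀ (sub_ne_zero.2 l1) (by linear_combination -e)
  have dg : ∀ (g : H) m, δ (g ⋆ m) = ρ g *ᵥ δ m := fun g m => ii (by rw [hi, hδ, hδ, map_add])
  have d2 : ∀ m, δ m 2 = 0 := fun m => by
    have e0 := d3 (w ⋆ m)
    have e1 := d3 (w ⋆ s 0 1 ⋆ m)
    simp only [dg, h.ρw, h.ρs, Wm_vec, Sm_vec] at e0 e1
    simp at e0
    simpa [e0, d3] using e1
  have hG : ∀ b c, L 1 b 0 (b * c) 0 = b * L 1 b 0 c 0 := fun b c => by
    by_cases b0 : b = 0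
    · simp [b0, h0]
    obtain ⟨m, hm⟩ := ps ![0, 0, 0, c]
    have e := congrFun (sy 1 b m one_ne_zero b0) 0
    rw [h1 _ _ _ _ one_ne_zero, h1 _ _ _ _ b0] at e
    simp [Sm_vec, d2, d3, hm] at e
    rw [coc b 1 0 _ _ b0 (h1 _ _ _ _ one_ne_zero), self _ _ _ one_ne_zero] at e
    rw [e]; field_simp; simp [CharTwo.neg_eq]
  have ac : ∀ b c c', L 1 b 0 (c + c') 0 = L 1 b 0 c 0 + L 1 b 0 c' 0 := fun b c c' => by
    simpa using congrFun (addc 1 b 0 c 0 c' one_ne_zero) 0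
  have ab : ∀ b b' c, L 1 (b + b') 0 c 0 = L 1 b 0 c 0 + L 1 b' 0 c 0 := fun b b' c =>
    congrFun (addy 1 b b' 0 c one_ne_zero) 0
  have lin : ∀ b c, L 1 b 0 c 0 = c * L 1 b 0 1 0 := by
    obtain ⟨ω, hω⟩ := IsCyclic.exists_monoid_generator (α := Fˣ)
    have gen : ∀ b, (∀ c, L 1 b 0 (ω * c) 0 = ω * L 1 b 0 c 0) → ∀ a c,
        L 1 b 0 (a * c) 0 = a * L 1 b 0 c 0 := fun b e a c => by
      by_cases a0 : a = 0
      · simp [a0, h0]
      obtain ⟨j, hj⟩ := hω (Units.mk0 a a0)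
      obtain rfl : (ω : F) ^ j = a := by simpa using congrArg Units.val hj
      clear a0 hj
      induction j with
      | zero => simp
      | succ j ih => rw [pow_succ', mul_assoc, e, ih, mul_assoc]
    intro b c
    rw [← gen b (fun c => ?_) c 1, mul_one]
    have e := hG (b + ω) c
    rw [add_mul, ac, ab, ab, ab, hG, hG, gen ω (hG ω)] at e
    linear_combination e
  have f0 := h.eq_zero_of_hom (fun b => L 1 b 0 1 0) (fun a b => ab a b 1) fun ν b n0 => by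
    have k0 : θ.symm ν ≠ 0 := by simpa using n0
    have e := congrFun (eqD (θ.symm ν) 1 b 0 1 k0 one_ne_zero) 0
    rw [mul_zero, RingEquiv.apply_symm_apply, mul_one ν, coc ν _ 0 _ _ n0 (h1 _ _ _ _ one_ne_zero),
      lin, lin ν, Dm_vec] at e
    rw [show θ ν = θ.symm ν ^ 2 by rw [← h.sq, RingEquiv.apply_symm_apply]]
    simp only [cons_val_zero] at e
    field_simp at e ⊢
    linear_combination (norm := (ring_nf; reduce_mod_char!)) e
  obtain ⟨n, hn⟩ := q2 y y' m y0 hm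
  have e := hp (s 0 y) m
  rw [hm, h.ρs, Sm_vec] at e
  have e1 := congrFun e 1
  have e0 := congrFun e 0
  simp [y0] at e1
  simp [y0, e1] at e0
  rw [← sub_eq_zero, ← hn, ← key y y' (p m 0) (p m 1) m n y0 hm
    (by ext j; fin_cases j; exacts [rfl, rfl, e0, e1]) hn, h1 _ _ _ _ y0,
    coc y _ 0 _ _ y0 (h1 _ _ _ _ one_ne_zero), lin, lin y, f0, f0, ← map_zero i]
  congr 1; ext j; fin_cases j <;> simp

theorem quad {M : Type u} [AddCommGroup M] [Module (ZH H) M] (hM : Fpf H M) :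
    ∀ y y' (m : M), y ≠ 0 → s 0 y ⋆ m = m → s 0 y' ⋆ m = m := by
  refine Fpf.induction (H := H) (P := fun V _ _ => ∀ y y' (m : V), y ≠ 0 → s 0 y ⋆ m = m → s 0 y' ⋆ m = m)
    (fun V _ _ _ _ _ _ _ _ => Subsingleton.elim _ _) (fun V _ _ N hV hN q2 q1 => ?_) hM
  have := hV.fin
  obtain ⟨φ, hφ⟩ := h.exists_equiv (hV.sub N)
  rcases eq_top_or_exists_le_coatom N with rfl | ⟨K, hK, hle⟩
  · intro y y' m y0 e
    have e1 := hφ (s 0 y) ⟨m, trivial⟩
    rw [show s 0 y ⋆ (⟨m, trivial⟩ : (⊤ : Submodule (ZH H) V)) = ⟨m, trivial⟩ from Subtype.ext e, h.ρs,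
      Sm_vec] at e1
    have e2 := congrFun e1 1
    have e3 := congrFun e1 0
    simp [y0] at e2
    simp [y0, e2] at e3
    refine congrArg Subtype.val (φ.injective (a₁ := s 0 y' ⋆ ⟨m, trivial⟩) (a₂ := ⟨m, trivial⟩) ?_)
    rw [hφ, h.ρs, Sm_vec]
    ext j; fin_cases j <;> simp [e2, e3]
  have := isSimpleModule_iff_isCoatom.2 hK
  obtain ⟨ψ, hψ⟩ := h.exists_equiv (hV.quot K)
  have hN : ∀ m, N.mkQ m = 0 → ∃ n, (φ.symm n : V) = m := fun m hm =>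
    ⟨φ ⟨m, (Submodule.Quotient.mk_eq_zero N).1 hm⟩, by simp⟩
  refine h.quad_step (ψ.toAddMonoidHom.comp K.mkQ.toAddMonoidHom)
    (N.subtype.toAddMonoidHom.comp φ.symm.toAddMonoidHom) (fun g m => ?_)
    (ψ.surjective.comp K.mkQ_surjective) (fun g n => ?_) (N.subtype_injective.comp φ.symm.injective)
    (fun n => ?_) (fun y y' m y0 e1 e2 => ?_) (fun y y' m y0 e => hN _ ?_) fun m => hN _ ?_
  · exact (congrArg ψ (map_act K.mkQ g m)).trans (hψ g _)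
  · obtain ⟨n, rfl⟩ := φ.surjective n
    simp [← hφ]
  · exact (congrArg ψ ((Submodule.Quotient.mk_eq_zero K).2 (hle (φ.symm n).2))).trans (map_zero ψ)
  · exact congrArg Subtype.val (q1 K hK.1 y y' ⟨m, (Submodule.Quotient.mk_eq_zero K).1
      (ψ.map_eq_zero_iff.1 e1)⟩ y0 (Subtype.ext e2))
  · rw [map_sub, map_act, q2 y y' _ y0 (by rw [← map_act, e]), sub_self]
  · rw [map_add, h.two_of_quad (hV.quot N) q2]

theorem mart : Mart H := ⟨h.noProd, fun _ _ _ hM => h.two_of_quad hM (h.quad hM)⟩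

end SzD

/-- the theorems of Higman and Martineau -/
theorem mart_of_hypC [Finite H] {S : Subgroup H} {t : H} (hC : IsCIT H) (h : BSW.HypC S t) :
    Mart H := by
  obtain ⟨n, hn, a, k, fr, r, hr, e⟩ := h.exists_frame
  rcases R1.zt1 H S t h with h1 | ⟨h1, h2⟩
  · have := h.isSimpleGroup
    obtain ⟨l, l0, l1⟩ := fr.exists_ne h
    have e' := fr.str_eq h hr e fun j hj => (h.comm hr (h1 r hr) (h.K_conj_mem hj hr)).symm
    refine mart_of_three (x := t * a 1) hC (orderOf_eq_prime ?_ fun e => h.t_not_mem ?_)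
      (fr.a_ne_one l0) (fr.a_sq l) (fr.a_ne_one one_ne_zero) (fr.a_sq 1) (fun e => l1 (fr.a_inj e))
      (by rw [← fr.a_add, add_comm, fr.a_add])
    · calc _ = t * a 1 * t * a 1 * t * a 1 := by simp only [pow_three', mul_assoc]
        _ = a 1 * (t * (a 1 * a 1) * t) * a 1 := by rw [e']; simp only [mul_assoc]
        _ = 1 := by rw [fr.a_sq, mul_one, h.t2, mul_one, fr.a_sq]
    · rw [eq_inv_of_mul_eq_one_left e]; exact le_normalizer (inv_mem (fr.a_mem 1))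
  · obtain ⟨m, hm, -, -, ⟨e⟩⟩ := h.suzuki h1 h2
    obtain ⟨θ, ρ, s, d, w, h⟩ := exists_szd hm e
    exact h.mart

end Cfsg.Agent.CIT
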