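import Mathlib
import Cfsg.Agent.Lib.CIT.Solv
import Cfsg.Agent.Lib.CIT.SzB

/-!
# Non-solvable `CIT`-groups with a non-trivial normal `2`-subgroup
-/

set_option autoImplicit false

namespace Cfsg.Agent.CIT

open Subgroup Cfsg.Agent.Coprime Cfsg.Agent.OO
open scoped Pointwise commutatorElement

universe u

theorem ab_of_mul_self {G : Type*} [Group G] {A : Subgroup G} (h : ∀ a ∈ A, a * a = 1) : Ab A :=
  ab_iff.2 fun a ha b hb => by
    rw [← BSW.inv_eq_of_mul_self (h _ (mul_mem ha hb)), mul_inv_rev, BSW.inv_eq_of_mul_self (h a ha),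
      BSW.inv_eq_of_mul_self (h b hb)]

theorem IsCIT.main_aux (n : ℕ) : ∀ (G : Type u) [Group G] [Finite G], Nat.card G = n → IsCIT G →
    ¬ Group.IsSolvable G → pCore 2 G ≠ ⊥ →
      IsZT (G ⧸ pCore 2 G) ∧ ∀ x ∈ pCore 2 G, x * x = 1 := by
  induction n using Nat.strong_induction_on with | _ n ih => ?_
  intro G _ _ hn hC hns h0
  have hQ : IsPGroup 2 (pCore 2 G) := Core.isPGroup_pCore 2
  set Q := pCore 2 G
  set π := QuotientGroup.mk' Q
  have hk : π.ker = Q := QuotientGroup.ker_mk' Q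
  have hs : Function.Surjective π := QuotientGroup.mk'_surjective Q
  have hQ' : IsPGroup 2 π.ker := by rwa [hk]
  have hH := hC.quot Q hQ
  have h1 : ¬ Group.IsSolvable (G ⧸ Q) := fun _ => hns (by
    have := sol_of_isPGroup hQ
    exact Group.isSolvable_of_ker_le_range Q.subtype π (by simp [hk]))
  have h2 : pCore 2 (G ⧸ Q) = ⊥ := Core.pCore_quotient_pCore
  have hN : ∀ X : Subgroup (G ⧸ Q), IsPGroup 2 X → X ≠ ⊥ → Sol 𝐍(X) := fun X hX X0 => by
    by_contra h3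
    have h4 : X.comap π ≤ Op 2 (𝐍(X).comap π) := OO.le_Op ⟨comap_mono (le_norm_self X),
      fun g hg => mem_norm_of_conj_mem fun x hx => by
        simpa only [mem_comap, map_mul, map_inv] using conj_mem_of_norm hg hx⟩
      (hX.comap_of_ker_isPGroup π hQ')
    have h5 : Q ≤ X.comap π := hk.ge.trans (ker_le_comap π X)
    obtain ⟨-, h6⟩ := ih _ (hn ▸ (card_top (G := G)) ▸ card_lt (lt_top_iff_ne_top.2 fun e => X0
        (eq_bot_iff.2 (h2 ▸ Op_top (G := G ⧸ Q) 2 ▸ OO.le_Op ⟨le_top, fun g _ => by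
          obtain ⟨g, rfl⟩ := hs g; exact e.ge (mem_top g)⟩ hX))))
      (𝐍(X).comap π) rfl (hC.subgroup _) (fun h => h3 (Group.isSolvable_of_surjective
        (f := π.subgroupComap 𝐍(X)) (π.subgroupComap_surjective_of_surjective _ hs)))
      fun e => h0 (eq_bot_iff.2 ((h5.trans h4).trans (by rw [Op, pCoreOf, e, Subgroup.map_bot])))
    have h7 := (ab_of_mul_self (A := Op 2 (𝐍(X).comap π)) (by
      rintro _ ⟨a, ha, rfl⟩; exact congrArg Subtype.val (h6 a ha))).le_cent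
    have h8 := hC.cent_Op_le (M := ⊤) (by rwa [Op_top])
    rw [Op_top, top_inf_eq] at h8
    refine X0 (eq_bot_iff.2 ?_)
    rw [← map_comap_eq_self_of_surjective hs X, le_bot_iff, Subgroup.map_eq_bot_iff, hk]
    exact (le_cent_mono h7 h4 (h5.trans h4)).trans h8
  have h3 : IsZT (G ⧸ Q) := (hH.of_solv h1 h2 hN).resolve_right fun ⟨hB, _⟩ => by
    have : (Ohm 2 (Zc Q)).Normal := normalIn_top.1 ((normalIn_top.2 inferInstance).Zc.Ohm 2)
    have hA := Ohm_abelem 2 (Zc_ab Q)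
    obtain ⟨M, _, _, ι, hι⟩ := exists_sec (Ohm 2 (Zc Q)) hA.1 hs
      (hk.le.trans ((le_cent_Zc Q).trans (cent_anti (Ohm_le _ _))))
    obtain ⟨z, hz, z1⟩ := exists_mem_ne_one (Ohm_ne_bot (hQ.to_le (Zc_le Q))
      (Zc_ne_bot (nil_of_isPGroup hQ) h0))
    obtain ⟨m, rfl⟩ := hι.surj z hz
    have : Nontrivial M := ⟨m, 0, fun e => z1 (e ▸ hι.zero)⟩
    exact not_bad (hι.fpf hC (hQ.to_le ((Ohm_le _ _).trans (Zc_le Q))) hs) hH h2
      (fun m => hι.inj (by rw [hι.add, hι.zero, ← sq, hA.2 _ (hι.mem m)])) hB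
  obtain ⟨S, t, h⟩ := h3
  exact ⟨⟨S, t, h⟩, fun x hx => (mart_of_hypC hH h).elem hC hs hQ' x (hk.ge hx)⟩

variable {G : Type u} [Group G] [Finite G] {D : Subgroup G}

theorem IsCIT.main (hC : IsCIT G) (hns : ¬ Group.IsSolvable G) (h0 : pCore 2 G ≠ ⊥) :
    IsZT (G ⧸ pCore 2 G) ∧ ∀ x ∈ pCore 2 G, x * x = 1 := IsCIT.main_aux _ G rfl hC hns h0

theorem IsCIT.main_local (hC : IsCIT G) (hns : ¬ Sol 𝐍(D)) (h0 : D ≠ ⊥) (h : Op 2 𝐍(D) = D) :
    IsZT (Coset D) ∧ ∀ x ∈ D, x * x = 1 := by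
  have e : pCore 2 𝐍(D) = D.subgroupOf 𝐍(D) := (comap_map_eq_self_of_injective
    (subtype_injective _) _).symm.trans (congrArg (subgroupOf · 𝐍(D)) h)
  have := (hC.subgroup _).main hns fun e' => h0 (by rw [← h, Op, pCoreOf, e', Subgroup.map_bot])
  refine ⟨?_, fun x hx => congrArg Subtype.val (this.2 ⟨x, le_norm_self D hx⟩ (e ▸ hx))⟩
  have key : ∀ (Q : Subgroup 𝐍(D)) [Q.Normal], pCore 2 𝐍(D) = Q → IsZT (𝐍(D) ⧸ Q) := by
    rintro _ _ rfl; exact this.1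
  exact key _ e

end Cfsg.Agent.CIT
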