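import Mathlib
import Cfsg.Agent.Lib.CIT.Main

/-!
# Non-solvable `2`-local subgroups of `CIT`-groups
-/

set_option autoImplicit false

namespace Cfsg.Agent.CIT

open Subgroup Cfsg.Agent.Coprime Cfsg.Agent.OO BSW
open scoped Pointwise commutatorElement

universe u

variable {G : Type u} [Group G] {A D E L X Z : Subgroup G} {a d e g s x : G}

theorem isPGroup_of_sq (h : ∀ a ∈ A, a * a = 1) : IsPGroup 2 A := fun a =>
  ⟨1, Subtype.ext (by simpa [sq] using h a a.2)⟩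

variable [Finite G]

section
variable {H : Subgroup G} {t : G} (h : HypC H t)
include h

theorem hyp_two : IsPGroup 2 H := (R1.zt1 G H t h).elim isPGroup_of_sq And.left

theorem hyp_odd_K : Odd ♯(Kt H t) := Nat.not_even_iff_odd.1 fun e => by
  obtain ⟨x, hx, x1, x2⟩ := R1.exists_invol_mem e.two_dvd
  exact x1 (h.eq_one_of_mul_self hx x2)

theorem hyp_odd : Odd (♯(Kt H t) * (1 + ♯H)) := (hyp_odd_K h).mul (odd_one.add_even
  (even_iff_two_dvd.2 (dvd_card_of_isPGroup (hyp_two h) h.ne_bot)))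

theorem hyp_syl : Syl 2 H ⊤ := ⟨le_top, hyp_two h, by
  have := card_mul_relIndex (le_top (a := H))
  rw [card_top, h.card_eq, mul_comm ♯(Kt H t), mul_assoc] at this
  rw [Nat.eq_of_mul_eq_mul_left (card_pos' H) this]
  exact (hyp_odd h).not_two_dvd_nat⟩

theorem hyp_card_le (hE : ∀ a ∈ E, a * a = 1) : ♯E ≤ ♯(Kt H t) + 1 := by
  obtain ⟨g, -, hg⟩ := (hyp_syl h).exists_conj_le le_top (isPGroup_of_sq hE)
  obtain ⟨n, hn, a, k, fr, -⟩ := h.exists_frame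
  have h1 : ∀ x : E, ∃ c, a c = g * x * g⁻¹ := fun x =>
    fr.a_surj _ (hg (conj_mem_conj x.2)) (conj_mul_self (hE x x.2))
  choose f hf using h1
  rw [fr.card_K, Nat.sub_add_cancel Nat.card_pos]
  exact Nat.card_le_card_of_injective f fun x y e => Subtype.ext (by
    simpa using (hf x).symm.trans ((congrArg a e).trans (hf y)))

theorem hyp_le_card : ♯(Kt H t) + 1 ≤ ♯H ∧ 3 ≤ ♯(Kt H t) := by
  obtain ⟨n, hn, a, k, fr, -⟩ := h.exists_frame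
  rw [fr.card_K, Nat.sub_add_cancel Nat.card_pos]
  refine ⟨Nat.card_le_card_of_injective (fun c => (⟨a c, fr.a_mem c⟩ : H)) fun x y e =>
    fr.a_inj (congrArg Subtype.val e), ?_⟩
  rw [GaloisField.card 2 n (by omega)]
  have := Nat.pow_le_pow_right two_pos hn
  omega

end

theorem le_card_cent_sq (hD : ∀ d ∈ D, d * d = 1) (ha : a ∈ 𝐍(D)) (a2 : a * a = 1) :
    ♯D ≤ ♯(D ⊓ 𝐂[a]) ^ 2 := by
  have hc := ab_iff.1 (ab_of_mul_self hD)
  let f : D →* G := MonoidHom.mk' (fun d => d * (a * d * a⁻¹)) fun x y => by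
    have := hc _ y.2 _ (conj_mem_of_norm ha x.2)
    calc _ = x * (y * (a * x * a⁻¹)) * (a * y * a⁻¹) := by rw [coe_mul]; group
      _ = _ := by rw [this]; group
  have h1 : ♯f.ker ≤ ♯(D ⊓ 𝐂[a]) := by
    rw [← card_subtype D]
    refine card_le ?_
    rintro _ ⟨x, hx, rfl⟩
    exact ⟨x.2, mem_cent1_comm.1 (mem_cent1_iff_conj.2 ((eq_inv_of_mul_eq_one_right hx).trans
      (inv_eq_of_mul_self (hD x x.2))))⟩
  have h2 : f.range ≤ D ⊓ 𝐂[a] := by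
    rintro _ ⟨x, rfl⟩
    refine ⟨mul_mem x.2 (conj_mem_of_norm ha x.2), mem_cent1_comm.1 (mem_cent1_iff_conj.2 ?_)⟩
    calc a * (x * (a * x * a⁻¹)) * a⁻¹ = a * x * a⁻¹ * (a * a * x * (a * a)⁻¹) := by group
      _ = _ := by rw [a2, one_mul, inv_one, mul_one, ← hc _ x.2 _ (conj_mem_of_norm ha x.2)]; rfl
  rw [← f.ker.card_mul_index, index_ker, sq]
  exact Nat.mul_le_mul h1 (card_le h2)

theorem exists_conj_of_card_le (hX : X ≤ 𝐍(D)) (hd : d ∈ D) (d1 : d ≠ 1)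
    (h : ♯D - 1 ≤ 𝐂[d].relIndex X) (he : e ∈ D) (e1 : e ≠ 1) : ∃ g ∈ X, e = g * d * g⁻¹ := by
  have h1 : NormedTI {d} X (𝐂[d] ⊓ X) := ⟨Set.singleton_nonempty d, inf_le_right, by
    rintro x hx _ rfl; exact mem_cent1_iff_conj.1 hx.1, by
    rintro x hx _ rfl e; exact ⟨mem_cent1_iff_conj.2 e, hx⟩⟩
  have h2 := Set.eq_of_subset_of_ncard_le (classSupp_subset_of_conj (A := {d}) (B := sharp D) (Γ := X)
    (by rintro _ rfl; exact ⟨hd, d1⟩) fun g hg b hb => conj_mem_sharp (hX hg) hb)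
    (by rwa [h1.ncard_classSupp, ncard_sharp, Set.ncard_singleton, one_mul, inf_relIndex_right])
  obtain ⟨_, rfl, h3⟩ := mem_classSupp_iff.1 (h2.ge ⟨he, e1⟩)
  exact h3

/-- `D` is an elementary abelian `2`-group and `N(D) / D` is a Zassenhaus group -/
structure Par (D : Subgroup G) (S : Subgroup (Coset D)) (t : Coset D) : Prop where
  cit : IsCIT G
  ne : D ≠ ⊥
  sq : ∀ d ∈ D, d * d = 1
  hyp : HypC S t

namespace Par

variable {S : Subgroup (Coset D)} {t : Coset D} (h : Par D S t)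
include h

theorem two : IsPGroup 2 D := isPGroup_of_sq h.sq

theorem syl : Syl 2 (quoPre D S) 𝐍(D) :=
  syl_quoPre (normalIn_norm D) h.two (by rw [quo_norm]; exact hyp_syl h.hyp)

theorem card : ♯𝐍(D) = ♯D * ♯S * (♯(Kt S t) * (1 + ♯S)) := by
  rw [← card_mul_card_quo (normalIn_norm D), quo_norm, card_top, h.hyp.card_eq]; ring

theorem le_or (hX : 𝐍(D) ≤ 𝐍(X)) : X ⊓ 𝐍(D) ≤ D ∨ 𝐍(D) ≤ X ⊔ D := by
  have := h.hyp.isSimpleGroup
  have h1 : (X ⁒ D).Normal := normalIn_top.1 ⟨le_top, by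
    rw [← quo_norm]; exact quo_le_norm D hX⟩
  refine h1.eq_bot_or_eq_top.imp quo_eq_bot_iff'.1 fun e => ?_
  rw [← quo_inf_norm, ← quo_norm] at e
  exact ((quo_le_quo_iff_le_sup le_rfl inf_le_right).1 e.ge).trans (sup_le_sup_right inf_le_left _)

theorem cent_le : 𝐂(D) ≤ D := by
  refine (le_inf le_rfl (cent_le_norm D)).trans ((h.le_or (norm_le_norm_cent D)).resolve_right
    fun e => ?_)
  obtain ⟨n, hn⟩ := ((h.cit.cent h.two h.ne).to_le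
    (e.trans (sup_le le_rfl (ab_of_mul_self h.sq).le_cent))).exists_card_eq
  have h1 := (Nat.Coprime.pow_right n (Nat.coprime_two_right.2 (hyp_odd h.hyp))).eq_one_of_dvd
    (hn ▸ h.card ▸ dvd_mul_left _ _)
  have := Nat.eq_one_of_mul_eq_one_right h1
  have := (hyp_le_card h.hyp).2
  omega

theorem card_le (hA : A ≤ 𝐍(D)) (h2 : ∀ a ∈ A, a * a = 1) : ♯A ≤ ♯(D ⊓ A) * (♯(Kt S t) + 1) := by
  rw [← card_inf_mul_card_quo hA]
  refine Nat.mul_le_mul_left _ (hyp_card_le h.hyp fun x hx => ?_)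
  obtain ⟨a, ha, rfl⟩ := (mem_quo_of_le hA).1 hx
  rw [← coset_mul (hA ha) (hA ha), h2 a ha, coset_eq_one (one_mem D)]

theorem card_cent_sq_le (ha : a ∈ 𝐍(D)) (ha' : a ∉ D) (a2 : a * a = 1) : ♯(D ⊓ 𝐂[a]) ^ 2 ≤ ♯D := by
  have a1 : coset D a ≠ 1 := fun e => ha' ((coset_eq_one_iff ha).1 e)
  have a3 : coset D a * coset D a = 1 := by rw [← coset_mul ha ha, a2, coset_eq_one (one_mem D)]
  obtain ⟨z, hz, z1, z2⟩ := h.hyp.ex
  obtain ⟨b, hb⟩ := h.hyp.exists_conj_of_ne_top h.hyp.norm_ne_top hz z1 z2 a1 a3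
  obtain ⟨g, hg, e⟩ := exists_coset D (b * t * b⁻¹)
  have h1 := h.hyp.conj_not_mem hz z1 z2 h.hyp.t_not_mem
  have h2 := h.hyp.odd_orderOf_mul hz z1 z2 (fun e => h1 (le_norm_self S e)) (conj_mul_self z2)
  have h3 : coset D (a * (g * a * g⁻¹)) = b * (z * (t * z * t⁻¹)) * b⁻¹ := by
    rw [coset_mul ha (mul_mem (mul_mem hg ha) (inv_mem hg)), coset_conj hg ha, e, hb]; group
  have h4 : D ⊓ 𝐂[a] ⊓ g •ᶜ (D ⊓ 𝐂[a]) = ⊥ := eq_bot_iff.2 fun d hd => by_contra fun d1 => by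
    rw [conj_inf, ← cent1_conj] at hd
    obtain ⟨k, hk⟩ := exists_pow_of_mem (h.cit.cent1 h.two hd.1.1 d1)
      (mul_mem (mem_cent1_comm.1 hd.1.2) (mem_cent1_comm.1 hd.2.2))
    have h5 := (orderOf_coset_dvd D _).trans (orderOf_dvd_of_pow_eq_one hk)
    rw [h3, orderOf_conj] at h5
    have h6 := orderOf_eq_one_iff.1
      ((Nat.Coprime.pow_right k (Nat.coprime_two_right.2 h2)).eq_one_of_dvd h5)
    exact h1 (eq_inv_of_mul_eq_one_right h6 ▸ inv_mem (le_norm_self S hz))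
  have h5 : g •ᶜ (D ⊓ 𝐂[a]) ≤ D := conj_le_of_mem_norm hg inf_le_left
  have := card_sup_of_inf_eq_bot (Or.inl (inf_le_left.trans (le_norm_of_ab (ab_of_mul_self h.sq) h5))) h4
  rw [card_conj, ← pow_two] at this
  exact this ▸ OO.card_le (sup_le inf_le_left h5)

theorem sq_le (hX : 𝐍(D) ≤ 𝐍(X)) (h2 : IsPGroup 2 X) (h0 : X ≠ ⊥) :
    ♯(Kt S t) * (1 + ♯S) + 1 ≤ ♯X := by
  have := one_lt_card h0
  have := Nat.le_of_dvd (by omega) (h.cit.odd_dvd h2 hX (hyp_odd h.hyp) (h.card ▸ dvd_mul_left _ _))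
  omega

theorem card_S (hD : ♯D ≤ (♯(Kt S t) + 1) ^ 2) :
    ♯S = ♯(Kt S t) + 1 ∧ ♯D = (♯(Kt S t) + 1) ^ 2 := by
  have h1 := h.sq_le le_rfl h.two h.ne
  obtain ⟨h2, h3⟩ := hyp_le_card h.hyp
  have h4 : ♯S = ♯(Kt S t) + 1 := le_antisymm (by nlinarith) h2
  exact ⟨h4, le_antisymm hD (by rw [h4] at h1; nlinarith)⟩

theorem le_card_Z : ♯(Kt S t) + 1 ≤ ♯(D ⊓ 𝐂(quoPre D S)) := by
  have h1 := one_lt_card (H := D ⊓ 𝐂(quoPre D S)) fun e => inf_Zc_ne_bot h.syl.nil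
    (normalIn_quoPre S) h.ne (eq_bot_iff.2 (e ▸ inf_le_inf_left _ (Zc_le_cent _)))
  have := Nat.le_of_dvd (by omega) (h.cit.odd_dvd (h.two.to_le inf_le_left) (X := quoPre D 𝐍(S))
    (le_norm_inf (quoPre_le_norm _) (le_norm_cent (quoPre_le_norm_quoPre le_rfl))) (hyp_odd_K h.hyp)
    (by rw [card_quoPre, h.hyp.card_norm]; exact (dvd_mul_right _ _).mul_left _))
  omega

theorem trans (hD : ♯D ≤ (♯(Kt S t) + 1) ^ 2) (hd : d ∈ D) (d1 : d ≠ 1) (he : e ∈ D) (e1 : e ≠ 1) :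
    ∃ g ∈ 𝐍(D), e = g * d * g⁻¹ := by
  refine exists_conj_of_card_le le_rfl hd d1 ?_ he e1
  obtain ⟨n, hn⟩ := ((h.cit.cent1 h.two hd d1).to_le (inf_le_left (b := 𝐍(D)))).exists_card_eq
  have h1 := Nat.le_of_dvd (relIndex_pos 𝐂[d] 𝐍(D)) ((Nat.Coprime.pow_right n
    (Nat.coprime_two_right.2 (hyp_odd h.hyp))).dvd_of_dvd_mul_left
    (by rw [← hn, card_inf_mul_relIndex, h.card]; exact dvd_mul_left _ _))
  rw [(h.card_S hD).1] at h1
  rw [Nat.sub_le_iff_le_add]; nlinarith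

theorem exists_odd : ∃ k ∈ 𝐍(D), k ∈ 𝐍(quoPre D S) ∧ k ≠ 1 ∧ Odd (orderOf k) := by
  obtain ⟨k, hk, k1⟩ := h.hyp.exists_K_ne_one
  obtain ⟨x, rfl⟩ := cosetHom_surjective D k
  obtain ⟨y, e, ho⟩ := exists_odd_lift _ x (Odd.of_dvd_nat (hyp_odd_K h.hyp) (orderOf_dvd_card hk))
  refine ⟨y, y.2, quoPre_le_norm_quoPre le_rfl (mem_quoPre.2 ⟨y.2, ?_⟩), fun e' => k1 ?_,
    by rwa [orderOf_coe]⟩
  · rw [coset_coe, e]; exact hk.1
  · rw [← e, show y = 1 from Subtype.ext e', map_one]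

theorem exists_inv : ∃ a ∈ 𝐍(D), a ∉ D ∧ a * a = 1 := by
  obtain ⟨k, hk, k1⟩ := h.hyp.exists_K_ne_one
  obtain ⟨x, rfl⟩ := cosetHom_surjective D k
  obtain ⟨y, e, ho⟩ := exists_odd_lift _ x (Odd.of_dvd_nat (hyp_odd_K h.hyp) (orderOf_dvd_card hk))
  obtain ⟨s, rfl⟩ := cosetHom_surjective D t
  rw [← e] at hk k1
  obtain ⟨q, hq, h1, -⟩ := h.cit.exists_inv_of_inverts h.two y.2
    (fun e' => k1 (by rw [show y = 1 from Subtype.ext e', map_one])) (by rwa [orderOf_coe]) s.2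
    ((cosetHom_eq_one_iff (z := s * s)).1 (by rw [map_mul, h.hyp.t2]))
    ((cosetHom_eq_one_iff (z := s * y * s⁻¹ * y)).1 (by
      rw [map_mul, map_mul, map_mul, map_inv, h.hyp.t_conj hk, inv_mul_cancel]))
  exact ⟨_, mul_mem (le_norm_self D hq) s.2, fun e => h.hyp.t_not_mem (by
    rw [cosetHom_eq_one_iff.2 ((mul_mem_cancel_left hq).1 e)]; exact one_mem _), h1⟩

end Par

end Cfsg.Agent.CIT
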