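import Mathlib
import Cfsg.Agent.Lib.CIT.Par

/-!
# A `2`-group covered by two elementary abelian subgroups of order `q ^ 2`
-/

set_option autoImplicit false

namespace Cfsg.Agent.CIT

open Subgroup Cfsg.Agent.Coprime Cfsg.Agent.OO BSW
open scoped Pointwise commutatorElement

universe u

variable {G : Type u} [Group G] {A D E S Z : Subgroup G} {a c d e g k n s x y z : G} {q : ℕ}

structure Cfg (A D : Subgroup G) (q : ℕ) : Prop where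
  four : 4 ≤ q
  sqA : ∀ a ∈ A, a * a = 1
  sqD : ∀ d ∈ D, d * d = 1
  cardA : ♯A = q ^ 2
  cardD : ♯D = q ^ 2
  cardZ : ♯(A ⊓ D) = q
  nA : A ≤ 𝐍(D)
  comm : ∀ a ∈ A, ∀ d ∈ D, a * d = d * a → a ∈ D ∨ d ∈ A

theorem trace_mem (hD : ∀ d ∈ D, d * d = 1) (ha : a ∈ 𝐍(D)) (a2 : a * a = 1) (hd : d ∈ D) :
    a * (d * (a * d * a⁻¹)) = d * (a * d * a⁻¹) * a := by
  rw [← mul_inv_eq_iff_eq_mul]
  calc _ = a * d * a⁻¹ * (a * a * d * (a * a)⁻¹) := by group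
    _ = _ := by rw [a2, one_mul, inv_one, mul_one,
      ab_iff.1 (ab_of_mul_self hD) _ hd _ (conj_mem_of_norm ha hd)]

theorem exists_trace [Finite G] (hZ : ∀ d ∈ Z, d * d = 1) (hk : k ∈ 𝐍(Z))
    (hf : ∀ y ∈ Z, k * y = y * k → y = 1) (hs : s ∈ 𝐍(Z)) (e : s * k * s⁻¹ = k⁻¹) (hc : c ∈ Z)
    (h : s * c * s⁻¹ = c) : ∃ e ∈ Z, c = e * (s * e * s⁻¹) := by
  obtain ⟨b, hb, h1⟩ := exists_conj_of_fpf hk hf hc
  have ab := ab_iff.1 (ab_of_mul_self hZ)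
  have h2 : c = b * (k * b * k⁻¹) := by
    rw [inv_eq_of_mul_self (hZ b hb)] at h1
    rw [← mul_assoc, ← mul_assoc, ← h1, mul_inv_cancel_right]
  have h3 := conj_mem_of_norm' hk (conj_mem_of_norm hs hb)
  have h4 : c = k * (k⁻¹ * (s * b * s⁻¹) * k) * k⁻¹ * (k⁻¹ * (s * b * s⁻¹) * k) := by
    calc c = s * b * s⁻¹ * (s * k * s⁻¹ * (s * b * s⁻¹) * (s * k * s⁻¹)⁻¹) := by rw [← h, h2]; group
      _ = _ := by rw [e]; group
  refine ⟨b, hb, ?_⟩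
  rw [h2, show s * b * s⁻¹ = k * (k⁻¹ * (s * b * s⁻¹) * k) * k⁻¹ by group]
  generalize k⁻¹ * (s * b * s⁻¹) * k = b' at h3 h4
  rw [eq_inv_of_mul_eq_one_left (hf _ (mul_mem h3 hb) (mul_inv_eq_iff_eq_mul.1 ?_)),
    inv_eq_of_mul_self (hZ b hb)]
  calc _ = k * b' * k⁻¹ * b' * b'⁻¹ * b⁻¹ * (b * (k * b * k⁻¹)) := by group
    _ = _ := by rw [← h4, ← h2, inv_eq_of_mul_self (hZ b hb), inv_eq_of_mul_self (hZ _ h3), mul_assoc c,
      ab c hc _ (mul_mem h3 hb), mul_assoc, hZ c hc, mul_one]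

namespace Cfg

variable (h : Cfg A D q)
include h

theorem abA : Ab A := ab_of_mul_self h.sqA

theorem abD : Ab D := ab_of_mul_self h.sqD

theorem nD : D ≤ 𝐍(A) := le_norm_iff.2 fun d hd a ha => by
  rcases h.comm a ha _ (mul_mem hd (conj_mem_of_norm (h.nA ha) hd))
    (trace_mem h.sqD (h.nA ha) (h.sqA a ha) hd) with e | e
  · rwa [ab_iff.1 h.abD d hd a e, mul_inv_cancel_right]
  · rw [inv_eq_of_mul_self (h.sqD d hd), show d * a * d = d * (a * d * a⁻¹) * a by group]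
    exact mul_mem e ha

theorem symm : Cfg D A q := ⟨h.four, h.sqD, h.sqA, h.cardD, h.cardA, inf_comm A D ▸ h.cardZ, h.nD,
  fun d hd a ha e => (h.comm a ha d hd e.symm).symm⟩

theorem mem_T (hx : x ∈ A ⊔ D) : ∃ a ∈ A, ∃ d ∈ D, a * d = x := (mem_sup_norm_right h.nA).1 hx

theorem two : IsPGroup 2 ↥(A ⊔ D) :=
  (isPGroup_of_sq h.sqA).to_sup_of_normal_right' (isPGroup_of_sq h.sqD) h.nA

theorem T_le : A ⊔ D ≤ 𝐍(D) := sup_le h.nA (le_norm_self D)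

theorem T_le' : A ⊔ D ≤ 𝐍(A) := sup_le (le_norm_self A) h.nD

theorem mem_or (hx : x ∈ A ⊔ D) (x2 : x * x = 1) : x ∈ A ∨ x ∈ D := by
  obtain ⟨a, ha, d, hd, rfl⟩ := h.mem_T hx
  refine (h.comm a ha d hd ?_).symm.imp (mul_mem ha) (mul_mem · hd)
  rw [← inv_eq_of_mul_self x2, mul_inv_rev, inv_eq_of_mul_self (h.sqA a ha),
    inv_eq_of_mul_self (h.sqD d hd)]

theorem sq_mem (hx : x ∈ A ⊔ D) : x * x ∈ A ⊓ D := by
  obtain ⟨a, ha, d, hd, rfl⟩ := h.mem_T hx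
  constructor
  · rw [show a * d * (a * d) = a * (d * a * d⁻¹) * (d * d) by group, h.sqD d hd, mul_one]
    exact mul_mem ha (conj_mem_of_norm (h.nD hd) ha)
  · rw [show a * d * (a * d) = a * a * (a⁻¹ * d * a) * d by group, h.sqA a ha, one_mul]
    exact mul_mem (conj_mem_of_norm' (h.nA ha) hd) hd

theorem le_cent : A ⊔ D ≤ 𝐂(A ⊓ D) :=
  sup_le (h.abA.le_cent.trans (cent_anti inf_le_left)) (h.abD.le_cent.trans (cent_anti inf_le_right))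

theorem le_or (hE : E ≤ A ⊔ D) (h2 : ∀ x ∈ E, x * x = 1) : E ≤ A ∨ E ≤ D := by
  by_contra! hh
  obtain ⟨x, hx, x1⟩ := SetLike.not_le_iff_exists.1 hh.1
  obtain ⟨y, hy, y1⟩ := SetLike.not_le_iff_exists.1 hh.2
  exact (h.mem_or (hE (mul_mem hx hy)) (h2 _ (mul_mem hx hy))).elim
    (fun e => x1 ((mul_mem_cancel_right ((h.mem_or (hE hy) (h2 y hy)).resolve_right y1)).1 e))
    fun e => y1 ((mul_mem_cancel_left ((h.mem_or (hE hx) (h2 x hx)).resolve_left x1)).1 e)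

theorem sq_conj (g : G) : ∀ x ∈ g •ᶜ D, x * x = 1 := fun x hx => by
  obtain ⟨y, hy, rfl⟩ := mem_conj_iff_exists.1 hx
  exact conj_mul_self (h.sqD y hy)

theorem ne : A ≠ D := fun e => by
  have h1 := h.cardZ
  rw [e, inf_idem, h.cardD] at h1
  have := h.four
  nlinarith

variable [Finite G]

theorem exists_two : ∃ d ∈ D, ∃ e ∈ D, d ∉ A ∧ e ∉ A ∧ d * e ∉ A := by
  have h4 := h.four
  have key : ∀ e ∈ D, ∃ d ∈ D, d ∉ A ∧ d * e ∉ A := fun e he => by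
    by_contra! hh
    have := card_le_two_mul (A := A ⊓ D) (N := D) (s := e) fun d hd => (em (d ∈ A)).imp
      (⟨·, hd⟩) fun hA => ⟨hh d hd hA, mul_mem hd he⟩
    rw [h.cardD, h.cardZ] at this
    nlinarith
  obtain ⟨e, he, e1, -⟩ := key 1 (one_mem D)
  obtain ⟨d, hd, d1, d2⟩ := key e he
  exact ⟨d, hd, e, he, d1, e1, d2⟩

theorem cardT : ♯(A ⊔ D) = q ^ 3 := by
  have h1 := card_sup_mul_card_inf (Or.inl h.nA)
  rw [h.cardZ, h.cardA, h.cardD] at h1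
  exact Nat.eq_of_mul_eq_mul_right (by have := h.four; omega) (h1.trans (by ring))

theorem eq_or (hE : E ≤ A ⊔ D) (h2 : ∀ x ∈ E, x * x = 1) (hc : ♯E = q ^ 2) : E = A ∨ E = D :=
  (h.le_or hE h2).imp (eq_of_le_of_card_le · (h.cardA.trans hc.symm).le)
    (eq_of_le_of_card_le · (h.cardD.trans hc.symm).le)

theorem swap_or (hn : n ∈ 𝐍(A ⊔ D)) : (n •ᶜ A = A ∧ n •ᶜ D = D) ∨ (n •ᶜ A = D ∧ n •ᶜ D = A) := by
  have h1 := h.eq_or (conj_le_of_mem_norm hn le_sup_left) (h.symm.sq_conj n) ((card_conj _ _).trans h.cardA)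
  have h2 := h.eq_or (conj_le_of_mem_norm hn le_sup_right) (h.sq_conj n) ((card_conj _ _).trans h.cardD)
  have h3 : n •ᶜ A ≠ n •ᶜ D := conj_inj.not.2 h.ne
  rcases h1 with h1 | h1 <;> rcases h2 with h2 | h2
  exacts [absurd (h1.trans h2.symm) h3, Or.inl ⟨h1, h2⟩, Or.inr ⟨h1, h2⟩, absurd (h1.trans h2.symm) h3]

theorem norm_Z : 𝐍(A ⊔ D) ≤ 𝐍(A ⊓ D) := fun n hn => conj_eq_self_iff.1 (by
  rw [conj_inf]
  rcases h.swap_or hn with ⟨h1, h2⟩ | ⟨h1, h2⟩ <;> rw [h1, h2]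
  exact inf_comm _ _)

theorem swap (hn : n ∈ 𝐍(A ⊔ D)) (h1 : n ∉ 𝐍(D)) : n •ᶜ A = D ∧ n •ᶜ D = A :=
  (h.swap_or hn).resolve_left fun e => h1 (conj_eq_self_iff.1 e.2)

theorem mul_mem_norm (hx : x ∈ 𝐍(A ⊔ D)) (x1 : x ∉ 𝐍(D)) (hy : y ∈ 𝐍(A ⊔ D)) (y1 : y ∉ 𝐍(D)) :
    x * y ∈ 𝐍(D) := conj_eq_self_iff.1 (by rw [← conj_conj, (h.swap hy y1).2, (h.swap hx x1).1])

theorem mem_Z (hs : s ∈ 𝐍(A ⊔ D)) (s1 : s ∉ 𝐍(D)) (hx : x ∈ A ⊔ D) (x2 : x * x = 1)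
    (e : s * x * s⁻¹ = x) : x ∈ A ⊓ D := by
  obtain ⟨h1, h2⟩ := h.swap hs s1
  rcases h.mem_or hx x2 with h3 | h3
  exacts [⟨h3, e ▸ h1 ▸ conj_mem_conj h3⟩, ⟨e ▸ h2 ▸ conj_mem_conj h3, h3⟩]

theorem le_T (hS : S ⊓ 𝐍(D) ≤ A ⊔ D) (hE : E ≤ S ⊓ 𝐍(A ⊔ D)) (h2 : ∀ x ∈ E, x * x = 1)
    (hc : ♯E = q ^ 2) : E ≤ A ⊔ D := fun s hs => by_contra fun s1 => by
  have s2 : s ∉ 𝐍(D) := fun e => s1 (hS ⟨(hE hs).1, e⟩)
  have key : ∀ x ∈ E, x ∈ 𝐍(D) → x ∈ A ⊓ D := fun x hx e => h.mem_Z (hE hs).2 s2 (hS ⟨(hE hx).1, e⟩)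
    (h2 x hx) (by rw [ab_iff.1 (ab_of_mul_self h2) s hs x hx, mul_inv_cancel_right])
  have := card_le_two_mul (A := A ⊓ D) (N := E) (s := s) fun x hx => (em (x ∈ 𝐍(D))).imp (key x hx)
    fun e => key _ (mul_mem hx hs) (h.mul_mem_norm (hE hx).2 e (hE hs).2 s2)
  rw [hc, h.cardZ] at this
  have := h.four
  nlinarith

theorem le_norm (h2 : IsPGroup 2 S) (hS : S ⊓ 𝐍(D) ≤ A ⊔ D) : S ≤ 𝐍(A ⊔ D) ∨ ¬ A ⊔ D ≤ S := by
  refine or_iff_not_imp_right.2 fun hT => by_contra fun hn => ?_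
  rw [not_not] at hT
  obtain ⟨y, hy, y1⟩ := SetLike.exists_of_lt (lt_inf_norm_of_nil (nil_of_isPGroup h2)
    (inf_lt_left.2 hn))
  have h1 : A ⊔ D ≤ S ⊓ 𝐍(A ⊔ D) := le_inf hT (le_norm_self _)
  refine y1 ⟨hy.1, mem_norm_of_conj_le ?_⟩
  rw [conj_sup]
  exact sup_le (h.le_T hS (conj_le_of_mem_norm hy.2 (le_sup_left.trans h1)) (h.symm.sq_conj y)
    ((card_conj _ _).trans h.cardA)) (h.le_T hS (conj_le_of_mem_norm hy.2 (le_sup_right.trans h1))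
    (h.sq_conj y) ((card_conj _ _).trans h.cardD))

theorem exists_inv (hC : IsCIT G) (hT : Syl 2 (A ⊔ D) 𝐍(D)) (hk : k ∈ 𝐍(D)) (hk' : k ∈ 𝐍(A ⊔ D))
    (k1 : k ≠ 1) (ho : Odd (orderOf k)) (hs : s ∈ 𝐍(A ⊔ D)) (s1 : s ∉ 𝐍(D)) (s2 : s * s ∈ A ⊔ D) :
    ∃ y ∈ 𝐍(A ⊔ D), y ≠ 1 ∧ Odd (orderOf y) ∧
      ∃ w ∈ A ⊔ D, w * s * (w * s) = 1 ∧ w * s * y * (w * s)⁻¹ = y⁻¹ := by
  have h1 : s * k * s⁻¹ ∈ 𝐍(D) := by
    rw [← (h.swap hs s1).1, norm_conj, conj_mem_conj_iff, ← conj_eq_self_iff]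
    exact ((h.swap_or hk').resolve_right fun e => h.ne (e.2.symm.trans (conj_eq_of_mem_norm hk))).1
  set T := A ⊔ D
  have hx : s * k * s⁻¹ * k⁻¹ ∈ 𝐍(T) := mul_mem (mul_mem (mul_mem hs hk') (inv_mem hs)) (inv_mem hk')
  have h2 : Odd (orderOf (coset T (s * k * s⁻¹ * k⁻¹))) := Odd.of_dvd_nat (Nat.odd_iff.2 (by
    have := hT.syl_norm.not_dvd; omega)) (card_quo (N := T) (H := 𝐍(D) ⊓ 𝐍(T)) inf_le_right ▸
      orderOf_dvd_card (coset_mem_quo T (mem_inf.2 ⟨mul_mem h1 (inv_mem hk), hx⟩)))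
  rw [coset_eq hx] at h2
  obtain ⟨y, h3, h4⟩ := exists_odd_lift _ _ h2
  have e : cosetHom T ⟨_, hx⟩ = coset T s * coset T k * (coset T s)⁻¹ * (coset T k)⁻¹ := by
    rw [← coset_eq hx, coset_mul (mul_mem (mul_mem hs hk') (inv_mem hs)) (inv_mem hk'), coset_conj hs hk',
      coset_inv]
  have s3 : coset T s * coset T s = 1 := by rw [← coset_mul hs hs, coset_eq_one s2]
  have y1 : y.1 ≠ 1 := fun e' => k1 (Transfer.eq_one_of_coprime_of_mem_isPGroup h.two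
    (Nat.coprime_two_right.2 ho) ((coset_eq_one_iff hk').1 ((hC.subgroup _).quot (T.subgroupOf _)
      h.two.comap_subtype _ _ (fun e => s1 (h.T_le ((coset_eq_one_iff hs).1 e))) s3 (by
        rw [show y = 1 from Subtype.ext e', map_one, e, eq_comm, mul_inv_eq_one,
          mul_inv_eq_iff_eq_mul] at h3
        exact h3.symm) (Odd.of_dvd_nat ho (orderOf_coset_dvd _ _)))))
  · refine ⟨y, y.2, y1, by rwa [orderOf_coe], hC.exists_inv_of_inverts h.two y.2 y1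
      (by rwa [orderOf_coe]) hs s2 ((coset_eq_one_iff (mul_mem (mul_mem (mul_mem hs y.2)
        (inv_mem hs)) y.2)).1 ?_)⟩
    rw [coset_mul (mul_mem (mul_mem hs y.2) (inv_mem hs)) y.2, coset_conj hs y.2, coset_coe, h3, e,
      inv_eq_of_mul_self s3]
    generalize coset T s = σ at s3
    generalize coset T k = κ
    calc _ = σ * σ * κ * σ * κ⁻¹ * (σ * σ) * κ * σ * κ⁻¹ := by group
      _ = κ * (σ * σ) * κ⁻¹ := by nth_rw 1 2 [s3]; group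
      _ = 1 := by rw [s3]; group

/-- the subgroup `A D` is a Sylow subgroup -/
theorem syl (hC : IsCIT G) (hO : pCore 2 G = ⊥) (hT : Syl 2 (A ⊔ D) 𝐍(D))
    (tr : ∀ d ∈ D, d ≠ 1 → ∀ e ∈ D, e ≠ 1 → ∃ g, e = g * d * g⁻¹) (hk : k ∈ 𝐍(D))
    (hk' : k ∈ 𝐍(A ⊔ D)) (k1 : k ≠ 1) (ho : Odd (orderOf k)) : Syl 2 (A ⊔ D) ⊤ := by
  obtain ⟨S, hS, hle⟩ := exists_syl_ge le_top h.two
  refine (em (A ⊔ D = S)).elim (· ▸ hS) fun hne => False.elim ?_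
  have h1 : S ⊓ 𝐍(D) ≤ A ⊔ D :=
    (hT.eq_of_le (le_inf hle h.T_le) inf_le_right (hS.isPGroup.to_le inf_le_left)).le
  have h2 := (h.le_norm hS.isPGroup h1).resolve_right (not_not.2 hle)
  have out : ∀ {s}, s ∈ S → s ∉ A ⊔ D → s ∉ 𝐍(D) := fun hs s1 e => s1 (h1 ⟨hs, e⟩)
  have mul : ∀ {x y}, x ∈ S → x ∉ A ⊔ D → y ∈ S → y ∉ A ⊔ D → x * y ∈ A ⊔ D := fun hx x1 hy y1 =>
    h1 ⟨mul_mem hx hy, h.mul_mem_norm (h2 hx) (out hx x1) (h2 hy) (out hy y1)⟩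
  obtain ⟨s, hs, s1⟩ := SetLike.exists_of_lt (lt_of_le_of_ne hle hne)
  obtain ⟨y, hy, y1, y2, w, hw, s2, e⟩ := h.exists_inv hC hT hk hk' k1 ho (h2 hs) (out hs s1)
    (mul hs s1 hs s1)
  replace s1 := (mul_mem_cancel_left hw).not.2 s1
  replace hs := mul_mem (hle hw) hs
  generalize w * s = s at hs s1 s2 e
  have cent : ∀ s ∈ S, s ∉ A ⊔ D → ∀ c ∈ A ⊓ D, c ≠ 1 → s ∈ 𝐂[c] → 𝐂[c] = S :=
    fun s hs s1 c hc c1 e => hC.cent_eq hS (hle (mem_sup_left hc.1)) c1 fun x hx => by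
      by_cases x1 : x ∈ A ⊔ D
      · exact cent_le_cent1 hc (h.le_cent x1)
      · exact (mul_mem_cancel_right e).1 (cent_le_cent1 hc (h.le_cent (mul hx x1 hs s1)))
  have trc : ∀ s' ∈ S, s' ∉ A ⊔ D → ∀ c ∈ A ⊓ D, s' * c * s'⁻¹ = c →
      ∃ e ∈ A ⊓ D, c = e * (s' * e * s'⁻¹) := fun s' hs' s1' c hc e' => by
    have h3 : ∀ c ∈ A ⊓ D, s' * c * s'⁻¹ = s * c * s⁻¹ := fun c hc => by
      rw [← mem_cent_iff_conj.1 (h.le_cent (mul (inv_mem hs') (inv_mem_iff.not.2 s1') hs s1)) c hc]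
      nth_rw 2 [mem_cent_iff_conj.1 (h.le_cent (mul (inv_mem hs') (inv_mem_iff.not.2 s1') hs s1)) c hc]
      group
    obtain ⟨b, hb, h4⟩ := exists_trace (Z := A ⊓ D) (fun d hd => h.sqD d hd.2) (h.norm_Z hy)
      (hC.fpf (h.two.to_le (inf_le_left.trans le_sup_left)) y1 y2) (h.norm_Z (h2 hs)) e hc
      (h3 c hc ▸ e')
    exact ⟨b, hb, h3 b hb ▸ h4⟩
  obtain ⟨z, hz, z1, z2, hc⟩ := exists_central hS.isPGroup fun e =>
    s1 (mem_bot.1 (e ▸ hs) ▸ one_mem _)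
  have z3 : z ∈ A ⊓ D := h.mem_Z (h2 hs) (out hs s1) (h1 ⟨hz, cent_le_norm D
    (le_cent1_iff.1 (le_sup_right.trans (hle.trans hc)))⟩) z2 (mem_cent1_iff_conj.1 (hc hs))
  replace hc := hC.cent_eq hS hz z1 hc
  have cl : ∀ u ∈ A ⊔ D, u ≠ 1 → u * u = 1 → ∃ g, z = g * u * g⁻¹ := fun u hu u1 u2 => by
    rcases h.mem_or hu u2 with h3 | h3
    · obtain ⟨g, hg⟩ := tr _ ((h.swap (h2 hs) (out hs s1)).1 ▸ conj_mem_conj h3)
        (BSW.conj_ne_one u1) z z3.2 z1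
      exact ⟨g * s, by rw [hg]; group⟩
    · exact tr u h3 u1 z z3.2 z1
  have ncl : ∀ s ∈ S, s ∉ A ⊔ D → s * s = 1 → ∀ g, z ≠ g * s * g⁻¹ := fun s hs s1 s2 g e => by
    have sw := h.swap (h2 hs) (out hs s1)
    have h3 : ∀ d ∈ D, ∃ a ∈ A, d * a ∈ 𝐂[s] := fun d hd => by
      have ha : s * d * s⁻¹ ∈ A := sw.2 ▸ conj_mem_conj hd
      have h3 : s * (d * (s * d * s⁻¹)) * s⁻¹ = (d * (s * d * s⁻¹))⁻¹ := by
        rw [mul_inv_rev, inv_eq_of_mul_self (h.sqD d hd), inv_eq_of_mul_self (h.sqA _ ha)]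
        calc _ = s * d * s⁻¹ * (s * s * d * (s * s)⁻¹) := by group
          _ = _ := by rw [s2]; group
      have h4 := h.sq_mem (mul_mem (mem_sup_right hd) (mem_sup_left ha))
      obtain ⟨b, hb, h5⟩ := trc s hs s1 _ h4 (by
        rw [← conj_mul, h3, ← mul_inv_rev, inv_eq_of_mul_self (h.sqA _ h4.1)])
      refine ⟨_, mul_mem ha hb.1, mem_cent1_comm.1 (mem_cent1_iff_conj.2 ?_)⟩
      rw [← mul_assoc d, ← conj_mul, h3, eq_inv_mul_iff_mul_eq.2 h5.symm,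
        inv_eq_of_mul_self (h.sqA b hb.1), ab_iff.1 h.abA b hb.1 _ h4.1]
      group
    have h4 : ∀ y ∈ 𝐂[s], g * y * g⁻¹ ∈ S := fun y hy => hc ▸ e ▸ cent1_conj g s ▸ conj_mem_conj hy
    have h5 : ∀ y ∈ A ⊔ D, y ∈ 𝐂[s] → y ∉ A → g * y * g⁻¹ ∉ A ⊔ D := fun y hy y1 y2 y3 => by
      have h5 := h.sq_mem y3
      rw [conj_mul] at h5
      have h6 := cent s hs s1 _ (h.sq_mem hy) (fun e => y2 (h.mem_Z (h2 hs) (out hs s1) hy e
        (mem_cent1_iff_conj.1 (mem_cent1_comm.1 y1))).1) (mem_cent1_comm.1 (mul_mem y1 y1))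
      have h7 : g⁻¹ •ᶜ D ≤ S := by
        rw [← le_conj_iff_inv_conj_le, ← h6, ← cent1_conj]
        exact le_sup_right.trans (h.le_cent.trans (cent_le_cent1 h5))
      have h8 : g⁻¹ •ᶜ D ≤ 𝐂[s] := by
        rw [← le_conj_iff_inv_conj_le, ← cent1_conj, ← e, hc]
        exact le_sup_right.trans hle
      have h9 := card_le (H := g⁻¹ •ᶜ D) fun x hx => h.mem_Z (h2 hs) (out hs s1)
        (h.le_T h1 (le_inf h7 (h7.trans h2)) (h.sq_conj _) ((card_conj _ _).trans h.cardD) hx)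
        (h.sq_conj _ x hx) (mem_cent1_iff_conj.1 (mem_cent1_comm.1 (h8 hx)))
      rw [card_conj, h.cardD, h.cardZ] at h9
      have := h.four
      nlinarith
    obtain ⟨d, hd, d', hd', d1, d2, d3⟩ := h.exists_two
    obtain ⟨a, ha, a1⟩ := h3 d hd
    obtain ⟨a', ha', a2⟩ := h3 d' hd'
    have m1 := mul_mem (mem_sup_right hd) (mem_sup_left (T := D) ha)
    have m2 := mul_mem (mem_sup_right hd') (mem_sup_left (T := D) ha')
    refine h5 _ (mul_mem m1 m2) (mul_mem a1 a2) (fun e => d3 ?_) (conj_mul (a := d * a) ▸ mul (h4 _ a1)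
      (h5 _ m1 a1 ((mul_mem_cancel_right ha).not.2 d1)) (h4 _ a2)
      (h5 _ m2 a2 ((mul_mem_cancel_right ha').not.2 d2)))
    rw [show d * d' = d * a * (d' * a') * a'⁻¹ * (d'⁻¹ * a * d')⁻¹ by group]
    exact mul_mem (mul_mem e (inv_mem ha')) (inv_mem (conj_mem_of_norm' (h.nD hd') ha))
  have U : ∀ b g : G, s ∈ b •ᶜ S → g * z * g⁻¹ ∈ b •ᶜ S → s ∈ 𝐂[g * z * g⁻¹] →
      𝐂[g * z * g⁻¹] = b •ᶜ S := fun b g h3 h4 h5 => by
    rw [mem_conj] at h3 h4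
    have h6 : b⁻¹ * s * b ∉ A ⊔ D := fun e => by
      obtain ⟨x, hx⟩ := cl _ e (conj_ne_one'.2 fun e => s1 (e ▸ one_mem _))
        (by simpa using conj_mul_self (g := b⁻¹) s2)
      exact ncl s hs s1 s2 (x * b⁻¹) (by rw [hx]; group)
    have h7 : b⁻¹ * (g * z * g⁻¹) * b * (b⁻¹ * (g * z * g⁻¹) * b) = 1 := by
      simpa [mul_assoc] using conj_mul_self (g := b⁻¹ * g) z2
    have h8 : b⁻¹ * s * b ∈ 𝐂[b⁻¹ * (g * z * g⁻¹) * b] := mem_cent1.2 (by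
      calc _ = b⁻¹ * (s * (g * z * g⁻¹)) * b := by group
        _ = _ := by rw [mem_cent1.1 h5]; group)
    rw [← cent _ h3 h6 _ (h.mem_Z (h2 h3) (out h3 h6) (by_contra fun e =>
      ncl _ h4 e h7 (g⁻¹ * b) (by group)) h7 (mem_cent1_iff_conj.1 h8))
      (conj_ne_one'.2 (BSW.conj_ne_one z1)) h8, ← cent1_conj]
    congr 2; group
  have all : ∀ g, g * z * g⁻¹ ∈ S := fun g => by
    obtain ⟨b, -, hb⟩ := hS.exists_le_conj' le_top ((hC.conj_or s2 (conj_mul_self (g := g) z2)).resolve_left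
      fun ⟨x, hx⟩ => ncl s hs s1 s2 (g⁻¹ * x) (by
        rw [show g⁻¹ * x * s * (g⁻¹ * x)⁻¹ = g⁻¹ * (x * s * x⁻¹) * g by group, ← hx]; group))
    obtain ⟨b', -, hb'⟩ := hS.exists_le_conj' le_top (hC.cent_inv (fun e : s = 1 => s1 (e ▸ one_mem _)) s2)
    have h3 : s ∈ 𝐂[b * z * b⁻¹] := by rw [cent1_conj, hc]; exact hb (subset_closure (Or.inl rfl))
    have h4 : s ∈ 𝐂[1 * z * 1⁻¹] := by simpa [hc] using hs
    have h5 := (U b' b (hb' (mem_cent1_self s)) (hb' (mem_cent1_comm.1 h3)) h3).trans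
      (U b' 1 (hb' (mem_cent1_self s)) (hb' (mem_cent1_comm.1 h4)) h4).symm
    rw [cent1_conj, cent1_conj, hc, one_conj] at h5
    exact h5 ▸ hb (subset_closure (Or.inr rfl))
  refine z1 (mem_bot.1 (hO ▸ Op_top (G := G) 2 ▸ OO.le_Op (K := normalClosure {z})
    (normalIn_top.2 inferInstance) (hS.isPGroup.to_le ((closure_le S).2 fun x hx => ?_))
    (subset_normalClosure rfl)))
  obtain ⟨_, rfl, hx'⟩ := Group.mem_conjugatesOfSet_iff.1 hx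
  obtain ⟨g, rfl⟩ := isConj_iff.1 hx'
  exact all g

end Cfg

end Cfsg.Agent.CIT
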