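import Mathlib
import Cfsg.Agent.Lib.CIT.Cfg

/-!
# `CIT`-groups with a non-solvable `2`-local subgroup
-/

set_option autoImplicit false

namespace Cfsg.Agent.CIT

open Subgroup Cfsg.Agent.Coprime Cfsg.Agent.OO BSW
open scoped Pointwise commutatorElement

universe u

variable {G : Type u} [Group G] [Finite G] {A D P X : Subgroup G} {q : ℕ}

theorem le_norm_of_wc (hw : ∀ g : G, g •ᶜ D ≤ 𝐍(D) → g ∈ 𝐍(D)) (hP : IsPGroup 2 P) (h : D ≤ P) :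
    P ≤ 𝐍(D) := by_contra fun hn => by
  obtain ⟨y, hy, y1⟩ := SetLike.exists_of_lt (lt_inf_norm_of_nil (nil_of_isPGroup hP)
    (inf_lt_left.2 hn))
  exact y1 ⟨hy.1, hw y ((conj_le_of_mem_norm hy.2 (le_inf h (le_norm_self D))).trans inf_le_right)⟩

theorem Cfg.norm_le (h : Cfg A D q) (hT : Syl 2 (A ⊔ D) ⊤) : 𝐍(A ⊔ D) ≤ 𝐍(D) := fun n hn =>
  by_contra fun n1 => by
    obtain ⟨m, hm⟩ : Odd (Nat.card (Coset (A ⊔ D))) := Nat.odd_iff.2 (by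
      have := hT.syl_norm.not_dvd
      rw [top_inf_eq] at this
      exact Nat.two_dvd_ne_zero.1 this)
    have := h.T_le ((coset_eq_one_iff (pow_mem hn (2 * m + 1))).1 (by
      rw [coset_pow hn, ← hm, pow_card_eq_one']))
    rw [pow_succ, pow_mul, sq] at this
    exact n1 ((mul_mem_cancel_left (pow_mem (h.mul_mem_norm hn n1 hn n1) m)).1 this)

namespace Par

variable {S : Subgroup (Coset D)} {t : Coset D} (h : Par D S t)
include h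

theorem cent_le_norm (hw : ∀ g : G, g •ᶜ D ≤ 𝐍(D) → g ∈ 𝐍(D)) {d : G} (hd : d ∈ D) (d1 : d ≠ 1) :
    𝐂[d] ≤ 𝐍(D) := le_norm_of_wc hw (h.cit.cent1 h.two hd d1)
      ((ab_of_mul_self h.sq).le_cent.trans (cent_le_cent1 hd))

theorem ti (hw : ∀ g : G, g •ᶜ D ≤ 𝐍(D) → g ∈ 𝐍(D)) {d g : G} (hd : d ∈ D) (d1 : d ≠ 1)
    (hg : g * d * g⁻¹ ∈ D) : g ∈ 𝐍(D) :=
  hw g ((conj_mono g ((ab_of_mul_self h.sq).le_cent.trans (cent_le_cent1 hd))).trans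
    ((cent1_conj g d).ge.trans (h.cent_le_norm hw hg (BSW.conj_ne_one d1))))

theorem exists_out (hO : pCore 2 G = ⊥) : ∃ d ∈ D, ∃ g, g * d * g⁻¹ ∈ 𝐍(D) ∧ g * d * g⁻¹ ∉ D := by
  by_contra! sc
  have hw : ∀ g : G, g •ᶜ D ≤ 𝐍(D) → g ∈ 𝐍(D) := fun g hg =>
    mem_norm_of_conj_mem fun d hd => sc d hd g (hg (conj_mem_conj hd))
  have ex : ∀ u ∈ 𝐍(D), u * u = 1 → ∃ d ∈ D ⊓ 𝐂[u], d ≠ 1 := fun u hu u2 => exists_mem_ne_one fun e => by
    have := le_card_cent_sq h.sq hu u2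
    rw [e, card_bot] at this
    have := one_lt_card h.ne
    omega
  obtain ⟨T, hT, hle⟩ := exists_syl_ge le_top h.two
  have h1 := le_norm_of_wc hw hT.isPGroup hle
  have cent : ∀ u ∈ 𝐍(D), u ≠ 1 → u * u = 1 → 𝐂[u] ≤ 𝐍(D) := fun u hu u1 u2 => by
    obtain ⟨g, -, hg⟩ := hT.exists_conj_le le_top (h.cit.cent_inv u1 u2)
    obtain ⟨d, hd, d1⟩ := ex u hu u2
    exact (conj_le_iff_le_inv_conj.1 (hg.trans h1)).trans (conj_eq_of_mem (inv_mem (h.ti hw hd.1 d1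
      (sc d hd.1 g (h1 (hg (conj_mem_conj (mem_cent1_comm.1 (mem_cent1_comm.1 hd.2))))))))).le
  obtain ⟨a, ha, a1, a2⟩ := h.exists_inv
  obtain ⟨d, hd, d1⟩ := exists_mem_ne_one h.ne
  obtain ⟨k, hk, e⟩ := conj_of_se (M := 𝐍(D)) (fun e => h.ne (eq_bot_iff.2 (hO ▸ Op_top (G := G) 2 ▸
    OO.le_Op ⟨le_top, e.ge⟩ h.two))) (fun u hu u1 u2 g hg => by
      obtain ⟨d, hd, d1⟩ := ex _ hg (conj_mul_self u2)
      refine inv_mem_iff.1 (h.ti hw hd.1 d1 (sc d hd.1 _ (cent u hu u1 u2 ?_)))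
      rw [inv_inv, ← mem_conj, ← cent1_conj]; exact hd.2)
    (le_norm_self D hd) d1 (h.sq d hd) ha (fun e => a1 (e ▸ one_mem D)) a2
  exact a1 (e ▸ conj_mem_of_norm hk hd)

theorem exists_elem (hO : pCore 2 G = ⊥) : ♯D ≤ (♯(Kt S t) + 1) ^ 2 ∧ ∃ A ≤ 𝐍(D),
    (∀ a ∈ A, a * a = 1) ∧ (♯(Kt S t) + 1) ^ 2 ≤ ♯A ∧ ¬ A ≤ D := by
  have sq : ∀ g : G, ∀ x ∈ g •ᶜ D, x * x = 1 := fun g x hx => by
    obtain ⟨y, hy, rfl⟩ := mem_conj_iff_exists.1 hx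
    exact conj_mul_self (h.sq y hy)
  by_cases hw : ∀ g : G, g •ᶜ D ≤ 𝐍(D) → g ∈ 𝐍(D)
  · obtain ⟨d, hd, g, h1, h2⟩ := h.exists_out hO
    have d1 : d ≠ 1 := fun e => h2 (by simp [e])
    have h3 : g⁻¹ •ᶜ (D ⊓ 𝐂[g * d * g⁻¹]) ≤ 𝐍(D) := by
      refine le_trans ?_ (h.cent_le_norm hw hd d1)
      rw [← le_conj_iff_inv_conj_le, ← cent1_conj]; exact inf_le_right
    have h4 : D ⊓ g⁻¹ •ᶜ (D ⊓ 𝐂[g * d * g⁻¹]) = ⊥ := eq_bot_iff.2 fun e he => by_contra fun e1 =>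
      h2 (conj_mem_of_norm (h.ti hw he.1 e1 (by simpa using (mem_conj.1 he.2).1)) hd)
    have h5 : ∀ x ∈ g⁻¹ •ᶜ (D ⊓ 𝐂[g * d * g⁻¹]), x * x = 1 := fun x hx =>
      sq _ x (conj_mono _ inf_le_left hx)
    have h6 := h.card_le h3 h5
    have h7 := le_card_cent_sq h.sq h1 (conj_mul_self (h.sq d hd))
    rw [← card_conj g⁻¹ (D ⊓ _)] at h7
    generalize g⁻¹ •ᶜ (D ⊓ 𝐂[g * d * g⁻¹]) = E at *
    rw [h4, card_bot, one_mul] at h6
    have hD := h7.trans (Nat.pow_le_pow_left h6 2)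
    rw [(h.card_S hD).2, Nat.pow_le_pow_iff_left two_ne_zero] at h7
    obtain ⟨n, hn, h8⟩ := h.syl.exists_conj_le h3 (isPGroup_of_sq h5)
    have h9 : D ⊓ n •ᶜ E = ⊥ := by rw [← conj_eq_of_mem_norm hn, ← conj_inf, h4, conj_bot]
    have h10 : n •ᶜ E ≤ 𝐂(D ⊓ 𝐂(quoPre D S)) := le_cent_symm (inf_le_right.trans (cent_anti h8))
    refine ⟨hD, n •ᶜ E ⊔ (D ⊓ 𝐂(quoPre D S)), sup_le (h8.trans (quoPre_le_norm S))
      (le_norm_of_le inf_le_left), fun x hx => ?_, ?_, fun e => ?_⟩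
    · obtain ⟨a, ha, b, hb, rfl⟩ := (mem_sup_norm_right (le_norm_of_le_cent h10)).1 hx
      obtain ⟨y, hy, e⟩ := mem_conj_iff_exists.1 ha
      rw [mul_assoc, ← mul_assoc b, mem_cent_iff.1 (h10 ha) b hb, mul_assoc, h.sq b hb.1, mul_one, e,
        conj_mul_self (h5 y hy)]
    · rw [card_sup_of_inf_eq_bot (Or.inl (le_norm_of_le_cent h10)) (eq_bot_iff.2 (h9 ▸ le_inf
        (inf_le_right.trans inf_le_left) inf_le_left)), card_conj, pow_two]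
      exact Nat.mul_le_mul h7 h.le_card_Z
    · rw [inf_eq_right.2 (le_sup_left.trans e), ← card_eq_one_iff, card_conj] at h9
      have := (hyp_le_card h.hyp).2
      omega
  push Not at hw
  obtain ⟨g, h1, h2⟩ := hw
  have h3 : ¬ g •ᶜ D ≤ D := fun e => h2 (mem_norm_of_conj_le e)
  obtain ⟨b, hb, b1⟩ := SetLike.not_le_iff_exists.1 h3
  have h4 := h.card_cent_sq_le (h1 hb) b1 (sq g b hb)
  have h5 := (h.card_le h1 (sq g)).trans (Nat.mul_le_mul_right _ (OO.card_le (inf_le_inf_left D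
    ((ab_of_mul_self (sq g)).le_cent.trans (cent_le_cent1 hb)))))
  rw [card_conj] at h5
  have h6 := card_pos' (D ⊓ 𝐂[b])
  have hD : ♯D ≤ (♯(Kt S t) + 1) ^ 2 := h5.trans (by
    rw [pow_two]; exact Nat.mul_le_mul_right _ (by nlinarith))
  exact ⟨hD, _, h1, sq g, by rw [card_conj, (h.card_S hD).2], h3⟩

theorem exists_cfg (hO : pCore 2 G = ⊥) :
    ∃ A, Cfg A D (♯(Kt S t) + 1) ∧ A ⊔ D = quoPre D S := by
  obtain ⟨hD, E, h1, h2, h3, h4⟩ := h.exists_elem hO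
  obtain ⟨n, hn, h5⟩ := h.syl.exists_conj_le h1 (isPGroup_of_sq h2)
  replace h2 : ∀ x ∈ n •ᶜ E, x * x = 1 := fun x hx => by
    obtain ⟨y, hy, rfl⟩ := mem_conj_iff_exists.1 hx
    exact conj_mul_self (h2 y hy)
  replace h4 : ¬ n •ᶜ E ≤ D := by rwa [← conj_eq_of_mem_norm hn, conj_le_conj_iff]
  rw [← card_conj n] at h3
  generalize n •ᶜ E = A at *
  obtain ⟨hS, hD⟩ := h.card_S hD
  have h6 := h5.trans (quoPre_le_norm S)
  have hZ := h.le_card_Z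
  have h7 : ∀ a ∈ A, a ∉ D → ♯(D ⊓ 𝐂[a]) ≤ ♯(Kt S t) + 1 := fun a ha a1 =>
    (Nat.pow_le_pow_iff_left two_ne_zero).1 (hD ▸ h.card_cent_sq_le (h6 ha) a1 (h2 a ha))
  have h8 : ∀ a ∈ A, D ⊓ A ≤ D ⊓ 𝐂[a] := fun a ha =>
    inf_le_inf_left D ((ab_of_mul_self h2).le_cent.trans (cent_le_cent1 ha))
  obtain ⟨b, hb, b1⟩ := SetLike.not_le_iff_exists.1 h4
  have h9 := (OO.card_le (h8 b hb)).trans (h7 b hb b1)
  have h10 := h.card_le h6 h2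
  have h11 : ♯(D ⊓ A) = ♯(Kt S t) + 1 := le_antisymm h9 (by nlinarith)
  have hc : Cfg A D (♯(Kt S t) + 1) := ⟨by have := (hyp_le_card h.hyp).2; omega, h2, h.sq,
    le_antisymm (by rwa [h11, ← pow_two] at h10) h3, hD, inf_comm A D ▸ h11, h6, fun a ha d hd e =>
      or_iff_not_imp_left.2 fun a1 => ((eq_of_le_of_card_le (h8 a ha) (h11 ▸ h7 a ha a1)).ge
        ⟨hd, mem_cent1.2 e.symm⟩).2⟩
  exact ⟨A, hc, eq_of_le_of_card_le (sup_le h5 (le_quoPre S)) (by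
    rw [hc.cardT, card_quoPre, hD, hS]; exact (pow_succ _ 2).ge)⟩

theorem syl_top (hO : pCore 2 G = ⊥) (hc : Cfg A D (♯(Kt S t) + 1)) (e : A ⊔ D = quoPre D S) :
    Syl 2 (A ⊔ D) ⊤ := by
  obtain ⟨k, h1, h2, h3, h4⟩ := h.exists_odd
  exact hc.syl h.cit hO (e ▸ h.syl) (fun d hd d1 e he e1 =>
    (h.trans hc.cardD.le hd d1 he e1).imp fun _ => And.right) h1 (e ▸ h2) h3 h4

theorem not_sol : ¬ Sol 𝐍(D) := fun _ => by
  have := h.hyp.isSimpleGroup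
  have hs : Group.IsSolvable (Coset D) := inferInstance
  obtain ⟨k, hk, k1⟩ := h.hyp.exists_K_ne_one
  have e := h.hyp.t_conj hk
  rw [IsSimpleGroup.comm_iff_isSolvable.2 hs t, mul_inv_cancel_right] at e
  exact k1 (h.hyp.eq_one_of_mul_self hk (mul_eq_one_iff_eq_inv.2 e))

theorem isSimpleGroup (hO : pCore 2 G = ⊥) : IsSimpleGroup G := by
  obtain ⟨A, hc, e⟩ := h.exists_cfg hO
  have hT := h.syl_top hO hc e
  have := (nontrivial_iff_ne_bot D).2 h.ne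
  have := D.subtype_injective.nontrivial
  refine ⟨fun L hL => or_iff_not_imp_left.2 fun L0 => ?_⟩
  have hn := normalIn_top.2 hL
  have h1 : (A ⊔ D) ⊓ L ≠ ⊥ := (hT.inf_normal hn).ne_bot (by_contra fun h1 => L0 (eq_bot_iff.2
    (h.cit.oddCore (fun _ => h.not_sol inferInstance) ▸ Core.le_pPrimeCore
      ((Nat.prime_two.coprime_iff_not_dvd.2 h1).symm))))
  have h2 : L ⊓ D ≠ ⊥ := fun e => inf_Zc_ne_bot hT.nil (hn.inf_left le_top) h1 (eq_bot_iff.2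
    (e ▸ inf_le_inf inf_le_right (((Zc_le_cent _).trans (cent_anti le_sup_right)).trans h.cent_le)))
  have h3 := h.sq_le (le_norm_inf (le_top.trans hn.norm) le_rfl) (h.two.to_le inf_le_right) h2
  have h4 : D ≤ L := inf_eq_right.1 (eq_of_le_of_card_le inf_le_right (by
    rw [(h.card_S hc.cardD.le).1] at h3; rw [hc.cardD]; nlinarith))
  obtain ⟨d, hd, g, h5, h6⟩ := h.exists_out hO
  have h7 : 𝐍(D) ≤ L := ((h.le_or (le_top.trans hn.norm)).resolve_left fun e =>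
    h6 (e ⟨hL.conj_mem d (h4 hd) g, h5⟩)).trans (sup_le le_rfl h4)
  exact top_le_iff.1 (((hT.mono (hc.T_le.trans h7) le_top).frattini hn).sup_eq.ge.trans
    (sup_le le_rfl (inf_le_right.trans ((hc.norm_le hT).trans h7))))

end Par

theorem IsCIT.exists_par (hC : IsCIT G) (hX : IsPGroup 2 X) (h0 : X ≠ ⊥) (hns : ¬ Sol 𝐍(X)) :
    ∃ (D : Subgroup G) (S : Subgroup (Coset D)) (t : Coset D), Par D S t := by
  obtain ⟨D, -, hD⟩ := Finite.exists_le_maximal (p := fun X : Subgroup G =>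
    IsPGroup 2 X ∧ X ≠ ⊥ ∧ ¬ Sol 𝐍(X)) ⟨hX, h0, hns⟩
  have h1 := OO.le_Op (normalIn_norm D) hD.1.1
  obtain ⟨⟨S, t, h⟩, h2⟩ := hC.main_local hD.1.2.2 hD.1.2.1 (le_antisymm (hD.2 ⟨Op_isPGroup _ _,
    ne_bot_of_le_ne_bot hD.1.2.1 h1, fun e => hD.1.2.2 (sol_of_le e (Op_normal 2 _).norm)⟩ h1) h1)
  exact ⟨D, S, t, hC, hD.1.2.1, h2, h⟩

/-- Suzuki's theorem on `CIT`-groups -/
theorem IsCIT.cases (hC : IsCIT G) (hns : ¬ Group.IsSolvable G) (hO : pCore 2 G = ⊥) :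
    IsZT G ∨ IsFM G ∨ IsM10 G ∨
      ∃ (D : Subgroup G) (S : Subgroup (Coset D)) (t : Coset D), Par D S t := by
  by_cases hN : ∀ X : Subgroup G, IsPGroup 2 X → X ≠ ⊥ → Sol 𝐍(X)
  · exact (hC.of_solv hns hO hN).imp_right fun h => h.2.imp_right Or.inl
  push Not at hN
  obtain ⟨X, h1, h2, h3⟩ := hN
  exact Or.inr (Or.inr (Or.inr (hC.exists_par h1 h2 h3)))

end Cfsg.Agent.CIT
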