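import Mathlib
import Cfsg.Agent.Lib.CIT.Local

/-!
# The two parabolic subgroups of a `CIT`-group of type `PSL₃(4)`
-/

set_option autoImplicit false

namespace Cfsg.Agent.CIT

open Subgroup Cfsg.Agent.Coprime Cfsg.Agent.OO BSW
open scoped Pointwise commutatorElement

universe u

variable {G : Type u} [Group G] {A D T Y : Subgroup G} {a b d e g k m s u v w x y z : G} {q : ℕ}

theorem hypC_conj {H : Subgroup G} {t : G} (h : HypC H t) (g : G) : HypC (g •ᶜ H) (g * t * g⁻¹) := by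
  refine ⟨⟨fun z hz z1 z2 x => ?_, ?_⟩, fun x hx x1 y e => ?_, ?_, ?_, conj_mul_self h.t2⟩
  · rw [mem_conj, ← h.cent _ (mem_conj.1 hz) (conj_ne_one'.2 z1)
      (by simpa using conj_mul_self (g := g⁻¹) z2)]
    simp only [mul_assoc, mul_inv_cancel_left, mul_right_inj]
    rw [← mul_assoc, ← mul_assoc, mul_left_inj]
  · obtain ⟨z, hz, z1, z2⟩ := h.ex
    exact ⟨_, conj_mem_conj hz, BSW.conj_ne_one z1, conj_mul_self z2⟩
  · exact mem_conj.2 (h.cc _ (mem_conj.1 hx) (conj_ne_one'.2 x1) _ (by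
      simp only [mul_assoc, mul_inv_cancel_left, mul_right_inj]
      rw [← mul_assoc, ← mul_assoc, e]))
  · obtain ⟨m, h1, h2⟩ := h.ne_norm
    exact ⟨_, norm_conj g H ▸ conj_mem_conj h1, conj_mem_conj_iff.not.2 h2⟩
  · exact norm_conj g H ▸ conj_mem_conj_iff.not.2 h.t_not_mem

variable [Finite G]

theorem IsCIT.inverts (hC : IsCIT G) (hY : ∀ y ∈ Y, Odd (orderOf y)) (hu : u ∈ 𝐍(Y)) (u1 : u ≠ 1)
    (u2 : u * u = 1) (hy : y ∈ Y) : u * y * u⁻¹ = y⁻¹ := by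
  obtain ⟨q, -, e⟩ := exists_conj_of_fpf hu (fun y hy e => hC u y u1 u2 e.symm (hY y hy)) hy
  have := conj_mul_self (g := q) u2
  rw [← e] at this
  calc _ = y⁻¹ * (y * u * (y * u)) * (u * u)⁻¹ * (u * y⁻¹ * u⁻¹ * (u * y * u⁻¹)) := by group
    _ = _ := by rw [this, u2]; group

theorem IsCIT.odd_cent (hC : IsCIT G) (k1 : k ≠ 1) (ho : Odd (orderOf k)) (hy : y ∈ 𝐂[k]) :
    Odd (orderOf y) := Nat.not_even_iff_odd.1 fun e => by
  obtain ⟨u, hu, u1, u2⟩ := R1.exists_invol_mem (H := zpowers y) (Nat.card_zpowers y ▸ e.two_dvd)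
  exact k1 (hC u k u1 u2 (mem_cent1.1 (zpowers_le.2 hy hu)).symm ho)

theorem IsCIT.inv_cent (hC : IsCIT G) (k1 : k ≠ 1) (ho : Odd (orderOf k)) (w1 : w ≠ 1)
    (w2 : w * w = 1) (e : w * k * w⁻¹ = k⁻¹) (hy : y ∈ 𝐂[k]) : w * y * w⁻¹ = y⁻¹ :=
  hC.inverts (fun _ => hC.odd_cent k1 ho) (conj_eq_self_iff.1 (by rw [← cent1_conj, e, cent1_inv]))
    w1 w2 hy

theorem IsCIT.exists_cent_conj (hC : IsCIT G) (y1 : y ≠ 1) (ho : Odd (orderOf y)) (u2 : u * u = 1)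
    (v2 : v * v = 1) (hu : u * y * u⁻¹ = y⁻¹) (hv : v * y * v⁻¹ = y⁻¹) :
    ∃ c ∈ 𝐂[y], v = c * u * c⁻¹ := by
  have h : u * v ∈ 𝐂[y] := mem_cent1_iff_conj.2 (by
    rw [show u * v * y * (u * v)⁻¹ = u * (v * y * v⁻¹) * u⁻¹ by group, hv, ← conj_inv, hu, inv_inv])
  obtain ⟨j, hj⟩ := exists_conj_of_odd u2 v2 (hC.odd_cent y1 ho h)
  exact ⟨_, pow_mem h j, hj⟩

structure Hf (A D T : Subgroup G) (q : ℕ) : Prop where
  cfg : Cfg A D q
  eq : A ⊔ D = T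
  syl : Syl 2 T ⊤
  ex : ∃ S t, Par D S t ∧ T = quoPre D S ∧ ♯(Kt S t) + 1 = q

theorem Par.exists_hf {S : Subgroup (Coset D)} {t : Coset D} (h : Par D S t) (hO : pCore 2 G = ⊥) :
    ∃ A T q, Hf A D T q ∧ Hf D A T q := by
  obtain ⟨A, hc, e⟩ := h.exists_cfg hO
  have hT := h.syl_top hO hc e
  refine ⟨A, _, _, ⟨hc, rfl, hT, S, t, h, e, rfl⟩, hc.symm, sup_comm _ _, hT, ?_⟩
  have h4 := hc.four
  obtain ⟨z, hz, z1⟩ := exists_mem_ne_one (H := A ⊓ D) fun e => by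
    have := hc.cardZ; rw [e, card_bot] at this; omega
  obtain ⟨d, hd, g, h1, h2⟩ := h.exists_out hO
  obtain ⟨m, -, rfl⟩ := h.trans hc.cardD.le hz.2 z1 hd fun e => h2 (by simp [e])
  obtain ⟨n, hn, h3⟩ := h.syl.exists_conj_le (zpowers_le.2 h1) (isPGroup_of_sq fun x hx => by
    obtain ⟨i, rfl⟩ := hx
    simp only [← (Commute.refl _).mul_zpow, conj_mul_self (h.sq _ hd), one_zpow])
  have h5 := e.ge (h3 (conj_mem_conj (mem_zpowers _)))
  have h6 : n * (g * (m * z * m⁻¹) * g⁻¹) * n⁻¹ ∉ D := fun e => h2 (by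
    simpa [mul_assoc] using conj_mem_of_norm' hn e)
  rw [show n * (g * (m * z * m⁻¹) * g⁻¹) * n⁻¹ = n * g * m * z * (n * g * m)⁻¹ by group] at h5 h6
  generalize n * g * m = g at h5 h6
  have h7 := (hc.mem_or h5 (conj_mul_self (h.sq z hz.2))).resolve_right h6
  have h8 : 𝐂[g * z * g⁻¹] = g •ᶜ (A ⊔ D) := by
    rw [cent1_conj, h.cit.cent_eq hT (mem_sup_left hz.1) z1 (hc.le_cent.trans (cent_le_cent1 hz))]
  have h9 : g •ᶜ (A ⊔ D) ≤ 𝐍(A) := by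
    rw [conj_le_iff_le_inv_conj, ← norm_conj]
    rcases hc.eq_or (E := g⁻¹ •ᶜ A) (le_conj_iff_inv_conj_le.1 (h8 ▸ hc.abA.le_cent.trans
      (cent_le_cent1 h7))) (hc.symm.sq_conj _) ((card_conj _ _).trans hc.cardA) with e | e <;> rw [e]
    exacts [hc.T_le', hc.T_le]
  have hO : Op 2 𝐍(A) = A := le_antisymm (fun x hx => by
    obtain ⟨a, ha, d, hd, rfl⟩ := hc.mem_T (Op_le_syl (hT.mono hc.T_le' le_top) hx)
    have := h8.ge (Op_le_syl ((hT.conj_of_mem (mem_top g)).mono h9 le_top) hx)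
    exact mul_mem ha ((hc.comm _ h7 d hd (mem_cent1.1 ((mul_mem_cancel_left
      (cent_le_cent1 h7 (hc.abA.le_cent ha))).1 this)).symm).resolve_left h6))
    (OO.le_Op (normalIn_norm A) (isPGroup_of_sq hc.sqA))
  have hA : A ≠ ⊥ := ne_bot_of_le_ne_bot (fun e => z1 (mem_bot.1 (e ▸ hz))) inf_le_left
  obtain ⟨⟨S', t', h'⟩, -⟩ := h.cit.main_local (fun hs => by
    have hC : IsCIT (Coset A) := (h.cit.subgroup _).quot (A.subgroupOf _)
      (isPGroup_of_sq hc.sqA).comap_subtype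
    obtain ⟨d, hd, d', hd', d1, d2, d3⟩ := hc.exists_two
    have ne : ∀ d ∈ D, d ∉ A → coset A d ≠ 1 := fun d hd d1 e => d1 ((coset_eq_one_iff (hc.nD hd)).1 e)
    have sq : ∀ d ∈ D, coset A d * coset A d = 1 := fun d hd => by
      rw [← coset_mul (hc.nD hd) (hc.nD hd), h.sq d hd, coset_eq_one (one_mem A)]
    obtain ⟨p, hp, h0⟩ := exists_Op_ne_bot (sol_quo hs A) fun e => ne d hd d1
      (mem_bot.1 (e ▸ coset_mem_quo A (hc.nD hd)))
    have := Fact.mk hp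
    have p2 : p ≠ 2 := by
      rintro rfl
      exact h0 (by rw [← quo_Op (normalIn_norm A) (isPGroup_of_sq hc.sqA), hO, quo_self])
    have odd : ∀ y ∈ Op p (𝐍(A) ⁒ A), Odd (orderOf y) := fun y hy => by
      obtain ⟨j, hj⟩ := (Op_isPGroup p (𝐍(A) ⁒ A)).exists_card_eq
      exact Odd.of_dvd_nat (hp.odd_of_ne_two p2).pow (hj ▸ orderOf_dvd_card hy)
    have inv := fun d hd d1 => hC.inverts odd ((Op_normal p _).norm (coset_mem_quo A (hc.nD hd)))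
      (ne d hd d1) (sq d hd) (y := Classical.choose (exists_mem_ne_one h0))
      (Classical.choose_spec (exists_mem_ne_one h0)).1
    refine (Classical.choose_spec (exists_mem_ne_one h0)).2 (hC _ _ (ne _ (mul_mem hd hd') d3)
      (sq _ (mul_mem hd hd')) ?_ (odd _ (Classical.choose_spec (exists_mem_ne_one h0)).1))
    rw [coset_mul (hc.nD hd) (hc.nD hd'), eq_comm, ← mul_inv_eq_iff_eq_mul, show ∀ a b c : Coset A, a * b * c * (a * b)⁻¹ = a * (b * c * b⁻¹) * a⁻¹ from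
        fun a b c => by group,
      inv d' hd' d2, ← conj_inv, inv d hd d1, inv_inv]) hA hO
  have hp : Par A S' t' := ⟨h.cit, hA, hc.sqA, h'⟩
  obtain ⟨n, hn, e'⟩ := hp.syl.exists_conj' (hT.mono hc.T_le' le_top)
  have hp' : Par A _ _ := ⟨h.cit, hA, hc.sqA, hypC_conj h' (coset A n)⟩
  refine ⟨_, _, hp', by rw [quoPre_conj hn, e'], ?_⟩
  obtain ⟨_, h1, -⟩ := hp'.exists_cfg ‹_›
  exact Nat.pow_left_injective two_ne_zero (h1.cardD.symm.trans hc.cardA)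

namespace Hf

variable (h : Hf A D T q)
include h

theorem cit : IsCIT G := h.ex.choose_spec.choose_spec.1.cit

theorem le_l : A ≤ T := h.eq ▸ le_sup_left

theorem le_r : D ≤ T := h.eq ▸ le_sup_right

theorem norm_le : 𝐍(T) ≤ 𝐍(D) := h.eq ▸ h.cfg.norm_le (h.eq ▸ h.syl)

theorem cent_Z (hz : z ∈ A ⊓ D) (z1 : z ≠ 1) : 𝐂[z] = T :=
  h.cit.cent_eq h.syl (h.le_l hz.1) z1 (h.eq ▸ h.cfg.le_cent.trans (cent_le_cent1 hz))

theorem trans (hd : d ∈ D) (d1 : d ≠ 1) (he : e ∈ D) (e1 : e ≠ 1) : ∃ g ∈ 𝐍(D), e = g * d * g⁻¹ := by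
  obtain ⟨S, t, hp, -, rfl⟩ := h.ex
  exact hp.trans h.cfg.cardD.le hd d1 he e1

theorem exists_Z : ∃ z ∈ A ⊓ D, z ≠ 1 := exists_mem_ne_one fun e => by
  have := h.cfg.cardZ; rw [e, card_bot] at this; have := h.cfg.four; omega

theorem card_D : ♯𝐍(D) = q ^ 3 * ((q - 1) * (1 + q)) := by
  obtain ⟨S, t, hp, -, rfl⟩ := h.ex
  rw [hp.card, (hp.card_S h.cfg.cardD.le).1, h.cfg.cardD, Nat.add_sub_cancel]; ring

theorem card_T : ♯𝐍(T) = q ^ 3 * (q - 1) := by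
  have := h.norm_le
  obtain ⟨S, t, hp, rfl, rfl⟩ := h.ex
  rw [← inf_eq_right.2 this, ← quoPre_norm, card_quoPre, hp.hyp.card_norm,
    (hp.card_S h.cfg.cardD.le).1, h.cfg.cardD, Nat.add_sub_cancel]; ring

theorem nc (g : G) : g •ᶜ D ≠ A := fun e => by
  have h1 : T ≤ 𝐍(A) := h.eq ▸ h.cfg.T_le'
  obtain ⟨m, hm, h2⟩ := ((h.syl.conj_of_mem (mem_top g)).mono (by
    rw [← e, norm_conj]; exact conj_mono g (h.eq ▸ h.cfg.T_le)) le_top).exists_conj' (h.syl.mono h1 le_top)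
  rw [conj_conj] at h2
  exact h.cfg.ne (by rw [← conj_eq_of_mem_norm (h.norm_le (conj_eq_self_iff.1 h2.symm)), ← conj_conj, e,
    conj_eq_of_mem_norm hm])

theorem eq_or (hE : g •ᶜ D ≤ T) : g •ᶜ D = D := (h.cfg.eq_or (h.eq ▸ hE) (h.cfg.sq_conj g)
  ((card_conj _ _).trans h.cfg.cardD)).resolve_left (h.nc g)

theorem cent_D (hd : d ∈ D) (d1 : d ≠ 1) : ∃ n ∈ 𝐍(D), 𝐂[d] = n •ᶜ T := by
  obtain ⟨z, hz, z1⟩ := h.exists_Z
  obtain ⟨n, hn, rfl⟩ := h.trans hz.2 z1 hd d1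
  exact ⟨n, hn, by rw [cent1_conj, h.cent_Z hz z1]⟩

theorem ti (hd : d ∈ D) (d1 : d ≠ 1) (hg : g * d * g⁻¹ ∈ D) : g ∈ 𝐍(D) := by
  obtain ⟨n, hn, e⟩ := h.cent_D hg (BSW.conj_ne_one d1)
  refine (mul_mem_cancel_left (inv_mem hn)).1 (conj_eq_self_iff.1 (h.eq_or ?_))
  rw [← conj_conj, ← le_conj_iff_inv_conj_le, ← e, cent1_conj]
  exact conj_mono g (h.cfg.abD.le_cent.trans (cent_le_cent1 hd))

theorem exists_w (hk : k ∈ 𝐍(T)) (k1 : k ≠ 1) (ho : Odd (orderOf k)) :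
    ∃ w ∈ 𝐍(D), w ∉ 𝐍(T) ∧ w * w = 1 ∧ w * k * w⁻¹ = k⁻¹ := by
  have h1 := h.norm_le hk
  obtain ⟨S, t, hp, rfl, -⟩ := h.ex
  have h2 : coset D k ∈ 𝐍(S) := (mem_quoPre.1 ((quoPre_norm S).ge ⟨h1, hk⟩)).2
  obtain ⟨x, hx, -, e⟩ := hp.hyp.exists_inverted' h2
  obtain ⟨y, hy, e'⟩ := exists_conj_of_fpf h2 (((hp.cit.subgroup _).quot (D.subgroupOf _)
    hp.two.comap_subtype).fpf (hyp_two hp.hyp) (fun e => k1 (Transfer.eq_one_of_coprime_of_mem_isPGroup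
      hp.two (Nat.coprime_two_right.2 ho) ((coset_eq_one_iff h1).1 e)))
    (Odd.of_dvd_nat ho (orderOf_coset_dvd _ _))) (conj_mem_of_norm h2 hx)
  rw [inv_mul_cancel_right] at e'
  obtain ⟨s, hs, h3⟩ := exists_coset D (y⁻¹ * t * y)
  obtain ⟨d, hd, h4, h5⟩ := hp.cit.exists_inv_of_inverts hp.two h1 k1 ho hs
    ((coset_eq_one_iff (mul_mem hs hs)).1 (by
      rw [coset_mul hs hs, h3]; simpa using conj_mul_self (g := y⁻¹) hp.hyp.t2))
    ((coset_eq_one_iff (mul_mem (mul_mem (mul_mem hs h1) (inv_mem hs)) h1)).1 (by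
      rw [coset_mul (mul_mem (mul_mem hs h1) (inv_mem hs)) h1, coset_conj hs h1, h3]
      calc _ = y⁻¹ * (t * (y * coset D k * y⁻¹) * t⁻¹ * (y * coset D k * y⁻¹)) * y := by group
        _ = 1 := by rw [← e', e]; group))
  refine ⟨_, mul_mem (le_norm_self D hd) hs, fun e => hp.hyp.t_not_mem ?_, h4, h5⟩
  have := (mem_quoPre.1 ((quoPre_norm S).ge ⟨mul_mem (le_norm_self D hd) hs, e⟩)).2
  rw [coset_mul_of_mem' hd hs, h3] at this
  simpa [mul_assoc] using mul_mem (mul_mem (le_norm_self S hy) this) (inv_mem (le_norm_self S hy))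

theorem comm_mem (hb : b ∈ 𝐍(T)) (hk : k ∈ 𝐍(T)) : b * k * b⁻¹ * k⁻¹ ∈ T := by
  have h1 := h.norm_le hb
  have h2 := h.norm_le hk
  obtain ⟨S, t, hp, rfl, -⟩ := h.ex
  refine mem_quoPre.2 ⟨mul_mem (mul_mem (mul_mem h1 h2) (inv_mem h1)) (inv_mem h2), ?_⟩
  rw [← commutatorElement_def, coset_commutator h1 h2]
  exact hp.hyp.der_norm_le (commutator_mem_commutator (mem_quoPre.1 ((quoPre_norm S).ge ⟨h1, hb⟩)).2
    (mem_quoPre.1 ((quoPre_norm S).ge ⟨h2, hk⟩)).2)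

variable (hw : w ∈ 𝐍(D)) (w1 : w ∉ 𝐍(T)) (w2 : w * w = 1)
include hw w1 w2

theorem facts : (∀ x ∈ T, w * x * w⁻¹ ∈ 𝐍(T) → x ∈ D) ∧ 𝐍(D) ≤ 𝐍(T) ⊔ zpowers w ∧
    ∃ a ∈ A, a ∉ D ∧ ∀ y ∈ A ⊓ D, w * (y * a) * w = y * a * w * (y * a) := by
  have hT : T ≤ 𝐍(D) := h.eq ▸ h.cfg.T_le
  have hA := h.le_l
  have e := h.eq
  obtain ⟨S, t, hp, rfl, -⟩ := h.ex
  have key : ∀ g ∈ 𝐍(D), coset D g ∈ 𝐍(S) ↔ g ∈ 𝐍(quoPre D S) := fun g hg =>
    ⟨fun e => ((quoPre_norm S).le (mem_quoPre.2 ⟨hg, e⟩)).2,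
      fun e => (mem_quoPre.1 ((quoPre_norm S).ge ⟨hg, e⟩)).2⟩
  have h1 := hp.hyp.other ((key w hw).not.2 w1) (by rw [← coset_mul hw hw, w2, coset_eq_one (one_mem D)])
  refine ⟨fun x hx e => by_contra fun x1 => h1.t_not_mem (h1.ti' (mem_quoPre.1 hx).2
    (fun e => x1 ((coset_eq_one_iff (hT hx)).1 e)) ?_), fun g hg => ?_, ?_⟩
  · rw [← coset_conj hw (hT hx)]
    exact (key _ (mul_mem (mul_mem hw (hT hx)) (inv_mem hw))).2 e
  · by_cases h2 : coset D g ∈ 𝐍(S)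
    · exact mem_sup_left ((key g hg).1 h2)
    obtain ⟨x, hx, j, hj, y, hy, e⟩ := h1.bruhat h2
    obtain ⟨x, hx', rfl⟩ := exists_coset D x
    have h3 := mul_mem (inv_mem (mul_mem hx' hw)) hg
    rw [← mul_inv_cancel_left (x * w) g]
    refine mul_mem (mul_mem (mem_sup_left ((key x hx').1 (le_norm_self S hx)))
      (mem_sup_right (mem_zpowers w))) (mem_sup_left ((key _ h3).1 ?_))
    rw [coset_mul (inv_mem (mul_mem hx' hw)) hg, coset_inv, coset_mul hx' hw, e, mul_assoc (_ * _),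
      inv_mul_cancel_left]
    exact mul_mem hj.1 (le_norm_self S hy)
  obtain ⟨n, -, a, k, fr, r, hr, h2⟩ := h1.exists_frame
  have h3 : ∀ x ∈ S, ∃ a ∈ A, coset D a = x := fun x hx => by
    obtain ⟨x, hx', rfl⟩ := exists_coset D x
    obtain ⟨a, ha, d, hd, rfl⟩ := h.cfg.mem_T (e.ge (mem_quoPre.2 ⟨hx', hx⟩))
    exact ⟨a, ha, (coset_mul_of_mem (h.cfg.nA ha) hd).symm⟩
  have h4 := fr.str_eq h1 hr h2 fun j hj => by
    obtain ⟨a, ha, rfl⟩ := h3 r hr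
    exact (h1.comm hr (by rw [← coset_mul (h.cfg.nA ha) (h.cfg.nA ha), h.cfg.sqA a ha,
      coset_eq_one (one_mem D)]) (h1.K_conj_mem hj hr)).symm
  obtain ⟨a, ha, h5⟩ := h3 _ (fr.a_mem 1)
  refine ⟨a, ha, fun e => fr.a_ne_one one_ne_zero (h5 ▸ coset_eq_one e), fun y hy => ?_⟩
  have h6 := h.cfg.sqA _ (mul_mem hy.1 ha)
  have h7 := h.cfg.nA (mul_mem hy.1 ha)
  rw [← h5, ← coset_mul_of_mem' hy.2 (h.cfg.nA ha)] at h4
  have h8 := (mem_quoPre.1 (hA (mul_mem hy.1 ha))).2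
  generalize y * a = u at h4 h6 h7 h8
  have h9 : coset D ((w * u) ^ 3) = 1 := by
    rw [coset_pow (mul_mem hw h7), coset_mul hw h7, pow_three, ← mul_assoc, ← mul_assoc, ← mul_assoc, h4]
    have := congrArg (coset D) h6
    rw [coset_mul h7 h7, coset_eq_one (one_mem D)] at this
    calc _ = coset D u * coset D w * (coset D u * coset D u) * coset D w * coset D u := by group
      _ = _ := by rw [this, mul_one, mul_assoc (coset D u), h1.t2, mul_one, this]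
  have h10 := hp.sq _ ((coset_eq_one_iff (pow_mem (mul_mem hw h7) 3)).1 h9)
  have h11 : (w * u) ^ 3 = 1 := by_contra fun e => h1.t_not_mem (by
    have := hp.cit _ ((w * u) ^ 2) e h10 (Commute.pow_pow_self _ _ _) (Odd.of_dvd_nat (by decide : Odd 3)
      (orderOf_dvd_of_pow_eq_one (by rw [← pow_mul, ← h10, ← pow_add])))
    rw [pow_succ, this, one_mul, coset_mul hw h7] at h9
    exact eq_inv_of_mul_eq_one_left h9 ▸ inv_mem (le_norm_self S h8))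
  calc _ = (w * u) ^ 3 * (u⁻¹ * w⁻¹ * u⁻¹) := by rw [pow_three]; group
    _ = _ := by rw [h11, one_mul, inv_eq_of_mul_self h6, inv_eq_of_mul_self w2]

end Hf

end Cfsg.Agent.CIT
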