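import Mathlib
import Cfsg.Agent.Lib.CIT.A2
import Cfsg.Agent.Lib.Lin.SL2

/-!
# The relations hold in `PSL₃(4)`
-/

set_option autoImplicit false

namespace Cfsg.Agent.CIT

open Subgroup Cfsg.Agent.OO
open scoped MatrixGroups

abbrev F4 : Type := QuadraticAlgebra (ZMod 2) 1 1

instance factF4 : Fact (∀ r : ZMod 2, r ^ 2 ≠ 1 + 1 * r) := ⟨by decide⟩

instance fintypeF4 : Fintype F4 := Fintype.ofEquiv _ (QuadraticAlgebra.equivProd 1 1).symm

theorem card_F4 : Fintype.card F4 = 4 := by rw [Fintype.ofEquiv_card]; rfl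

def mk3 : SL(3, F4) := ⟨!![1, 0, 0; 0, ⟨0, 1⟩, 0; 0, 0, ⟨1, 1⟩], by decide +kernel⟩
def mz : SL(3, F4) := ⟨!![1, 0, 1; 0, 1, 0; 0, 0, 1], by decide +kernel⟩
def mw : SL(3, F4) := ⟨!![1, 0, 0; 0, 0, 1; 0, 1, 0], by decide +kernel⟩
def mv : SL(3, F4) := ⟨!![0, 1, 0; 1, 0, 0; 0, 0, 1], by decide +kernel⟩
def mc : SL(3, F4) := ⟨!![⟨0, 1⟩, 0, 0; 0, ⟨0, 1⟩, 0; 0, 0, ⟨0, 1⟩], by decide +kernel⟩

theorem mc_mem : mc ∈ center SL(3, F4) :=
  Matrix.SpecialLinearGroup.mem_center_iff.2 ⟨⟨0, 1⟩, by decide +kernel, by decide +kernel⟩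

theorem a2_L34 : ∃ k z w v : PSL(3, F4), A2 k z w v := by
  let π := QuotientGroup.mk' (center SL(3, F4))
  have z1 : π mz ≠ 1 := fun e =>
    absurd (mem_center_iff.1 ((QuotientGroup.eq_one_iff _).1 e) mw) (by decide +kernel)
  have h1 : π mv * π mk3 * (π mv)⁻¹ = (π mk3)⁻¹ := by
    rw [← map_mul, ← map_inv, ← map_mul, show mv * mk3 * mv⁻¹ = mc * mk3⁻¹ by decide +kernel, map_mul,
      show π mc = 1 from (QuotientGroup.eq_one_iff _).2 mc_mem, one_mul, map_inv]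
  refine ⟨π mk3, π mz, π mw, π mv, ⟨?_, z1, ?_, ?_, ?_, ?_, ?_, ?_, ?_, ?_, ?_⟩,
    ⟨?_, z1, ?_, ?_, ?_, h1, ?_, ?_, ?_, ?_, ?_⟩, ?_⟩ <;>
  · simp only [← map_mul, ← map_inv, ← map_pow, ← map_one π]
    exact congrArg π (by decide +kernel)

theorem card_L34 : Nat.card PSL(3, F4) ≤ 20160 := by
  have h1 := Lin.card_SL_mul (F := F4) (Fin 3)
  rw [Matrix.card_GL_field, Nat.card_eq_fintype_card (α := F4), card_F4, Fin.prod_univ_three,
    ← (center SL(3, F4)).card_mul_index] at h1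
  have h2 := Nat.le_of_dvd Nat.card_pos (orderOf_dvd_card mc_mem)
  rw [orderOf_eq_prime (p := 3) (by decide +kernel) (by decide +kernel)] at h2
  have h3 := Nat.mul_le_mul_right (center SL(3, F4)).index h2
  replace h1 : _ * 3 = 181440 := h1
  change (center SL(3, F4)).index ≤ _
  omega

end Cfsg.Agent.CIT
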