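import Mathlib
import Cfsg.Agent.Lib.CIT.Half
import Cfsg.Agent.Lib.CIT.L34
import Cfsg.Agent.S3992

/-!
# Identification of `PSL₃(4)`
-/

set_option autoImplicit false

namespace Cfsg.Agent.CIT

open Subgroup Cfsg.Agent.Coprime Cfsg.Agent.OO BSW
open scoped Pointwise commutatorElement

universe u

variable {G : Type u} [Group G] [Finite G] {A D T : Subgroup G} {b c g k n v w x y z : G} {q : ℕ}

namespace Hf

variable (h : Hf A D T q)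
include h

omit [Finite G] in
theorem inf_le (hA : g ∈ 𝐍(A)) (hD : g ∈ 𝐍(D)) : g ∈ 𝐍(T) := h.eq ▸ mem_norm_sup hA hD

omit [Finite G] in
theorem T_le : T ≤ 𝐍(D) := h.eq ▸ h.cfg.T_le

omit [Finite G] in
theorem cent (hx : x ∈ T) (hz : z ∈ A ⊓ D) : x * z * x⁻¹ = z :=
  mem_cent_iff_conj.1 (h.cfg.le_cent (h.eq ▸ hx)) z hz

theorem mem_B (hz : z ∈ A ⊓ D) (z1 : z ≠ 1) (hg : g * z * g⁻¹ ∈ A ⊓ D) : g ∈ 𝐍(T) :=
  conj_eq_self_iff.1 (by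
    have := h.cent_Z hg (BSW.conj_ne_one z1)
    rwa [cent1_conj, h.cent_Z hz z1] at this)

theorem adj (hx : x ∈ D) (x1 : x ≠ 1) (hx' : x ∈ g •ᶜ A) : g •ᶜ A ≤ 𝐍(D) := by
  obtain ⟨n, hn, e⟩ := h.cent_D hx x1
  exact (ab_conj.2 h.cfg.abA).le_cent.trans ((cent_le_cent1 hx').trans
    (e ▸ conj_le_of_mem hn h.T_le))

end Hf

structure Su (A D T : Subgroup G) (q : ℕ) (k w v : G) : Prop where
  l : Hf A D T q
  r : Hf D A T q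
  hk : k ∈ 𝐍(T)
  k1 : k ≠ 1
  ko : Odd (orderOf k)
  hw : w ∈ 𝐍(A)
  w1 : w ∉ 𝐍(T)
  w2 : w * w = 1
  wk : w * k * w⁻¹ = k⁻¹
  hv : v ∈ 𝐍(D)
  v1 : v ∉ 𝐍(T)
  v2 : v * v = 1
  vk : v * k * v⁻¹ = k⁻¹

theorem Par.exists_su {S : Subgroup (Coset D)} {t : Coset D} (h : Par D S t) (hO : pCore 2 G = ⊥) :
    ∃ A T q k w v, Su A D T q k w v := by
  obtain ⟨A, T, q, l, r⟩ := h.exists_hf hO
  obtain ⟨S, t, hp, e, -⟩ := l.ex
  obtain ⟨k, -, hk, k1, ko⟩ := hp.exists_odd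
  rw [← e] at hk
  obtain ⟨w, hw, w1, w2, wk⟩ := r.exists_w hk k1 ko
  obtain ⟨v, hv, v1, v2, vk⟩ := l.exists_w hk k1 ko
  exact ⟨A, T, q, k, w, v, l, r, hk, k1, ko, hw, w1, w2, wk, hv, v1, v2, vk⟩

namespace Su

variable (h : Su A D T q k w v)
include h

omit [Finite G] in
theorem symm : Su D A T q k v w :=
  ⟨h.r, h.l, h.hk, h.k1, h.ko, h.hv, h.v1, h.v2, h.vk, h.hw, h.w1, h.w2, h.wk⟩

theorem uniq (hx : x ∈ D) (x1 : x ≠ 1) (hx' : x ∈ g •ᶜ A) (hy : y ∈ w •ᶜ D) (y1 : y ≠ 1)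
    (hy' : y ∈ g •ᶜ A) : g ∈ 𝐍(A) := by
  obtain ⟨d, hd, rfl⟩ := mem_conj_iff_exists.1 hy
  have h1 := conj_mem_of_norm h.hw ((h.r.facts h.hw h.w1 h.w2).1 d (h.l.le_r hd) (h.l.inf_le
    (mul_mem (mul_mem h.hw (h.l.cfg.nD hd)) (inv_mem h.hw)) (h.l.adj hx x1 hx' hy')))
  exact inv_mem_iff.1 (h.r.ti h1 y1 (by simpa using mem_conj.1 hy'))

theorem fpf : ∀ y ∈ T, k * y = y * k → y = 1 := h.l.cit.fpf h.l.syl.isPGroup h.k1 h.ko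

theorem decomp (hb : b ∈ 𝐍(T)) : ∃ x ∈ T, ∃ c ∈ 𝐍(T) ⊓ 𝐂[k], b = x * c := by
  obtain ⟨x, hx, e⟩ := exists_conj_of_fpf h.hk h.fpf (h.l.comm_mem hb h.hk)
  refine ⟨x, hx, x⁻¹ * b, mem_inf.2 ⟨mul_mem (inv_mem (le_norm_self T hx)) hb, mem_cent1_iff_conj.2 ?_⟩,
    by simp⟩
  calc _ = x⁻¹ * (b * k * b⁻¹ * k⁻¹ * k) * x := by group
    _ = _ := by rw [e]; group

theorem trans (hz : z ∈ A ⊓ D) (z1 : z ≠ 1) (hy : y ∈ A ⊓ D) (y1 : y ≠ 1) :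
    ∃ c ∈ 𝐍(T) ⊓ 𝐂[k], y = c * z * c⁻¹ := by
  obtain ⟨g, -, rfl⟩ := h.l.trans hz.2 z1 hy.2 y1
  obtain ⟨x, hx, c, hc, rfl⟩ := h.decomp (h.l.mem_B hz z1 hy)
  refine ⟨c, hc, ?_⟩
  rw [← h.l.cent (inv_mem hx) hy]
  group

theorem norm_Z (hc : c ∈ 𝐍(T)) (hz : z ∈ A ⊓ D) : c * z * c⁻¹ ∈ A ⊓ D :=
  conj_mem_of_norm (h.l.cfg.norm_Z (h.l.eq ▸ hc)) hz

theorem A_eq : (A ⊓ D) ⊔ w •ᶜ (A ⊓ D) = A := by
  have h1 : w •ᶜ (A ⊓ D) ≤ A := conj_le_of_mem_norm h.hw inf_le_left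
  refine eq_of_le_of_card_le (sup_le inf_le_left h1) (Eq.le ?_)
  rw [card_sup_of_inf_eq_bot (Or.inr (h1.trans (le_norm_of_ab h.l.cfg.abA inf_le_left))), card_conj,
    h.l.cfg.cardZ, h.l.cfg.cardA, sq]
  refine eq_bot_iff.2 fun x hx => by_contra fun x1 => h.w1 ?_
  obtain ⟨y, hy, rfl⟩ := mem_conj_iff_exists.1 hx.2
  exact h.l.mem_B hy (fun e => x1 (by simp [e])) hx.1

theorem exists_z : ∃ z ∈ A ⊓ D, z ≠ 1 ∧ v * (w * z * w⁻¹) * v = w * z * w⁻¹ * v * (w * z * w⁻¹) ∧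
    ∀ y ∈ A ⊓ D, w * z * w⁻¹ * (v * y * v⁻¹) * (w * z * w⁻¹)⁻¹ = y * (v * y * v⁻¹) := by
  obtain ⟨a, ha, a1, e⟩ := (h.l.facts h.hv h.v1 h.v2).2.2
  obtain ⟨y, hy, _, hx, rfl⟩ := (mem_sup_norm_left (((conj_le_of_mem_norm h.hw inf_le_left).trans
    (le_norm_of_ab h.l.cfg.abA inf_le_left)))).1 (h.A_eq.ge ha)
  obtain ⟨z, hz, rfl⟩ := mem_conj_iff_exists.1 hx
  have h1 : ∀ x ∈ A ⊓ D, v * (x * (w * z * w⁻¹)) * v = x * (w * z * w⁻¹) * v * (x * (w * z * w⁻¹)) :=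
    fun x hx => by
      simpa only [← mul_assoc, inv_mul_cancel_right] using e _ (mul_mem hx (inv_mem hy))
  have h2 := h1 1 (one_mem _)
  rw [one_mul] at h2
  refine ⟨z, hz, fun e => a1 (by simpa [e] using hy.2), h2, fun x hx => ?_⟩
  have h3 := h1 x hx
  generalize w * z * w⁻¹ = a at h2 h3
  calc _ = x⁻¹ * (x * a * v * (x * a)) * (a * v * a)⁻¹ := by group
    _ = x⁻¹ * (v * x * v⁻¹) := by rw [← h2, ← h3]; group
    _ = _ := by rw [inv_eq_of_mul_self (h.l.cfg.sqA x hx.1)]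

theorem exists_z' : ∃ z ∈ A ⊓ D, z ≠ 1 ∧
    (v * (w * z * w⁻¹) * v = w * z * w⁻¹ * v * (w * z * w⁻¹) ∧
      ∀ y ∈ A ⊓ D, w * z * w⁻¹ * (v * y * v⁻¹) * (w * z * w⁻¹)⁻¹ = y * (v * y * v⁻¹)) ∧
    w * (v * z * v⁻¹) * w = v * z * v⁻¹ * w * (v * z * v⁻¹) ∧
      ∀ y ∈ D ⊓ A, v * z * v⁻¹ * (w * y * w⁻¹) * (v * z * v⁻¹)⁻¹ = y * (w * y * w⁻¹) := by
  obtain ⟨z, hz, z1, h1⟩ := h.exists_z
  obtain ⟨y, hy, -, h2⟩ := h.symm.exists_z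
  obtain rfl : y = z := by
    have h3 := h1.2 y ⟨hy.2, hy.1⟩
    have h4 := h2.2 z ⟨hz.2, hz.1⟩
    generalize w * z * w⁻¹ = a at h3 h4
    generalize v * y * v⁻¹ = d at h3 h4
    calc _ = (d * a * d⁻¹ * a⁻¹)⁻¹ := by
          rw [eq_mul_inv_of_mul_eq h3.symm]; group
      _ = _ := by rw [h4, mul_inv_cancel_right, inv_eq_of_mul_self (h.l.cfg.sqA z hz.1)]
  exact ⟨y, hz, z1, h1, h2⟩

theorem inv (hc : c ∈ 𝐂[k]) : w * c * w⁻¹ = c⁻¹ :=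
  h.l.cit.inv_cent h.k1 h.ko (fun e => h.w1 (e ▸ one_mem _)) h.w2 h.wk hc

theorem cube (hc : c ∈ 𝐍(T) ⊓ 𝐂[k]) : c ^ 3 = 1 := by
  obtain ⟨z, hz, z1, ⟨-, h1⟩, -, h2⟩ := h.exists_z'
  have h3 := h1 _ (h.norm_Z hc.1 hz)
  have h4 := h2 _ (inf_comm A D ▸ h.norm_Z (inv_mem hc.1) hz)
  rw [show v * (c * z * c⁻¹) * v⁻¹ = v * c * v⁻¹ * (v * z * v⁻¹) * (v * c * v⁻¹)⁻¹ by group,
    h.symm.inv hc.2] at h3
  rw [show w * (c⁻¹ * z * c⁻¹⁻¹) * w⁻¹ = (w * c * w⁻¹)⁻¹ * (w * z * w⁻¹) * (w * c * w⁻¹) by group,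
    h.inv hc.2] at h4
  have z2 := h.l.cfg.sqA z hz.1
  refine h.l.cit z _ z1 z2 ?_ (Odd.of_dvd_nat (h.l.cit.odd_cent h.k1 h.ko hc.2) (orderOf_pow_dvd 3))
  generalize w * z * w⁻¹ = a at h3 h4
  generalize v * z * v⁻¹ = d at h3 h4
  calc _ = c * c * (a * (c⁻¹ * d * c⁻¹⁻¹) * a⁻¹ * (c⁻¹ * d * c⁻¹⁻¹)⁻¹) * c := by rw [h3, pow_three]; group
    _ = c * (d * (c⁻¹⁻¹ * a * c⁻¹) * d⁻¹ * (c⁻¹⁻¹ * a * c⁻¹)⁻¹)⁻¹ * c * c := by group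
    _ = z⁻¹ * c ^ 3 := by rw [h4, pow_three]; group
    _ = _ := by rw [inv_eq_of_mul_self z2]

theorem four : q = 4 ∧ ♯(𝐍(T) ⊓ 𝐂[k]) = 3 := by
  have h1 : T ⊔ 𝐍(T) ⊓ 𝐂[k] = 𝐍(T) := le_antisymm (sup_le (le_norm_self T) inf_le_left) fun b hb => by
    obtain ⟨x, hx, c, hc, rfl⟩ := h.decomp hb
    exact mul_mem_sup hx hc
  have h2 := card_sup_of_inf_eq_bot (A := T) (Or.inr inf_le_left) (eq_bot_iff.2 fun x hx =>
    h.fpf x hx.1 (mem_cent1.1 (show x ∈ 𝐂[k] from hx.2.2)).symm)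
  have h4 := h.l.cfg.four
  rw [h1, h.l.card_T, ← h.l.eq, h.l.cfg.cardT, h.l.eq, mul_right_inj' (by positivity)] at h2
  obtain ⟨j, hj⟩ := (IsPGroup.iff_card (p := 3) (G := (𝐍(T) ⊓ 𝐂[k] : Subgroup G))).1 fun c =>
    ⟨1, Subtype.ext (by simpa using h.cube c.2)⟩
  obtain ⟨n, hn⟩ := (h.l.syl.isPGroup.to_le (inf_le_left.trans h.l.le_l : A ⊓ D ≤ T)).exists_card_eq
  rw [h.l.cfg.cardZ] at hn
  obtain rfl := ZL.eq_one_of_pow_add_one (p := 3) (a := j) (n := n) (by decide) (by decide) (by omega)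
    (by rintro rfl; omega)
  omega

theorem k3 : k ^ 3 = 1 := h.cube (mem_inf.2 ⟨h.hk, mem_cent1_self k⟩)

theorem h2 (hz : z ∈ A ⊓ D) (z1 : z ≠ 1)
    (e : v * (w * z * w⁻¹) * v = w * z * w⁻¹ * v * (w * z * w⁻¹) ∧
      ∀ y ∈ A ⊓ D, w * z * w⁻¹ * (v * y * v⁻¹) * (w * z * w⁻¹)⁻¹ = y * (v * y * v⁻¹)) : H2 k z w v := by
  have h1 := h.norm_Z h.hk hz
  have h2 := h.norm_Z h.hk h1
  have ab := ab_iff.1 h.l.cfg.abA
  have h3 := conj_mem_of_norm h.hw hz.1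
  refine ⟨h.k3, z1, h.l.cfg.sqA z hz.1, ?_, h.w2, h.wk, ab _ hz.1 _ h3, ab _ h1.1 _ h3, e.2 z hz,
    e.2 _ h1, e.1⟩
  have h4 := h.fpf _ (h.l.le_l (mul_mem (mul_mem hz.1 h1.1) h2.1)) (by
    calc _ = k * z * k⁻¹ * (k * (k * z * k⁻¹) * k⁻¹) * (k ^ 3 * z * (k ^ 3)⁻¹) * k := by
          rw [pow_three]; group
      _ = _ := by rw [h.k3, one_mul, inv_one, mul_one, ← ab _ hz.1 _ (mul_mem h1.1 h2.1), ← mul_assoc])
  rw [eq_inv_of_mul_eq_one_right h4, inv_eq_of_mul_self (h.l.cfg.sqA _ (mul_mem hz.1 h1.1))]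

theorem not_meet (hx : x ∈ D) (x1 : x ≠ 1) : x ∉ (w * v * w) •ᶜ A := fun hx' => by
  obtain ⟨z, hz, z1⟩ := h.l.exists_Z
  rw [← conj_conj, conj_eq_of_mem_norm h.hw, ← conj_conj, mem_conj] at hx'
  exact h.v1 (h.l.inf_le (h.uniq (conj_mem_of_norm h.hv hz.2) (BSW.conj_ne_one z1) (conj_mem_conj hz.1)
    (by simpa [inv_eq_of_mul_self h.w2] using conj_mem_conj (g := w) hx) (conj_ne_one'.2 x1) hx') h.hv)

theorem inf_eq (hx : x ∈ T) (hx' : w * v * w * x * (w * v * w)⁻¹ ∈ T) : x = 1 := by_contra fun x1 => by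
  obtain ⟨j, hj⟩ := exists_pow_of_mem h.l.syl.isPGroup hx
  obtain ⟨j, y1, y2⟩ := exists_inv_pow x1 hj
  have hy := pow_mem hx (2 ^ j)
  have hy' := pow_mem hx' (2 ^ j)
  rw [conj_pow] at hy'
  generalize x ^ 2 ^ j = y at y1 y2 hy hy'
  have n2 : (w * v * w)⁻¹ = w * v * w := by
    simp only [mul_inv_rev, inv_eq_of_mul_self h.w2, inv_eq_of_mul_self h.v2, mul_assoc]
  rcases h.l.cfg.mem_or (h.l.eq ▸ hy) y2 with h1 | h1 <;>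
    rcases h.l.cfg.mem_or (h.l.eq ▸ hy') (conj_mul_self y2) with h2 | h2
  · exact h.v1 (h.l.inf_le ((mul_mem_cancel_left h.hw).1 ((mul_mem_cancel_right h.hw).1
      (h.r.ti h1 y1 h2))) h.hv)
  · exact h.not_meet h2 (BSW.conj_ne_one y1) (conj_mem_conj h1)
  · exact h.not_meet h1 y1 (mem_conj.2 (by rwa [n2] at h2 ⊢))
  · obtain ⟨z, hz, z1⟩ := h.l.exists_Z
    exact h.not_meet (conj_mem_of_norm (h.l.ti h1 y1 h2) hz.2) (BSW.conj_ne_one z1) (conj_mem_conj hz.1)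

theorem card_D : ♯𝐍(D) = 960 := by rw [h.l.card_D, h.four.1]; rfl

theorem exists_conj (hy : y ∈ 𝐍(D)) (y1 : y ≠ 1) (y3 : y ^ 3 = 1) : ∃ g, g * y * g⁻¹ = k := by
  classical
  have := Fact.mk Nat.prime_three
  have h1 := orderOf_eq_prime h.k3 h.k1
  have h2 := h.l.norm_le h.hk
  obtain ⟨g, -, hg⟩ := (show Syl 3 (zpowers k) 𝐍(D) from ⟨zpowers_le.2 h2, IsPGroup.of_card (n := 1)
    (by rw [Nat.card_zpowers, h1]; rfl), fun e => by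
      have := card_mul_relIndex (zpowers_le.2 h2)
      rw [Nat.card_zpowers, h1, h.card_D] at this
      omega⟩).exists_conj_le (zpowers_le.2 hy) (IsPGroup.of_card (n := 1)
    (by rw [Nat.card_zpowers, orderOf_eq_prime y3 y1]; rfl))
  obtain ⟨i, hi, e⟩ := Finset.mem_image.1 (mem_zpowers_iff_mem_range_orderOf.1
    (hg (conj_mem_conj (mem_zpowers y))))
  rw [h1, Finset.mem_range] at hi
  interval_cases i
  · exact absurd e.symm (by simpa using y1)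
  · exact ⟨g, by rw [← e, pow_one]⟩
  · exact ⟨v⁻¹ * g, by
      rw [show v⁻¹ * g * y * (v⁻¹ * g)⁻¹ = v⁻¹ * (g * y * g⁻¹) * v by group, ← e,
        eq_inv_of_mul_eq_one_left ((pow_succ k 2).symm.trans h.k3), ← h.vk]; group⟩

theorem conj_k (hz : z ∈ A ⊓ D) (e : v * (w * z * w⁻¹) * v = w * z * w⁻¹ * v * (w * z * w⁻¹)) :
    ∃ g, g * (w * v * w * z) * g⁻¹ = k := by
  have ha := conj_mem_of_norm h.hw hz.1
  obtain ⟨g, hg⟩ := h.exists_conj (mul_mem h.hv (h.l.cfg.nA ha)) (fun e => h.v1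
    (eq_inv_of_mul_eq_one_left e ▸ inv_mem (le_norm_self T (h.l.le_l ha)))) (by
      have a2 := h.l.cfg.sqA _ ha
      generalize w * z * w⁻¹ = a at e a2
      calc _ = v * a * v * (a * v * a) := by rw [pow_three]; group
        _ = a * v * (a * a) * v * a := by rw [e]; group
        _ = 1 := by rw [a2, mul_one, mul_assoc a, h.v2, mul_one, a2])
  exact ⟨g * w⁻¹, by rw [← hg, mul_inv_rev, inv_inv]; nth_rw 4 [← inv_eq_of_mul_self h.w2]; group⟩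

theorem braid : w * v * w = v * w * v := by
  obtain ⟨z, hz, z1, ⟨h1, -⟩, h2, -⟩ := h.exists_z'
  obtain ⟨a, ha⟩ := h.conj_k hz h1
  obtain ⟨b, hb⟩ := h.symm.conj_k ⟨hz.2, hz.1⟩ h2
  have z2 := h.l.cfg.sqA z hz.1
  have i0 : ∀ {w v}, w * k * w⁻¹ = k⁻¹ → v * k * v⁻¹ = k⁻¹ → w * v * w * k * (w * v * w)⁻¹ = k⁻¹ :=
    fun {w v} e1 e2 => by
      rw [show w * v * w * k * (w * v * w)⁻¹ = w * (v * (w * k * w⁻¹)⁻¹ * v⁻¹)⁻¹ * w⁻¹ by group, e1,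
        inv_inv, e2, inv_inv, e1]
  have i1 := i0 h.wk h.vk
  have i2 := i0 h.vk h.wk
  have n1 := conj_mul_self (g := w) h.v2
  have n2 := conj_mul_self (g := v) h.w2
  rw [inv_eq_of_mul_self h.w2] at n1
  rw [inv_eq_of_mul_self h.v2] at n2
  have h3 := fun x => h.inf_eq (x := x)
  generalize w * v * w = n at *
  generalize v * w * v = m at *
  have inv : ∀ a n, a * (n * z) * a⁻¹ = k → n * n = 1 → a * z * a⁻¹ * k * (a * z * a⁻¹)⁻¹ = k⁻¹ :=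
    fun a n e n2 => by
      rw [← e, conj_inv (a := n * z), mul_inv_rev n, inv_eq_of_mul_self n2, inv_eq_of_mul_self z2]
      group
  obtain ⟨c, hc, e⟩ := h.l.cit.exists_cent_conj h.k1 h.ko (conj_mul_self z2) (conj_mul_self z2)
    (inv a n ha n1) (inv b m hb n2)
  have h4 : b⁻¹ * c * a ∈ T := h.l.cent_Z hz z1 ▸ mem_cent1_iff_conj.2 (by
    calc _ = b⁻¹ * (c * (a * z * a⁻¹) * c⁻¹) * b := by group
      _ = _ := by rw [← e]; group)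
  have h5 : m = b⁻¹ * c * a * n * (b⁻¹ * c * a)⁻¹ := by
    calc _ = b⁻¹ * (b * (m * z) * b⁻¹) * b * z⁻¹ := by group
      _ = b⁻¹ * (c * (a * (n * z) * a⁻¹) * c⁻¹) * (b * z * b⁻¹)⁻¹ * b := by
        rw [hb, ha, mem_cent1_iff_conj.1 hc]; group
      _ = _ := by rw [e]; group
  generalize b⁻¹ * c * a = x at h4 h5
  have h6 := mul_mem (conj_mem_of_norm' h.hk (inv_mem h4)) h4
  have h7 := h3 _ h6 (by
    convert conj_mem_of_norm h.hk (inv_mem h6) using 1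
    calc _ = (n * k * n⁻¹)⁻¹ * x⁻¹ * (x * n * x⁻¹ * k * (x * n * x⁻¹)⁻¹) * x := by group
      _ = _ := by rw [← h5, i1, i2]; group)
  rw [h5, h.fpf x h4 (by rw [← mul_one (x * k), ← h7]; group), one_mul, inv_one, mul_one]

variable {M : Subgroup G}

theorem le_M (hz : z ∈ A ⊓ D) (z1 : z ≠ 1) (hk : k ∈ M) (hz' : z ∈ M) (hw : w ∈ M) (hv : v ∈ M) :
    𝐍(D) ≤ M := by
  have h1 : 𝐍(T) ⊓ 𝐂[k] ≤ M := eq_zpowers_of_prime (h.four.2 ▸ Nat.prime_three)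
    (mem_inf.2 ⟨h.hk, mem_cent1_self k⟩) h.k1 ▸ zpowers_le.2 hk
  have h2 : A ⊓ D ≤ M := fun y hy => by
    by_cases y1 : y = 1
    · exact y1 ▸ one_mem M
    obtain ⟨c, hc, rfl⟩ := h.trans hz z1 hy y1
    exact mul_mem (mul_mem (h1 hc) hz') (inv_mem (h1 hc))
  have h3 : T ≤ M := h.l.eq ▸ sup_le (h.A_eq ▸ sup_le h2 (conj_le_of_mem hw h2))
    (h.symm.A_eq ▸ sup_le (inf_comm A D ▸ h2) (conj_le_of_mem hv (inf_comm A D ▸ h2)))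
  refine (h.l.facts h.hv h.v1 h.v2).2.1.trans (sup_le (fun b hb => ?_) (zpowers_le.2 hv))
  obtain ⟨x, hx, c, hc, rfl⟩ := h.decomp hb
  exact mul_mem (h3 hx) (h1 hc)

theorem card_M (hM : 𝐍(D) ≤ M) (hw : w ∈ M) (hc : ♯M ≤ 20160) : ♯M = 20160 := by
  obtain ⟨z, hz, z1⟩ := h.l.exists_Z
  have h1 : ∀ g ∈ w •ᶜ 𝐍(D) ⊓ 𝐍(D), g ∈ 𝐍(A) := fun g hg =>
    h.uniq (conj_mem_of_norm hg.2 hz.2) (BSW.conj_ne_one z1) (conj_mem_conj hz.1)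
      (conj_mem_of_norm (norm_conj w D ▸ hg.1) (conj_mem_conj hz.2)) (BSW.conj_ne_one (BSW.conj_ne_one z1))
      (conj_mem_conj (conj_mem_of_norm h.hw hz.1))
  have h2 := card_le (show T ⊓ (w •ᶜ 𝐍(D) ⊓ 𝐍(D)) ≤ A from fun x hx =>
    (h.r.facts h.hw h.w1 h.w2).1 x hx.1 (h.l.inf_le (mul_mem (mul_mem h.hw (h1 x hx.2)) (inv_mem h.hw))
      (by simpa [inv_eq_of_mul_self h.w2] using mem_conj.1 (show x ∈ w •ᶜ 𝐍(D) from hx.2.1))))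
  have h3 := relIndex_le_of_le_right (H := T) (fun g hg => h.l.inf_le (h1 g hg) hg.2)
    (relIndex_pos _ _).ne'
  have h4 := card_mul_relIndex (le_norm_self T)
  have h5 := card_inf_mul_relIndex T (w •ᶜ 𝐍(D) ⊓ 𝐍(D))
  have h6 := card_inf_mul_relIndex (w •ᶜ 𝐍(D)) 𝐍(D)
  have h7 := relIndex_le_of_le_right (H := w •ᶜ 𝐍(D)) hM (relIndex_pos _ _).ne'
  have h8 := card_mul_relIndex hM
  have h9 := fun e => (h.l.syl.mono (h.l.T_le.trans hM) le_top).not_dvd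
    (dvd_trans e (relIndex_dvd_of_le_left M h.l.T_le))
  nth_rw 1 [← conj_eq_of_mem hw] at h7
  rw [relIndex_conj] at h7
  rw [h.l.card_T, ← h.l.eq, h.l.cfg.cardT, h.l.eq, h.four.1] at h4
  rw [h.l.cfg.cardA, h.four.1] at h2
  rw [h.card_D] at h6 h8
  have h10 : ♯(w •ᶜ 𝐍(D) ⊓ 𝐍(D)) ≤ 16 * 3 := h5 ▸ Nat.mul_le_mul h2 (by omega)
  have h11 := h6.ge.trans (Nat.mul_le_mul h10 h7)
  replace h9 : ¬ 2 ∣ (𝐍(D)).relIndex M := h9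
  omega

theorem eq_top (hpp : ∀ g : G, g ≠ 1 → IsPrimePow (orderOf g)) (hM : 𝐍(D) ≤ M) (hM' : 𝐍(A) ≤ M) :
    M = ⊤ := by_contra fun hne => by
  obtain ⟨z, hz, z1⟩ := h.l.exists_Z
  have z2 := h.l.cfg.sqA z hz.1
  have hT := h.l.T_le.trans hM
  have h1 : ∀ u ∈ M, u ≠ 1 → u * u = 1 → ∃ m ∈ M, u = m * z * m⁻¹ := fun u hu u1 u2 => by
    obtain ⟨g, hg, e⟩ := (h.l.syl.mono hT le_top).exists_conj_le (zpowers_le.2 hu)
      (isPGroup_of_sq fun x hx => by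
        obtain ⟨i, rfl⟩ := hx
        simp only [← (Commute.refl _).mul_zpow, u2, one_zpow])
    have key : ∀ m ∈ M, g * u * g⁻¹ = m * z * m⁻¹ → ∃ m ∈ M, u = m * z * m⁻¹ := fun m hm e =>
      ⟨_, mul_mem (inv_mem hg) hm, by rw [mul_inv_rev, mul_assoc, mul_assoc, ← mul_assoc z,
        ← mul_assoc m, ← mul_assoc m, ← e]; group⟩
    rcases h.l.cfg.mem_or (h.l.eq ▸ e (conj_mem_conj (mem_zpowers u))) (conj_mul_self u2) with e | e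
    · obtain ⟨m, hm, e⟩ := h.r.trans hz.1 z1 e (BSW.conj_ne_one u1)
      exact key m (hM' hm) e
    · obtain ⟨m, hm, e⟩ := h.l.trans hz.2 z1 e (BSW.conj_ne_one u1)
      exact key m (hM hm) e
  have hS : ZL.SE M := ⟨hne, orderOf_inv' z1 z2 ▸ orderOf_dvd_card (hT (h.l.le_l hz.1)), fun g hg e => by
    obtain ⟨x, hx, x1, x2⟩ := R1.exists_invol_mem e
    obtain ⟨m, hm, rfl⟩ := h1 x hx.1 x1 x2
    obtain ⟨n, hn, e⟩ := h1 _ (mem_conj.1 hx.2) (conj_ne_one'.2 x1)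
      (by simpa using conj_mul_self (g := g⁻¹) x2)
    have := hT (h.l.cent_Z hz z1 ▸ mem_cent1_iff_conj.2 (show n⁻¹ * g⁻¹ * m * z * (n⁻¹ * g⁻¹ * m)⁻¹ = z by
      calc _ = n⁻¹ * (g⁻¹ * (m * z * m⁻¹) * g) * n := by group
        _ = _ := by rw [e]; group))
    exact hg (inv_mem_iff.1 ((mul_mem_cancel_left (inv_mem hn)).1 ((mul_mem_cancel_right hm).1 this)))⟩
  obtain ⟨t, ht, t2⟩ := hS.exists_out
  have ho := hS.odd t ht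
  have tt : t * t = 1 := by rw [← sq, ← t2, pow_orderOf_eq_one]
  have inv : ∀ y ∈ M ⊓ t •ᶜ M, t * y * t⁻¹ = y⁻¹ := fun y hy => h.l.cit.inverts
    (fun y hy => Nat.not_even_iff_odd.1 fun e => ho (e.two_dvd.trans (orderOf_dvd_card hy)))
    (conj_eq_self_iff.1 (by rw [conj_inf, conj_conj, tt, conj_eq_of_mem (one_mem M), inf_comm]))
    (fun e => ht (e ▸ one_mem M)) tt hy
  have h2 : ♯𝐍(D) ≤ ♯(M ⊓ t •ᶜ M ⊓ 𝐍(D)) * ♯T := card_le_of_cover (↑) fun g hg => by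
    have hd := conj_mem_of_norm hg hz.2
    obtain ⟨c, hc, -, e⟩ := hS.exists_conj ht t2 (hT (h.l.le_r hz.2)) (orderOf_inv' z1 z2)
      (hT (h.l.le_r hd)) (orderOf_inv' (BSW.conj_ne_one z1) (conj_mul_self z2))
    exact ⟨⟨c, hc, h.l.ti hz.2 z1 (e ▸ hd)⟩, c⁻¹ * g, h.l.cent_Z hz z1 ▸ mem_cent1_iff_conj.2 (by
      calc _ = c⁻¹ * (g * z * g⁻¹) * c := by group
        _ = _ := by rw [← e]; group), by simp⟩
  have h3 := card_dvd (inf_le_right : M ⊓ t •ᶜ M ⊓ 𝐍(D) ≤ _)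
  have h4 : ¬ 2 ∣ ♯(M ⊓ t •ᶜ M ⊓ 𝐍(D)) := fun e => ho (dvd_trans e (card_dvd inf_le_left))
  rw [h.card_D, ← h.l.eq, h.l.cfg.cardT, h.four.1] at h2
  rw [h.card_D] at h3
  have h5 : ♯(M ⊓ t •ᶜ M ⊓ 𝐍(D)) = 15 := by
    have := Nat.le_of_dvd (by decide) ((Nat.coprime_two_right.2 (Nat.odd_iff.2 (by omega))).pow_right 6
      |>.dvd_of_dvd_mul_left (n := 15) h3)
    omega
  obtain ⟨a, ha, a3⟩ := cauchy Nat.prime_three (Dvd.intro 5 h5.symm)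
  obtain ⟨b, hb, b5⟩ := cauchy Nat.prime_five (Dvd.intro 3 h5.symm)
  refine S3992.not_commute hpp (a := a) (b := b) (by rintro rfl; simp at a3) (by rintro rfl; simp at b5)
    (by rw [a3, b5]; decide) (inv_injective ?_)
  rw [← inv _ (mul_mem ha.1 hb.1), mul_inv_rev, ← inv a ha.1, ← inv b hb.1, conj_mul]

end Su

theorem Par.equiv {S : Subgroup (Coset D)} {t : Coset D} (h : Par D S t) (hO : pCore 2 G = ⊥)
    (hpp : ∀ g : G, g ≠ 1 → IsPrimePow (orderOf g)) :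
    Nat.card G = 20160 ∧ Nonempty (G ≃* Matrix.ProjectiveSpecialLinearGroup (Fin 3) F4) := by
  obtain ⟨A, T, q, k, w, v, s⟩ := h.exists_su hO
  obtain ⟨z, hz, z1, h1, h2⟩ := s.exists_z'
  have h3 : A2 k z w v := ⟨s.h2 hz z1 h1, s.symm.h2 ⟨hz.2, hz.1⟩ z1 h2, s.braid⟩
  have m : ∀ x ∈ ({k, z, w, v} : Set G), x ∈ closure ({k, z, w, v} : Set G) := subset_closure
  have h4 := s.le_M hz z1 (m k (by simp)) (m z (by simp)) (m w (by simp)) (m v (by simp))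
  have h5 := s.eq_top hpp h4 (s.symm.le_M ⟨hz.2, hz.1⟩ z1 (m k (by simp)) (m z (by simp))
    (m v (by simp)) (m w (by simp)))
  have h6 := s.card_M h4 (m w (by simp)) h3.card_le
  rw [h5, card_top] at h6
  obtain ⟨k', z', w', v', h7⟩ := a2_L34
  have := h.isSimpleGroup hO
  exact ⟨h6, h3.nonempty_equiv h7 h5 h6 card_L34⟩

end Cfsg.Agent.CIT
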